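import Groth.Agent.HilbTgtLib.Signs

/-! Strongly stable ideals in three variables. -/

namespace HilbTgtLib
open MvPolynomial W4c1hilbpn

variable {k : Type*} [Field k] (I : Ideal (MvPolynomial (Fin 3) k))

theorem mem_sliceX (a : ℕ) (f : MvPolynomial (Fin 2) k) :
    f ∈ sliceX I a ↔ X 0 ^ a * rename Fin.succ f ∈ I := by
  rw [sliceX, Ideal.mem_comap, Submodule.mem_colon_singleton, smul_eq_mul, mul_comm]
  rfl

theorem term_eq (a : ℕ) (β : Fin 2 →₀ ℕ) (c : k) :
    (X 0 : MvPolynomial (Fin 3) k) ^ a * rename Fin.succ (monomial β c) = monomial (Finsupp.cons a β) c := by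
  rw [rename_monomial, X_pow_eq_monomial, monomial_mul, one_mul]
  refine congrArg (fun e : Fin 3 →₀ ℕ => monomial e c) ?_
  ext l
  refine Fin.cases ?_ (fun i => ?_) l
  · simp [Finsupp.mapDomain_notin_range _ _ (show (0 : Fin 3) ∉ Set.range Fin.succ by simp)]
  · simp [Finsupp.mapDomain_apply (Fin.succ_injective 2)]

theorem exps_sliceX (a : ℕ) (β : Fin 2 →₀ ℕ) : β ∈ exps (sliceX I a) ↔ Finsupp.cons a β ∈ exps I := by
  show monomial β (1 : k) ∈ sliceX I a ↔ monomial (Finsupp.cons a β) (1 : k) ∈ I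
  rw [mem_sliceX, term_eq]

theorem sliceX_eq_sum (a : ℕ) (f : MvPolynomial (Fin 2) k) :
    (X 0 : MvPolynomial (Fin 3) k) ^ a * rename Fin.succ f = ∑ β ∈ f.support, monomial (Finsupp.cons a β) (coeff β f) := by
  conv_lhs => rw [f.as_sum, map_sum, Finset.mul_sum]
  exact Finset.sum_congr rfl fun β _ => term_eq a β _

theorem exps_of_mem_sliceX (hI : IsMonomial I) (a : ℕ) {f : MvPolynomial (Fin 2) k} (hf : f ∈ sliceX I a)
    {β : Fin 2 →₀ ℕ} (hβ : β ∈ f.support) : Finsupp.cons a β ∈ exps I := by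
  classical
  rw [mem_sliceX, sliceX_eq_sum] at hf
  refine hI _ hf _ ?_
  rw [mem_support_iff, coeff_sum, Finset.sum_eq_single β, coeff_monomial, if_pos rfl]
  · exact mem_support_iff.1 hβ
  · intro γ _ hne
    rw [coeff_monomial, if_neg fun e => hne ?_]
    have := congrArg Finsupp.tail e
    simpa using this
  · exact fun h => absurd hβ h

theorem sliceX_isStable (hI : IsStronglyStable I) (a : ℕ) : IsStronglyStable (sliceX I a) := by
  classical
  refine ⟨fun p hp β hβ => (exps_sliceX I a β).2 (exps_of_mem_sliceX I hI.1 a hp hβ), fun β hβ i j hij hpos => ?_⟩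
  rw [exps_sliceX] at hβ ⊢
  have := hI.2 _ hβ i.succ j.succ (Fin.succ_lt_succ_iff.2 hij) (by simpa using hpos)
  convert this using 1
  ext l
  refine Fin.cases ?_ (fun m => ?_) l
  · simp [Finsupp.single_apply]
  · simp [Finsupp.single_apply]

theorem colon_sliceX_le (hI : IsStronglyStable I) (a : ℕ) :
    (sliceX I a).colon {(X 0 : MvPolynomial (Fin 2) k)} ≤ sliceX I (a + 1) := by
  classical
  intro f hf
  rw [Submodule.mem_colon_singleton, smul_eq_mul] at hf
  rw [mem_sliceX, sliceX_eq_sum]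
  refine Submodule.sum_mem _ fun β hβ => ?_
  have h1 : Finsupp.cons a (β + Finsupp.single 0 1) ∈ exps I := by
    refine exps_of_mem_sliceX I hI.1 a hf ?_
    rw [mem_support_iff, coeff_mul_X]
    exact mem_support_iff.1 hβ
  have h2 := hI.2 _ h1 0 (Fin.succ 0) (by simp) (by rw [Finsupp.cons_succ]; simp)
  have e : Finsupp.cons a (β + Finsupp.single (0 : Fin 2) 1) - Finsupp.single (Fin.succ 0) 1 + Finsupp.single 0 1 = Finsupp.cons (a + 1) β := by
    ext l
    refine Fin.cases ?_ (fun m => ?_) l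
    · simp [Finsupp.single_apply]
    · simp only [Finsupp.add_apply, Finsupp.tsub_apply, Finsupp.cons_succ]
      rcases eq_or_ne m 0 with rfl | hm
      · simp
      · fin_cases m
        · simp at hm
        · simp
  rw [e] at h2
  rw [show monomial (Finsupp.cons (a + 1) β) (coeff β f) = C (coeff β f) * monomial (Finsupp.cons (a + 1) β) 1 by rw [C_mul_monomial, mul_one]]
  exact I.mul_mem_left _ h2

theorem e3_val (a b c : ℕ) : e3 a b c 0 = a ∧ e3 a b c 1 = b ∧ e3 a b c 2 = c := by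
  simp [e3]

theorem e3_move1 (i j c : ℕ) : e3 i (j + 1) c - Finsupp.single 1 1 + Finsupp.single 0 1 = e3 (i + 1) j c := by
  obtain ⟨a0, a1, a2⟩ := e3_val i (j + 1) c
  obtain ⟨b0, b1, b2⟩ := e3_val (i + 1) j c
  ext l
  fin_cases l
  · show (e3 i (j + 1) c - Finsupp.single 1 1 + Finsupp.single 0 1 : Fin 3 →₀ ℕ) 0 = _
    rw [Finsupp.add_apply, Finsupp.tsub_apply, Finsupp.single_eq_same, Finsupp.single_eq_of_ne (by decide), a0]; exact b0.symm
  · show (e3 i (j + 1) c - Finsupp.single 1 1 + Finsupp.single 0 1 : Fin 3 →₀ ℕ) 1 = _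
    rw [Finsupp.add_apply, Finsupp.tsub_apply, Finsupp.single_eq_same, Finsupp.single_eq_of_ne (by decide), a1]; exact b1.symm
  · show (e3 i (j + 1) c - Finsupp.single 1 1 + Finsupp.single 0 1 : Fin 3 →₀ ℕ) 2 = _
    rw [Finsupp.add_apply, Finsupp.tsub_apply, Finsupp.single_eq_of_ne (by decide), Finsupp.single_eq_of_ne (by decide), a2]; exact b2.symm

theorem e3_move2 (i j c : ℕ) : e3 i c (j + 1) - Finsupp.single 2 1 + Finsupp.single 0 1 = e3 (i + 1) c j := by
  obtain ⟨a0, a1, a2⟩ := e3_val i c (j + 1)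
  obtain ⟨b0, b1, b2⟩ := e3_val (i + 1) c j
  ext l
  fin_cases l
  · show (e3 i c (j + 1) - Finsupp.single 2 1 + Finsupp.single 0 1 : Fin 3 →₀ ℕ) 0 = _
    rw [Finsupp.add_apply, Finsupp.tsub_apply, Finsupp.single_eq_same, Finsupp.single_eq_of_ne (by decide), a0]; exact b0.symm
  · show (e3 i c (j + 1) - Finsupp.single 2 1 + Finsupp.single 0 1 : Fin 3 →₀ ℕ) 1 = _
    rw [Finsupp.add_apply, Finsupp.tsub_apply, Finsupp.single_eq_of_ne (by decide), Finsupp.single_eq_of_ne (by decide), a1]; exact b1.symm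
  · show (e3 i c (j + 1) - Finsupp.single 2 1 + Finsupp.single 0 1 : Fin 3 →₀ ℕ) 2 = _
    rw [Finsupp.add_apply, Finsupp.tsub_apply, Finsupp.single_eq_same, Finsupp.single_eq_of_ne (by decide), a2]; exact b2.symm

theorem finite_line [Module.Finite k (MvPolynomial (Fin 3) k ⧸ I)] (hI : IsMonomial I) (g : ℕ → (Fin 3 →₀ ℕ))
    (hg : Function.Injective g) : Finite {c : ℕ // g c ∉ exps I} := by
  haveI := (finite_std I hI).to_subtype
  exact Finite.of_injective (β := ↥((exps I)ᶜ)) (fun c => ⟨g c.1, c.2⟩) fun x y h => Subtype.ext (hg (congrArg Subtype.val h))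

theorem card_line_le (g g' : ℕ → (Fin 3 →₀ ℕ)) [Finite {c : ℕ // g c ∉ exps I}]
    (h : ∀ c, g c ∈ exps I → g' c ∈ exps I) :
    Nat.card {c : ℕ // g' c ∉ exps I} ≤ Nat.card {c : ℕ // g c ∉ exps I} :=
  Nat.card_le_card_of_injective (β := {c : ℕ // g c ∉ exps I}) (fun c => ⟨c.1, fun hc => c.2 (h _ hc)⟩)
    fun x y e => Subtype.ext (congrArg (fun z : {c : ℕ // g c ∉ exps I} => z.1) e)

theorem stair_le_of_stable [Module.Finite k (MvPolynomial (Fin 3) k ⧸ I)] (hI : IsStronglyStable I) (i j : ℕ) :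
    stairZ I (i + 1) j ≤ stairZ I i (j + 1) ∧ stairY I (i + 1) j ≤ stairY I i (j + 1) := by
  haveI h1 : Finite {c : ℕ // (fun c => e3 i (j + 1) c) c ∉ exps I} := finite_line I hI.1 _ fun x y h => by
    have e := DFunLike.congr_fun h (2 : Fin 3)
    rwa [(e3_val _ _ _).2.2, (e3_val _ _ _).2.2] at e
  haveI h2 : Finite {c : ℕ // (fun c => e3 i c (j + 1)) c ∉ exps I} := finite_line I hI.1 _ fun x y h => by
    have e := DFunLike.congr_fun h (1 : Fin 3)
    rwa [(e3_val _ _ _).2.1, (e3_val _ _ _).2.1] at e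
  refine ⟨card_line_le I (fun c => e3 i (j + 1) c) (fun c => e3 (i + 1) j c) fun c hc => ?_,
    card_line_le I (fun c => e3 i c (j + 1)) (fun c => e3 (i + 1) c j) fun c hc => ?_⟩
  · have := hI.2 _ hc 0 1 (by decide) (by rw [(e3_val _ _ _).2.1]; exact Nat.succ_pos j)
    rwa [e3_move1] at this
  · have := hI.2 _ hc 0 2 (by decide) (by rw [(e3_val _ _ _).2.2]; exact Nat.succ_pos j)
    rwa [e3_move2] at this

end HilbTgtLib
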