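import Groth.Agent.HilbTgtLib.Corner
import Groth.Agent.HilbTgtLib.Stable
import Mathlib.RingTheory.MvPolynomial.Ideal
import Mathlib.Data.Nat.Choose.Basic

/-! Bounds for strongly stable ideals and the power of the maximal ideal. -/

namespace HilbTgtLib
open MvPolynomial W4c1hilbpn

/-- triangular numbers -/
def T2 (n : ℕ) : ℕ := (n + 1).choose 2

/-- tetrahedral numbers -/
def T3 (n : ℕ) : ℕ := (n + 2).choose 3

theorem T2_succ (n : ℕ) : T2 (n + 1) = T2 n + (n + 1) := by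
  rw [T2, T2, Nat.choose_succ_succ' (n + 1) 1, Nat.choose_one_right]; ring

theorem T3_succ (n : ℕ) : T3 (n + 1) = T3 n + T2 (n + 1) := by
  rw [T3, T3, T2, Nat.choose_succ_succ' (n + 2) 2]; ring

theorem T2_mono : Monotone T2 := monotone_nat_of_le_succ fun n => by rw [T2_succ]; omega

theorem sum_T2 : ∀ n, ∑ i ∈ Finset.range n, T2 (n - i) = T3 n
  | 0 => by simp [T3]
  | n + 1 => by
    rw [Finset.sum_range_succ', T3_succ]
    simp only [Nat.add_sub_add_right, Nat.sub_zero, sum_T2 n]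

theorem sum_T2_Ico (r j : ℕ) : ∑ i ∈ Finset.Ico j r, T2 (r - i) = T3 (r - j) := by
  rw [Finset.sum_Ico_eq_sum_range, ← sum_T2 (r - j)]
  exact Finset.sum_congr rfl fun i _ => by rw [Nat.sub_add_eq]

theorem sum_T3 : ∀ n, ∑ j ∈ Finset.range n, T3 (n - j) = (n + 3).choose 4
  | 0 => by simp
  | n + 1 => by
    rw [Finset.sum_range_succ', show (n + 1 + 3).choose 4 = (n + 3).choose 4 + (n + 3).choose 3 by
      rw [show n + 1 + 3 = (n + 3) + 1 by ring, Nat.choose_succ_succ' (n + 3) 3]; ring]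
    simp only [Nat.add_sub_add_right, Nat.sub_zero, sum_T3 n]
    rfl

theorem sum_range_sub (d N : ℕ) (h : d ≤ N) : ∑ q ∈ Finset.range N, (d - q) = T2 d := by
  induction d generalizing N with
  | zero => simp [T2]
  | succ d ih =>
    obtain ⟨M, rfl⟩ : ∃ M, N = M + 1 := ⟨N - 1, by omega⟩
    rw [Finset.sum_range_succ', T2_succ]
    simp only [Nat.add_sub_add_right, Nat.sub_zero, ih M (by omega)]

section Seq
variable (a s : ℕ → ℕ) (h1 : ∀ i, a i ≤ T2 (s i)) (h2 : ∀ i, s i ≠ 0 → a (i + 1) + s i ≤ a i)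
  (h3 : Antitone a) (r : ℕ) (hsum : ∀ M, ∑ i ∈ Finset.range M, a i ≤ T3 r)

include h1 h2 h3 in
theorem seq_excess {i : ℕ} (hir : i ≤ r) (hi : T2 (r - i) < a i) : ∀ i' ≤ i, T2 (r - i') < a i' := by
  induction i with
  | zero => intro i' h'; rw [Nat.le_zero.1 h']; exact hi
  | succ i ih =>
    intro i' h'
    rcases Nat.lt_or_ge i' (i + 1) with hlt | hge
    · have hprev : T2 (r - i) < a i := by
        have hmono : a (i + 1) ≤ a i := h3 (Nat.le_succ i)
        have hs : r - (i + 1) < s i := by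
          by_contra hh
          have := T2_mono (not_lt.1 hh)
          have := h1 i
          omega
        have := h2 i (by omega)
        rw [show r - i = (r - (i + 1)) + 1 by omega, T2_succ]
        omega
      exact ih (by omega) hprev i' (by omega)
    · rw [show i' = i + 1 by omega]; exact hi

include h1 h2 h3 hsum in
theorem seq_tail {j : ℕ} (hj : j ≤ r) : ∑ i ∈ Finset.Ico j r, a i ≤ T3 (r - j) := by
  by_contra hlt
  rw [not_le, ← sum_T2_Ico] at hlt
  obtain ⟨i, hi, hex⟩ : ∃ i ∈ Finset.Ico j r, T2 (r - i) < a i := Finset.exists_lt_of_sum_lt hlt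
  rw [Finset.mem_Ico] at hi
  have hall := seq_excess a s h1 h2 h3 r hi.2.le hex
  have hhead : ∑ i' ∈ Finset.range j, T2 (r - i') ≤ ∑ i' ∈ Finset.range j, a i' :=
    Finset.sum_le_sum fun i' h' => (hall i' (by rw [Finset.mem_range] at h'; omega)).le
  have e1 := Finset.sum_range_add_sum_Ico a hj
  have e2 := Finset.sum_range_add_sum_Ico (fun i => T2 (r - i)) hj
  rw [sum_T2] at e2
  have := hsum r
  omega

include h1 h2 h3 hsum in
theorem seq_zero {i : ℕ} (hi : r ≤ i) : a i = 0 := by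
  by_contra hne
  have hr : T2 (r - r) < a r := by
    have := h3 hi
    simp [T2]; omega
  have hall := seq_excess a s h1 h2 h3 r le_rfl hr
  have : ∑ i' ∈ Finset.range (r + 1), T2 (r - i') < ∑ i' ∈ Finset.range (r + 1), a i' :=
    Finset.sum_lt_sum_of_nonempty (by simp) fun i' h' => hall i' (by rw [Finset.mem_range] at h'; omega)
  rw [Finset.sum_range_succ, sum_T2] at this
  have := hsum (r + 1)
  omega

include h1 h2 in
theorem seq_eq (he : ∀ j < r, ∑ i ∈ Finset.Ico j r, a i = T3 (r - j)) {i : ℕ} (hi : i < r) :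
    a i = T2 (r - i) ∧ s i = r - i := by
  have ha : ∀ i < r, a i = T2 (r - i) := by
    intro i hi
    have e1 := he i hi
    rw [Finset.sum_eq_sum_Ico_succ_bot hi] at e1
    by_cases h' : i + 1 < r
    · rw [he (i + 1) h', show r - i = (r - (i + 1)) + 1 by omega, T3_succ] at e1
      rw [show r - i = (r - (i + 1)) + 1 by omega]; omega
    · rw [Finset.Ico_eq_empty (by omega), Finset.sum_empty, show r - i = 0 + 1 by omega, T3_succ] at e1
      rw [show r - i = 0 + 1 by omega]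
      simpa [T3] using e1
  refine ⟨ha i hi, le_antisymm ?_ ?_⟩
  · by_cases hs : s i = 0
    · omega
    have := h2 i hs
    by_cases h' : i + 1 < r
    · rw [ha i hi, ha (i + 1) h', show r - i = (r - (i + 1)) + 1 by omega, T2_succ] at this
      omega
    · rw [ha i hi, show r - i = 0 + 1 by omega, T2_succ] at this
      simp [T2] at this
      omega
  · by_contra hh
    have := h1 i
    have h' : s i + 1 ≤ r - i := by omega
    have := T2_mono h'
    rw [T2_succ, ← ha i hi] at this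
    omega

end Seq

section Ideal
variable {k : Type*} [Field k] (I : Ideal (MvPolynomial (Fin 3) k)) [Module.Finite k (MvPolynomial (Fin 3) k ⧸ I)]
  (hI : IsStronglyStable I)

include hI in
theorem stair_y (p q : ℕ) : stair I 1 (p, q + 1) = 0 ∨ stair I 1 (p, q + 1) + 1 ≤ stair I 1 (p, q) := by
  by_contra h
  push_neg at h
  obtain ⟨h0, h1⟩ := h
  have hle := stair_antitone I 1 hI.1 (show ((p, q) : Plane.Pt) ≤ (p, q + 1) from ⟨le_rfl, Nat.le_succ q⟩)
  set c := stair I 1 (p, q) with hc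
  have hm : e3 p q c ∈ exps I := by rw [e3_eq]; exact (mem_exps_iff I 1 hI.1 p q c).2 le_rfl
  have := hI.2 _ hm 1 2 (by decide) (by rw [(e3_val p q c).2.2]; omega)
  have e : e3 p q c - Finsupp.single 2 1 + Finsupp.single 1 1 = e3 p (q + 1) (c - 1) := by
    obtain ⟨a0, a1, a2⟩ := e3_val p q c
    obtain ⟨b0, b1, b2⟩ := e3_val p (q + 1) (c - 1)
    ext l
    fin_cases l
    · show (e3 p q c - Finsupp.single 2 1 + Finsupp.single 1 1 : Fin 3 →₀ ℕ) 0 = _
      rw [Finsupp.add_apply, Finsupp.tsub_apply, Finsupp.single_eq_of_ne (by decide), Finsupp.single_eq_of_ne (by decide), a0]; exact b0.symm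
    · show (e3 p q c - Finsupp.single 2 1 + Finsupp.single 1 1 : Fin 3 →₀ ℕ) 1 = _
      rw [Finsupp.add_apply, Finsupp.tsub_apply, Finsupp.single_eq_same, Finsupp.single_eq_of_ne (by decide), a1]; exact b1.symm
    · show (e3 p q c - Finsupp.single 2 1 + Finsupp.single 1 1 : Fin 3 →₀ ℕ) 2 = _
      rw [Finsupp.add_apply, Finsupp.tsub_apply, Finsupp.single_eq_same, Finsupp.single_eq_of_ne (by decide), a2]; exact b2.symm
  rw [e, e3_eq, mem_exps_iff I 1 hI.1] at this
  omega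

theorem stairY_eq (hI : IsMonomial I) (a c : ℕ) : stairY I a c = stair I (Equiv.swap 1 2) (a, c) := by
  have he : ∀ b, e3 a b c = e3' (Equiv.swap (1 : Fin 3) 2) a c b := fun b => by
    obtain ⟨a0, a1, a2⟩ := e3_val a b c
    ext l
    fin_cases l
    · exact a0.trans (by simp [e3', Equiv.swap_apply_of_ne_of_ne (show (0 : Fin 3) ≠ 1 by decide) (show (0 : Fin 3) ≠ 2 by decide)])
    · exact a1.trans (by simp [e3'])
    · exact a2.trans (by simp [e3'])
  have : ∀ b, e3 a b c ∉ exps I ↔ b < stair I (Equiv.swap 1 2) (a, c) := fun b => by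
    rw [he, mem_exps_iff I _ hI, not_le]
  rw [stairY, Nat.card_congr ((Equiv.subtypeEquivRight this).trans ((Equiv.refl ℕ).subtypeEquiv (q := fun b => b < stair I (Equiv.swap 1 2) (a, c)) fun _ => Iff.rfl)),
    Nat.card_congr (Fin.equivSubtype (n := stair I (Equiv.swap 1 2) (a, c))).symm, Nat.card_fin]

include hI in
theorem stair_x (s : Equiv.Perm (Fin 3)) (hs : s = 1 ∨ s = Equiv.swap 1 2) (p q : ℕ) :
    stair I s (p + 1, q) ≤ stair I s (p, q + 1) := by
  have h := stair_le_of_stable I hI p q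
  rw [stairZ_eq I hI.1, stairZ_eq I hI.1, stairY_eq I hI.1, stairY_eq I hI.1] at h
  rcases hs with rfl | rfl
  · exact h.1
  · exact h.2

theorem exists_bound (hI : IsMonomial I) : ∃ N, ∀ β : Fin 3 →₀ ℕ, β ∉ exps I → ∀ l, β l < N := by
  refine ⟨(finite_std I hI).toFinset.sup (fun β => β 0 + β 1 + β 2) + 1, fun β hβ l => ?_⟩
  have := Finset.le_sup (f := fun β : Fin 3 →₀ ℕ => β 0 + β 1 + β 2) ((finite_std I hI).mem_toFinset.2 hβ)
  fin_cases l <;> simp <;> omega

theorem stair_bound (hI : IsMonomial I) {N : ℕ} (hN : ∀ β : Fin 3 →₀ ℕ, β ∉ exps I → ∀ l, β l < N)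
    (s : Equiv.Perm (Fin 3)) (P : Plane.Pt) : (stair I s P ≠ 0 → P.1 < N ∧ P.2 < N) ∧ stair I s P ≤ N := by
  constructor
  · intro h
    have hout : e3' s P.1 P.2 0 ∉ exps I := fun hh => h (Nat.le_zero.1 ((mem_exps_iff I s hI _ _ _).1 hh))
    have h0 := hN _ hout (s.symm 0)
    have h1 := hN _ hout (s.symm 1)
    simp [e3'] at h0 h1
    exact ⟨h0, h1⟩
  · by_contra h
    have hout : e3' s P.1 P.2 N ∉ exps I := fun hh => h ((mem_exps_iff I s hI _ _ _).1 hh)
    have := hN _ hout (s.symm 2)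
    simp [e3'] at this

/-- length of the `i`-th slice -/
noncomputable def sliceLen (i : ℕ) : ℕ := Nat.card {β : Fin 3 →₀ ℕ // β ∉ exps I ∧ β 0 = i}

theorem finite_slice (hI : IsMonomial I) (i : ℕ) : Finite {β : Fin 3 →₀ ℕ // β ∉ exps I ∧ β 0 = i} := by
  haveI := (finite_std I hI).to_subtype
  exact Finite.of_injective (β := ↥((exps I)ᶜ)) (fun c => ⟨c.1, c.2.1⟩) fun x y h =>
    Subtype.ext (congrArg (fun z : ↥((exps I)ᶜ) => z.1) h)

theorem e3'_val (s : Equiv.Perm (Fin 3)) (a b c : ℕ) :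
    e3' s a b c (s.symm 0) = a ∧ e3' s a b c (s.symm 1) = b ∧ e3' s a b c (s.symm 2) = c := by
  simp [e3']

theorem e3'_eta (s : Equiv.Perm (Fin 3)) (β : Fin 3 →₀ ℕ) :
    e3' s (β (s.symm 0)) (β (s.symm 1)) (β (s.symm 2)) = β := by
  obtain ⟨v0, v1, v2⟩ := e3'_val s (β (s.symm 0)) (β (s.symm 1)) (β (s.symm 2))
  ext l
  rcases perm_cover s l with rfl | rfl | rfl
  · exact v0
  · exact v1
  · exact v2

theorem sliceLen_eq (hI : IsMonomial I) (s : Equiv.Perm (Fin 3)) (hs : s.symm 0 = 0) {N : ℕ}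
    (hN : ∀ β : Fin 3 →₀ ℕ, β ∉ exps I → ∀ l, β l < N) (i : ℕ) :
    sliceLen I i = ∑ q ∈ Finset.range N, stair I s (i, q) := by
  classical
  let S : Finset (Σ _ : ℕ, ℕ) := (Finset.range N).sigma fun q => Finset.range (stair I s (i, q))
  have hS : S.card = ∑ q ∈ Finset.range N, stair I s (i, q) := by simp [S]
  have hmemS : ∀ x : Σ _ : ℕ, ℕ, x ∈ S ↔ x.1 < N ∧ x.2 < stair I s (i, x.1) := fun x => by simp [S]
  have hβ : ∀ β : Fin 3 →₀ ℕ, β ∉ exps I → β 0 = i → e3' s i (β (s.symm 1)) (β (s.symm 2)) = β := by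
    intro β _ hi
    have := e3'_eta s β
    rwa [congrArg (fun l => β l) hs, hi] at this
  let e : {x : Σ _ : ℕ, ℕ // x ∈ S} ≃ {β : Fin 3 →₀ ℕ // β ∉ exps I ∧ β 0 = i} :=
    { toFun := fun x => ⟨e3' s i x.1.1 x.1.2,
        fun h => absurd ((hmemS x.1).1 x.2).2 (not_lt.2 ((mem_exps_iff I s hI _ _ _).1 h)),
        (congrArg (fun l => e3' s i x.1.1 x.1.2 l) hs.symm).trans (e3'_val s i x.1.1 x.1.2).1⟩
      invFun := fun β => ⟨⟨β.1 (s.symm 1), β.1 (s.symm 2)⟩, (hmemS _).2 ⟨hN β.1 β.2.1 _, by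
        by_contra hh
        exact β.2.1 ((hβ β.1 β.2.1 β.2.2) ▸ (mem_exps_iff I s hI _ _ _).2 (not_lt.1 hh))⟩⟩
      left_inv := fun x => by
        obtain ⟨⟨q, c⟩, hx⟩ := x
        apply Subtype.ext
        obtain ⟨-, v1, v2⟩ := e3'_val s i q c
        show (⟨e3' s i q c (s.symm 1), e3' s i q c (s.symm 2)⟩ : Σ _ : ℕ, ℕ) = ⟨q, c⟩
        rw [v1, v2]
      right_inv := fun β => Subtype.ext (hβ β.1 β.2.1 β.2.2) }
  rw [sliceLen, ← Nat.card_congr e, ← hS]
  exact Nat.subtype_card S fun _ => Iff.rfl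

theorem sum_sliceLen (hI : IsMonomial I) {N : ℕ} (hN : ∀ β : Fin 3 →₀ ℕ, β ∉ exps I → ∀ l, β l < N) (M : ℕ) :
    ∑ i ∈ Finset.range M, sliceLen I i ≤ Module.finrank k (MvPolynomial (Fin 3) k ⧸ I) ∧
      (N ≤ M → ∑ i ∈ Finset.range M, sliceLen I i = Module.finrank k (MvPolynomial (Fin 3) k ⧸ I)) := by
  have hs : ∑ P ∈ Finset.range (max M N) ×ˢ Finset.range N, stair I 1 P = Module.finrank k (MvPolynomial (Fin 3) k ⧸ I) :=
    sum_stair I 1 hI _ fun P h => by
      obtain ⟨h1, h2⟩ := (stair_bound I hI hN 1 P).1 h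
      simp only [Finset.mem_product, Finset.mem_range]
      omega
  rw [Finset.sum_product] at hs
  simp only [sliceLen_eq I hI 1 rfl hN]
  refine ⟨hs ▸ Finset.sum_le_sum_of_subset fun x hx => ?_, fun h => ?_⟩
  · simp only [Finset.mem_range] at *; omega
  · rwa [max_eq_left h] at hs

/-- Slice data of a strongly stable ideal. -/
theorem slice_facts (hI : IsStronglyStable I) {N : ℕ} (hN : ∀ β : Fin 3 →₀ ℕ, β ∉ exps I → ∀ l, β l < N) :
    (∀ i, sliceLen I i ≤ T2 (stair I 1 (i, 0))) ∧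
      (∀ i, stair I 1 (i, 0) ≠ 0 → sliceLen I (i + 1) + stair I 1 (i, 0) ≤ sliceLen I i) ∧ Antitone (sliceLen I) ∧
      ∀ i q, stair I 1 (i, q) ≤ stair I 1 (i, 0) - q := by
  have hq : ∀ i q, stair I 1 (i, q) ≤ stair I 1 (i, 0) - q := by
    intro i q
    induction q with
    | zero => simp
    | succ q ih => rcases stair_y I hI i q with h | h <;> omega
  refine ⟨fun i => ?_, fun i _ => ?_, antitone_nat_of_succ_le fun i => ?_, hq⟩
  · rw [sliceLen_eq I hI.1 1 rfl hN, ← sum_range_sub (stair I 1 (i, 0)) N (stair_bound I hI.1 hN 1 _).2]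
    exact Finset.sum_le_sum fun q _ => hq i q
  · obtain ⟨M, rfl⟩ : ∃ M, N = M + 1 := ⟨N - 1, by
      have := (stair_bound I hI.1 hN 1 (i, 0)).1 ‹_›; omega⟩
    rw [sliceLen_eq I hI.1 1 rfl hN, sliceLen_eq I hI.1 1 rfl hN]
    rw [Finset.sum_range_succ' (fun q => stair I 1 (i, q)), Finset.sum_range_succ (fun q => stair I 1 (i + 1, q))]
    have : stair I 1 (i + 1, M) = 0 := by
      by_contra h
      have := stair_x I hI 1 (Or.inl rfl) i M
      have := (stair_bound I hI.1 hN 1 (i, M + 1)).1 (by omega)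
      omega
    rw [this, add_zero]
    exact Nat.add_le_add_right (Finset.sum_le_sum fun q _ => stair_x I hI 1 (Or.inl rfl) i q) _
  · rw [sliceLen_eq I hI.1 1 rfl hN, sliceLen_eq I hI.1 1 rfl hN]
    exact Finset.sum_le_sum fun q _ => stair_antitone I 1 hI.1 (show ((i, q) : Plane.Pt) ≤ (i + 1, q) from ⟨Nat.le_succ i, le_rfl⟩)

theorem finrank_sliceX (hI : IsStronglyStable I) (i : ℕ) :
    Module.finrank k (MvPolynomial (Fin 2) k ⧸ sliceX I i) = sliceLen I i := by
  classical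
  have hS := sliceX_isStable I hI i
  let J := sliceX I i
  have e : ↥((exps J)ᶜ) ≃ {β : Fin 3 →₀ ℕ // β ∉ exps I ∧ β 0 = i} :=
    { toFun := fun β => ⟨Finsupp.cons i β.1, fun h => β.2 ((exps_sliceX I i β.1).2 h), Finsupp.cons_zero i β.1⟩
      invFun := fun β => ⟨Finsupp.tail β.1, fun h => β.2.1 (by
        obtain ⟨b, hb, rfl⟩ := β
        have := (exps_sliceX I _ _).1 h
        rwa [Finsupp.cons_tail] at this)⟩
      left_inv := fun β => Subtype.ext (Finsupp.tail_cons i β.1)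
      right_inv := fun β => Subtype.ext (by
        obtain ⟨b, hb, rfl⟩ := β
        exact Finsupp.cons_tail b) }
  haveI : Finite ↥((exps J)ᶜ) := by
    haveI := finite_slice I hI.1 i
    exact Finite.of_equiv _ e.symm
  haveI : Module.Finite k (MvPolynomial (Fin 2) k ⧸ J) := finite_quot J
  haveI := Fintype.ofFinite ↥((exps J)ᶜ)
  rw [finrank_quot J hS.1, ← Nat.card_eq_fintype_card, sliceLen]
  exact Nat.card_congr e
where
  finite_quot (J : Ideal (MvPolynomial (Fin 2) k)) [Finite ↥((exps J)ᶜ)] : Module.Finite k (MvPolynomial (Fin 2) k ⧸ J) := by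
    classical
    haveI := Fintype.ofFinite ↥((exps J)ᶜ)
    refine ⟨(Finset.univ.image fun β : ↥((exps J)ᶜ) => Ideal.Quotient.mk J (monomial β.1 (1 : k))), eq_top_iff.2 fun x _ => ?_⟩
    obtain ⟨p, rfl⟩ := Ideal.Quotient.mk_surjective x
    rw [p.as_sum, map_sum]
    refine Submodule.sum_mem _ fun β _ => ?_
    rw [show monomial β (coeff β p) = C (coeff β p) * monomial β 1 by rw [C_mul_monomial, mul_one], map_mul, ← ksmul_quot]
    refine Submodule.smul_mem _ _ ?_
    by_cases hβ : β ∈ exps J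
    · rw [Ideal.Quotient.eq_zero_iff_mem.2 hβ]; exact zero_mem _
    · exact Submodule.subset_span (Finset.mem_image.2 ⟨⟨β, hβ⟩, Finset.mem_univ _, rfl⟩)

end Ideal

end HilbTgtLib
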