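import Mathlib.LinearAlgebra.Matrix.Rank
import Mathlib.LinearAlgebra.Dimension.Constructions
import Mathlib.LinearAlgebra.FiniteDimensional.Lemmas
import Mathlib.Algebra.BigOperators.Group.Finset.Basic
import Mathlib.Tactic

/-! Euler characteristic identity on the plane staircase of a monomial ideal. -/

namespace HilbTgtLib.Plane

variable {k : Type*} [Field k]

abbrev Pt := ℕ × ℕ
abbrev ex : Pt := (1, 0)
abbrev ey : Pt := (0, 1)
abbrev exy : Pt := (1, 1)

theorem pt_le (P d : Pt) : P ≤ P + d := ⟨Nat.le_add_right _ _, Nat.le_add_right _ _⟩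

variable (b : Pt → ℕ) (a : Pt) (m : ℕ)

/-- functions supported in a finset -/
noncomputable def extZ (s : Finset Pt) : (s → k) →ₗ[k] (Pt → k) where
  toFun f P := if h : P ∈ s then f ⟨P, h⟩ else 0
  map_add' f g := by funext P; by_cases h : P ∈ s <;> simp [h]
  map_smul' c f := by funext P; by_cases h : P ∈ s <;> simp [h]

theorem extZ_mem {s : Finset Pt} (f : s → k) {P : Pt} (h : P ∈ s) : extZ s f P = f ⟨P, h⟩ := dif_pos h
theorem extZ_not {s : Finset Pt} (f : s → k) {P : Pt} (h : P ∉ s) : extZ s f P = 0 := dif_neg h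

theorem extZ_injective (s : Finset Pt) : Function.Injective (extZ (k := k) s) := fun f g e => by
  funext ⟨P, h⟩
  have := congrFun e P
  rwa [extZ_mem f h, extZ_mem g h] at this

theorem sum_ite_extZ {s : Finset Pt} (f : s → k) (P : Pt) :
    (∑ x : s, if x.1 = P then f x else 0) = extZ s f P := by
  by_cases h : P ∈ s
  · rw [extZ_mem f h, Finset.sum_eq_single ⟨P, h⟩ (fun x _ hx => if_neg fun e => hx (Subtype.ext e)) (by simp), if_pos rfl]
  · rw [extZ_not f h]
    exact Finset.sum_eq_zero fun x _ => if_neg fun (e : x.1 = P) => h (e ▸ x.2)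

theorem extZ_restrict (s : Finset Pt) (F : Pt → k) (h : ∀ P, F P ≠ 0 → P ∈ s) : extZ s (fun x => F x.1) = F := by
  funext P
  by_cases hP : P ∈ s
  · rw [extZ_mem _ hP]
  · rw [extZ_not _ hP]
    by_contra hne
    exact hP (h P (Ne.symm hne))

/-- the first space: functions on the cells of the graph, constant along edges -/
def W : Submodule k (Pt → k) where
  carrier := {f | (∀ P, f P ≠ 0 → b P < b (P + a) + m ∧ m ≤ b P) ∧
    (∀ P, b P < b (P + ex + a) + m → f (P + ex) = f P) ∧ (∀ P, b P < b (P + ey + a) + m → f (P + ey) = f P)}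
  zero_mem' := ⟨fun P h => absurd rfl h, fun _ _ => rfl, fun _ _ => rfl⟩
  add_mem' := by
    rintro f g ⟨f1, f2, f3⟩ ⟨g1, g2, g3⟩
    refine ⟨fun P h => ?_, fun P h => ?_, fun P h => ?_⟩
    · by_cases hf : f P = 0
      · exact g1 P (by simpa [hf] using h)
      · exact f1 P hf
    · simp [f2 P h, g2 P h]
    · simp [f3 P h, g3 P h]
  smul_mem' := by
    rintro c f ⟨f1, f2, f3⟩
    refine ⟨fun P h => f1 P fun e => h (by simp [e]), fun P h => ?_, fun P h => ?_⟩
    · simp [f2 P h]
    · simp [f3 P h]

/-- the second space: functions on squares, constant across edges -/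
def W' : Submodule k (Pt → k) where
  carrier := {f | (∀ U, f U ≠ 0 → b (U + exy + a) + m ≤ b U) ∧
    (∀ U, b (U + exy + a) + m ≤ b (U + ex) → f (U + ex) = f U) ∧
    (∀ U, b (U + exy + a) + m ≤ b (U + ey) → f (U + ey) = f U) ∧
    (∀ q, b ((0, q + 1) + a) + m ≤ b (0, q) → f (0, q) = 0) ∧
    (∀ p, b ((p + 1, 0) + a) + m ≤ b (p, 0) → f (p, 0) = 0)}
  zero_mem' := ⟨fun P h => absurd rfl h, fun _ _ => rfl, fun _ _ => rfl, fun _ _ => rfl, fun _ _ => rfl⟩
  add_mem' := by
    rintro f g ⟨f1, f2, f3, f4, f5⟩ ⟨g1, g2, g3, g4, g5⟩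
    refine ⟨fun P h => ?_, fun P h => ?_, fun P h => ?_, fun P h => ?_, fun P h => ?_⟩
    · by_cases hf : f P = 0
      · exact g1 P (by simpa [hf] using h)
      · exact f1 P hf
    · simp [f2 P h, g2 P h]
    · simp [f3 P h, g3 P h]
    · simp [f4 P h, g4 P h]
    · simp [f5 P h, g5 P h]
  smul_mem' := by
    rintro c f ⟨f1, f2, f3, f4, f5⟩
    refine ⟨fun P h => f1 P fun e => h (by simp [e]), fun P h => ?_, fun P h => ?_, fun P h => ?_, fun P h => ?_⟩
    · simp [f2 P h]
    · simp [f3 P h]
    · simp [f4 P h]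
    · simp [f5 P h]

variable (hb : Antitone b) (hm : 1 ≤ m) (D : Finset Pt) (hD : ∀ P, P ∈ D ↔ m ≤ b P)

abbrev Aset (d : Pt) : Finset Pt := D.filter fun P => b (P + d + a) + m ≤ b P

include hD in
theorem mem_Aset (d P : Pt) : P ∈ Aset b a m D d ↔ b (P + d + a) + m ≤ b P := by
  rw [Aset, Finset.mem_filter, hD]
  exact ⟨fun h => h.2, fun h => ⟨by omega, h⟩⟩

/-- coboundary from vertices to edges -/
noncomputable def d0 : (D → k) →ₗ[k] ((D → k) × (D → k)) :=
  LinearMap.prod
    (LinearMap.pi fun P : D => (LinearMap.proj (P.1 + ex)).comp (extZ D) - (LinearMap.proj P.1).comp (extZ D))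
    (LinearMap.pi fun P : D => (LinearMap.proj (P.1 + ey)).comp (extZ D) - (LinearMap.proj P.1).comp (extZ D))

/-- coboundary from edges to squares -/
noncomputable def d1 : ((D → k) × (D → k)) →ₗ[k] (D → k) :=
  LinearMap.pi fun P : D =>
    ((LinearMap.proj (P.1 + ey)).comp (extZ D) - (LinearMap.proj P.1).comp (extZ D) : (D → k) →ₗ[k] k).comp (LinearMap.fst k _ _) -
    ((LinearMap.proj (P.1 + ex)).comp (extZ D) - (LinearMap.proj P.1).comp (extZ D) : (D → k) →ₗ[k] k).comp (LinearMap.snd k _ _)

theorem d0_apply (F : D → k) (P : D) :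
    (d0 D F).1 P = extZ D F (P.1 + ex) - extZ D F P.1 ∧ (d0 D F).2 P = extZ D F (P.1 + ey) - extZ D F P.1 :=
  ⟨rfl, rfl⟩

theorem d1_apply (uv : (D → k) × (D → k)) (P : D) :
    d1 D uv P = (extZ D uv.1 (P.1 + ey) - extZ D uv.1 P.1) - (extZ D uv.2 (P.1 + ex) - extZ D uv.2 P.1) := rfl

theorem eq_zero_of_step (F : D → k) (d : Pt) (hd : 0 < d.1 + d.2)
    (h : ∀ P : D, extZ D F (P.1 + d) = extZ D F P.1) : F = 0 := by
  classical
  by_contra hne
  obtain ⟨P0, hP0⟩ := Function.ne_iff.1 hne
  obtain ⟨P, hP, hmax⟩ := (D.filter fun P => extZ D F P ≠ 0).exists_max_image (fun P => P.1 + P.2)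
    ⟨P0.1, Finset.mem_filter.2 ⟨P0.2, by rwa [extZ_mem F P0.2]⟩⟩
  rw [Finset.mem_filter] at hP
  have h1 : extZ D F (P + d) ≠ 0 := by rw [h ⟨P, hP.1⟩]; exact hP.2
  have hmem : P + d ∈ D := by by_contra hn; exact h1 (extZ_not F hn)
  have := hmax _ (Finset.mem_filter.2 ⟨hmem, h1⟩)
  simp only [Prod.fst_add, Prod.snd_add] at this
  omega

theorem d0_injective : Function.Injective (d0 (k := k) D) := by
  rw [injective_iff_map_eq_zero]
  intro F hF
  refine eq_zero_of_step D F ex (by simp) fun P => ?_
  have := congrFun (congrArg Prod.fst hF) P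
  rw [(d0_apply D F P).1] at this
  exact sub_eq_zero.1 this

theorem d1_surjective : Function.Surjective (d1 (k := k) D) := by
  let e := (d1 (k := k) D).comp (LinearMap.inl k (D → k) (D → k))
  have he : Function.Injective e := by
    rw [injective_iff_map_eq_zero]
    intro u hu
    refine eq_zero_of_step D u ey (by simp) fun P => ?_
    have := congrFun hu P
    simp only [e, LinearMap.comp_apply, LinearMap.inl_apply, d1_apply, map_zero, Pi.zero_apply, sub_self, sub_zero] at this
    exact sub_eq_zero.1 this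
  intro x
  obtain ⟨u, hu⟩ := LinearMap.injective_iff_surjective.1 he x
  exact ⟨_, hu⟩

include hb hm hD in
theorem d1_d0 (F : D → k) : d1 D (d0 D F) = 0 := by
  funext P
  have key : ∀ (d : Pt) (g : D → k) (_ : ∀ Q : D, g Q = extZ D F (Q.1 + d) - extZ D F Q.1) (Q : Pt),
      extZ D g Q = extZ D F (Q + d) - extZ D F Q := by
    intro d g hg Q
    by_cases hQ : Q ∈ D
    · rw [extZ_mem g hQ]; exact hg ⟨Q, hQ⟩
    · have hQd : Q + d ∉ D := fun h => hQ ((hD Q).2 (le_trans ((hD _).1 h) (hb (pt_le _ _))))
      rw [extZ_not g hQ, extZ_not F hQ, extZ_not F hQd, sub_zero]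
  rw [d1_apply, key ex (d0 D F).1 (fun Q => rfl), key ex (d0 D F).1 (fun Q => rfl), key ey (d0 D F).2 (fun Q => rfl), key ey (d0 D F).2 (fun Q => rfl),
    add_right_comm P.1 ex ey, Pi.zero_apply]
  ring

include hb hm hD in
theorem range_d0 : LinearMap.range (d0 (k := k) D) = LinearMap.ker (d1 D) := by
  refine Submodule.eq_of_le_of_finrank_eq ?_ ?_
  · rintro _ ⟨F, rfl⟩; exact d1_d0 b m hb hm D hD F
  · have h1 := (d1 (k := k) D).finrank_range_add_finrank_ker
    rw [LinearMap.range_eq_top.2 (d1_surjective D), finrank_top, Module.finrank_prod] at h1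
    rw [LinearMap.finrank_range_of_inj (d0_injective D)]
    simp only [Module.finrank_fintype_fun_eq_card] at h1 ⊢
    omega

/-- the matrix of edge-to-square coboundary restricted to the open set -/
noncomputable def mat : Matrix (Aset b a m D exy) (↥(Aset b a m D ex) ⊕ ↥(Aset b a m D ey)) k := fun U j =>
  j.elim (fun P => (if P.1 = U.1 + ey then 1 else 0) - (if P.1 = U.1 then 1 else 0))
    (fun P => (if P.1 = U.1 then 1 else 0) - (if P.1 = U.1 + ex then 1 else 0))

theorem mat_mulVec (x : (↥(Aset b a m D ex) ⊕ ↥(Aset b a m D ey)) → k) (U : Aset b a m D exy) :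
    (mat b a m D).mulVec x U =
      (extZ _ (fun P => x (Sum.inl P)) (U.1 + ey) - extZ _ (fun P => x (Sum.inl P)) U.1) -
      (extZ _ (fun P => x (Sum.inr P)) (U.1 + ex) - extZ _ (fun P => x (Sum.inr P)) U.1) := by
  simp only [Matrix.mulVec, dotProduct, mat, Fintype.sum_sum_type, Sum.elim_inl, Sum.elim_inr, sub_mul, ite_mul, one_mul,
    zero_mul, Finset.sum_sub_distrib, sum_ite_extZ]
  ring

theorem mat_transpose_mulVec_inl (f : Aset b a m D exy → k) (P : Aset b a m D ex) :
    (mat b a m D).transpose.mulVec f (Sum.inl P) =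
      (∑ U : Aset b a m D exy, if U.1 + ey = P.1 then f U else 0) - extZ _ f P.1 := by
  simp only [Matrix.mulVec, dotProduct, mat, Matrix.transpose_apply, Sum.elim_inl, sub_mul, ite_mul, one_mul, zero_mul,
    Finset.sum_sub_distrib]
  rw [← sum_ite_extZ f P.1]
  simp only [eq_comm]

theorem mat_transpose_mulVec_inr (f : Aset b a m D exy → k) (P : Aset b a m D ey) :
    (mat b a m D).transpose.mulVec f (Sum.inr P) =
      extZ _ f P.1 - (∑ U : Aset b a m D exy, if U.1 + ex = P.1 then f U else 0) := by
  simp only [Matrix.mulVec, dotProduct, mat, Matrix.transpose_apply, Sum.elim_inr, sub_mul, ite_mul, one_mul, zero_mul,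
    Finset.sum_sub_distrib]
  rw [← sum_ite_extZ f P.1]
  simp only [eq_comm]

theorem sum_shift_ey {s : Finset Pt} (f : s → k) (P : Pt) :
    (∑ U : s, if U.1 + ey = P then f U else 0) = if P.2 = 0 then 0 else extZ s f (P.1, P.2 - 1) := by
  split_ifs with h
  · exact Finset.sum_eq_zero fun U _ => if_neg fun e => by rw [← e] at h; simp at h
  · rw [← sum_ite_extZ f (P.1, P.2 - 1)]
    refine Finset.sum_congr rfl fun U _ => if_congr ?_ rfl rfl
    simp only [Prod.ext_iff, Prod.fst_add, Prod.snd_add]
    omega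

theorem sum_shift_ex {s : Finset Pt} (f : s → k) (P : Pt) :
    (∑ U : s, if U.1 + ex = P then f U else 0) = if P.1 = 0 then 0 else extZ s f (P.1 - 1, P.2) := by
  split_ifs with h
  · exact Finset.sum_eq_zero fun U _ => if_neg fun e => by rw [← e] at h; simp at h
  · rw [← sum_ite_extZ f (P.1 - 1, P.2)]
    refine Finset.sum_congr rfl fun U _ => if_congr ?_ rfl rfl
    simp only [Prod.ext_iff, Prod.fst_add, Prod.snd_add]
    omega

include hb hm hD in
theorem finrank_W' : Module.finrank k (W' (k := k) b a m) =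
    Module.finrank k (LinearMap.ker (mat (k := k) b a m D).transpose.mulVecLin) := by
  have hmem : ∀ f : Aset b a m D exy → k, f ∈ LinearMap.ker (mat (k := k) b a m D).transpose.mulVecLin →
      extZ _ f ∈ W' (k := k) b a m := by
    intro f hf
    rw [LinearMap.mem_ker, Matrix.mulVecLin_apply] at hf
    have hl : ∀ P, b (P + ex + a) + m ≤ b P → (if P.2 = 0 then (0 : k) else extZ _ f (P.1, P.2 - 1)) = extZ _ f P := by
      intro P hP
      have := congrFun hf (Sum.inl ⟨P, (mem_Aset b a m D hD ex P).2 hP⟩)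
      rwa [mat_transpose_mulVec_inl, sum_shift_ey, Pi.zero_apply, sub_eq_zero] at this
    have hr : ∀ P, b (P + ey + a) + m ≤ b P → (if P.1 = 0 then (0 : k) else extZ _ f (P.1 - 1, P.2)) = extZ _ f P := by
      intro P hP
      have := congrFun hf (Sum.inr ⟨P, (mem_Aset b a m D hD ey P).2 hP⟩)
      rw [mat_transpose_mulVec_inr, sum_shift_ex, Pi.zero_apply, sub_eq_zero] at this
      exact this.symm
    refine ⟨fun U h => (mem_Aset b a m D hD exy U).1 ?_, fun U hU => ?_, fun U hU => ?_, fun q hq => ?_, fun p hp => ?_⟩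
    · by_contra hn; exact h (extZ_not f hn)
    · have := hr (U + ex) (by rwa [show U + ex + ey + a = U + exy + a by ext <;> simp <;> omega])
      rw [if_neg (by simp)] at this
      simpa using this.symm
    · have := hl (U + ey) (by rwa [show U + ey + ex + a = U + exy + a by ext <;> simp <;> omega])
      rw [if_neg (by simp)] at this
      simpa using this.symm
    · have := hr (0, q) (by simpa using hq)
      simpa using this.symm
    · have := hl (p, 0) (by simpa using hp)
      simpa using this.symm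
  have hrange : Submodule.map (extZ (k := k) (Aset b a m D exy)) (LinearMap.ker (mat (k := k) b a m D).transpose.mulVecLin) =
      W' (k := k) b a m := by
    refine le_antisymm ?_ fun F hF => ?_
    · rintro _ ⟨f, hf, rfl⟩; exact hmem f hf
    · refine ⟨fun x => F x.1, ?_, extZ_restrict _ F fun U h => (mem_Aset b a m D hD exy U).2 (hF.1 U h)⟩
      rw [SetLike.mem_coe, LinearMap.mem_ker, Matrix.mulVecLin_apply]
      have e := extZ_restrict (Aset b a m D exy) F fun U h => (mem_Aset b a m D hD exy U).2 (hF.1 U h)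
      funext j
      rcases j with P | P
      · rw [mat_transpose_mulVec_inl, sum_shift_ey, e, Pi.zero_apply, sub_eq_zero]
        obtain ⟨⟨p, q⟩, hP⟩ := P
        have hP' := (mem_Aset b a m D hD ex _).1 hP
        rcases q with _ | q
        · simp only [↓reduceIte]
          exact (hF.2.2.2.2 p (by simpa using hP')).symm
        · rw [if_neg (by simp)]
          have := hF.2.2.1 (p, q) (by convert! hP' using 3 <;> ext <;> simp <;> omega)
          simpa using this.symm
      · rw [mat_transpose_mulVec_inr, sum_shift_ex, e, Pi.zero_apply, sub_eq_zero]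
        obtain ⟨⟨p, q⟩, hP⟩ := P
        have hP' := (mem_Aset b a m D hD ey _).1 hP
        rcases p with _ | p
        · simp only [↓reduceIte]
          exact hF.2.2.2.1 q (by simpa using hP')
        · rw [if_neg (by simp)]
          have := hF.2.1 (p, q) (by convert! hP' using 3 <;> ext <;> simp <;> omega)
          simpa using this
  rw [← hrange]
  exact ((Submodule.equivMapOfInjective _ (extZ_injective _) _).finrank_eq).symm

/-- functions on `D` whose coboundary is supported on the open set -/
noncomputable def K : Submodule k (D → k) where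
  carrier := {F | ∀ P : D, (b P.1 < b (P.1 + ex + a) + m → extZ D F (P.1 + ex) = extZ D F P.1) ∧
    (b P.1 < b (P.1 + ey + a) + m → extZ D F (P.1 + ey) = extZ D F P.1)}
  zero_mem' := fun P => ⟨fun _ => by simp, fun _ => by simp⟩
  add_mem' := fun {F G} hF hG P => ⟨fun h => by simp [(hF P).1 h, (hG P).1 h], fun h => by simp [(hF P).2 h, (hG P).2 h]⟩
  smul_mem' := fun c F hF P => ⟨fun h => by simp [(hF P).1 h], fun h => by simp [(hF P).2 h]⟩

include hb hD in
theorem finrank_K : Module.finrank k (K (k := k) b a m D) =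
    Module.finrank k (W (k := k) b a m) + (Aset b a m D 0).card := by
  classical
  have hpr : ∀ P d : Pt, b P < b (P + d + a) + m → b P < b (P + a) + m ∧ b (P + d) < b (P + d + a) + m := by
    intro P d h
    have h1 : b (P + d + a) ≤ b (P + a) := hb (by rw [add_right_comm]; exact (pt_le _ _))
    have h2 : b (P + d) ≤ b P := hb (pt_le _ _)
    omega
  let π : ↥(K (k := k) b a m D) →ₗ[k] (Pt → k) :=
    { toFun := fun F P => if b P < b (P + a) + m then extZ D F.1 P else 0
      map_add' := fun F G => by funext P; simp only [Submodule.coe_add, map_add, Pi.add_apply]; split_ifs <;> simp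
      map_smul' := fun c F => by funext P; simp only [SetLike.val_smul, map_smul, Pi.smul_apply, RingHom.id_apply]; split_ifs <;> simp }
  have hπ : LinearMap.range π = W (k := k) b a m := by
    refine le_antisymm ?_ fun f hf => ?_
    · rintro _ ⟨F, rfl⟩
      refine ⟨fun P h => ?_, fun P h => ?_, fun P h => ?_⟩
      · simp only [π, LinearMap.coe_mk, AddHom.coe_mk, ne_eq, ite_eq_right_iff, not_forall] at h
        obtain ⟨h1, h2⟩ := h
        refine ⟨h1, (hD P).1 ?_⟩
        by_contra hn; exact h2 (extZ_not F.1 hn)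
      · obtain ⟨h1, h2⟩ := hpr P ex h
        simp only [π, LinearMap.coe_mk, AddHom.coe_mk, if_pos h1, if_pos h2]
        by_cases hP : P ∈ D
        · exact (F.2 ⟨P, hP⟩).1 h
        · rw [extZ_not _ hP, extZ_not _ fun hh => hP ((hD P).2 (le_trans ((hD _).1 hh) (hb (pt_le _ _))))]
      · obtain ⟨h1, h2⟩ := hpr P ey h
        simp only [π, LinearMap.coe_mk, AddHom.coe_mk, if_pos h1, if_pos h2]
        by_cases hP : P ∈ D
        · exact (F.2 ⟨P, hP⟩).2 h
        · rw [extZ_not _ hP, extZ_not _ fun hh => hP ((hD P).2 (le_trans ((hD _).1 hh) (hb (pt_le _ _))))]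
    · have e := extZ_restrict D f fun P h => (hD P).2 (hf.1 P h).2
      refine ⟨⟨fun x => f x.1, fun P => ⟨fun h => ?_, fun h => ?_⟩⟩, funext fun P => ?_⟩
      · rw [e]; exact hf.2.1 _ h
      · rw [e]; exact hf.2.2 _ h
      · simp only [π, LinearMap.coe_mk, AddHom.coe_mk, e]
        split_ifs with h
        · rfl
        · by_contra hne; exact h (hf.1 P (Ne.symm hne)).1
  have hker : Module.finrank k (LinearMap.ker π) = (Aset b a m D 0).card := by
    let j : (↥(Aset b a m D 0) → k) →ₗ[k] (D → k) :=
      LinearMap.pi fun P : D => (LinearMap.proj P.1).comp (extZ (Aset b a m D 0))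
    have hj : Function.Injective j := fun f g e => funext fun P => by
      have := congrFun e ⟨P.1, (Finset.mem_filter.1 P.2).1⟩
      simpa [j, extZ_mem _ P.2] using this
    have hjE : ∀ f P, extZ D (j f) P = extZ (Aset b a m D 0) f P := fun f P => by
      by_cases hP : P ∈ D
      · rw [extZ_mem _ hP]; rfl
      · rw [extZ_not _ hP, extZ_not _ fun h => hP (Finset.mem_filter.1 h).1]
    have hA : ∀ P, P ∈ Aset b a m D 0 ↔ ¬ b P < b (P + a) + m := fun P => by
      rw [mem_Aset b a m D hD, add_zero, not_lt]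
    have hjK : ∀ f, j f ∈ K (k := k) b a m D := fun f P => by
      refine ⟨fun h => ?_, fun h => ?_⟩ <;>
      · obtain ⟨h1, h2⟩ := hpr _ _ h
        rw [hjE, hjE, extZ_not _ fun hh => (hA _).1 hh h1, extZ_not _ fun hh => (hA _).1 hh h2]
    have hr : Submodule.map (K (k := k) b a m D).subtype (LinearMap.ker π) = LinearMap.range j := by
      refine le_antisymm ?_ ?_
      · rintro _ ⟨F, hF, rfl⟩
        refine ⟨fun P => F.1 ⟨P.1, (Finset.mem_filter.1 P.2).1⟩, funext fun P => ?_⟩
        simp only [j, LinearMap.pi_apply, LinearMap.comp_apply, LinearMap.proj_apply, Submodule.coe_subtype]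
        by_cases hP : P.1 ∈ Aset b a m D 0
        · rw [extZ_mem _ hP]
        · rw [extZ_not _ hP]
          have := congrFun (LinearMap.mem_ker.1 hF) P.1
          simp only [π, LinearMap.coe_mk, AddHom.coe_mk, if_pos (not_not.1 fun h => hP ((hA _).2 h)), Pi.zero_apply] at this
          rw [extZ_mem _ P.2] at this
          exact this.symm
      · rintro _ ⟨f, rfl⟩
        refine ⟨⟨j f, hjK f⟩, LinearMap.mem_ker.2 (funext fun P => ?_), rfl⟩
        simp only [π, LinearMap.coe_mk, AddHom.coe_mk, Pi.zero_apply]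
        split_ifs with h
        · rw [hjE, extZ_not _ fun hh => (hA P).1 hh h]
        · rfl
    rw [(Submodule.equivMapOfInjective _ (Submodule.injective_subtype _) (LinearMap.ker π)).finrank_eq, hr,
      LinearMap.finrank_range_of_inj hj, Module.finrank_fintype_fun_eq_card, Fintype.card_coe]
  have := π.finrank_range_add_finrank_ker
  rw [hπ, hker] at this
  omega

include hb hm hD in
theorem finrank_K_eq_ker : Module.finrank k (K (k := k) b a m D) =
    Module.finrank k (LinearMap.ker (mat (k := k) b a m D).mulVecLin) := by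
  classical
  let jj : (↥(Aset b a m D ex) ⊕ ↥(Aset b a m D ey) → k) →ₗ[k] (D → k) × (D → k) :=
    LinearMap.prod
      (LinearMap.pi fun P : D => ((LinearMap.proj P.1).comp (extZ (Aset b a m D ex))).comp (LinearMap.funLeft k k Sum.inl))
      (LinearMap.pi fun P : D => ((LinearMap.proj P.1).comp (extZ (Aset b a m D ey))).comp (LinearMap.funLeft k k Sum.inr))
  have e1 : ∀ x Q, extZ D (jj x).1 Q = extZ (Aset b a m D ex) (fun P => x (Sum.inl P)) Q := fun x Q => by
    by_cases hQ : Q ∈ D
    · rw [extZ_mem _ hQ]; rfl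
    · rw [extZ_not _ hQ, extZ_not _ fun h => hQ (Finset.mem_filter.1 h).1]
  have e2 : ∀ x Q, extZ D (jj x).2 Q = extZ (Aset b a m D ey) (fun P => x (Sum.inr P)) Q := fun x Q => by
    by_cases hQ : Q ∈ D
    · rw [extZ_mem _ hQ]; rfl
    · rw [extZ_not _ hQ, extZ_not _ fun h => hQ (Finset.mem_filter.1 h).1]
  have hj : Function.Injective jj := fun x y e => funext fun s => by
    rcases s with P | P
    · have := congrFun (congrArg Prod.fst e) ⟨P.1, (Finset.mem_filter.1 P.2).1⟩
      simpa [jj, extZ_mem _ P.2, LinearMap.funLeft_apply] using this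
    · have := congrFun (congrArg Prod.snd e) ⟨P.1, (Finset.mem_filter.1 P.2).1⟩
      simpa [jj, extZ_mem _ P.2, LinearMap.funLeft_apply] using this
  -- squares outside the open set carry nothing
  have hsq : ∀ x (P : D), P.1 ∉ Aset b a m D exy → d1 D (jj x) P = 0 := by
    intro x P hP
    rw [mem_Aset b a m D hD, not_le] at hP
    have m1 := hb (show P.1 + ex + a ≤ P.1 + exy + a by constructor <;> simp)
    have m2 := hb (show P.1 + ey + a ≤ P.1 + exy + a by constructor <;> simp)
    have m3 := hb (show P.1 ≤ P.1 + ex from (pt_le _ _))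
    have m4 := hb (show P.1 ≤ P.1 + ey from (pt_le _ _))
    rw [d1_apply, e1, e1, e2, e2, extZ_not, extZ_not, extZ_not, extZ_not]
    · simp
    all_goals rw [mem_Aset b a m D hD, not_le]
    · omega
    · rw [show P.1 + ex + ey + a = P.1 + exy + a by ext <;> simp <;> omega]; omega
    · omega
    · rw [show P.1 + ey + ex + a = P.1 + exy + a by ext <;> simp <;> omega]; omega
  have hS : ∀ x, d1 D (jj x) = 0 ↔ (mat (k := k) b a m D).mulVecLin x = 0 := by
    intro x
    constructor
    · intro h
      funext U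
      have := congrFun h ⟨U.1, (Finset.mem_filter.1 U.2).1⟩
      rw [d1_apply, e1, e1, e2, e2] at this
      rw [Matrix.mulVecLin_apply, mat_mulVec]
      exact this
    · intro h
      funext P
      by_cases hP : P.1 ∈ Aset b a m D exy
      · have := congrFun h ⟨P.1, hP⟩
        rw [Matrix.mulVecLin_apply, mat_mulVec] at this
        rw [d1_apply, e1, e1, e2, e2]
        exact this
      · exact hsq x P hP
  have hmap : Submodule.map (d0 D) (K (k := k) b a m D) = Submodule.map jj (LinearMap.ker (mat (k := k) b a m D).mulVecLin) := by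
    refine le_antisymm ?_ ?_
    · rintro _ ⟨F, hF, rfl⟩
      let x : ↥(Aset b a m D ex) ⊕ ↥(Aset b a m D ey) → k :=
        Sum.elim (fun P => (d0 D F).1 ⟨P.1, (Finset.mem_filter.1 P.2).1⟩) (fun P => (d0 D F).2 ⟨P.1, (Finset.mem_filter.1 P.2).1⟩)
      have hx : jj x = d0 D F := by
        refine Prod.ext (funext fun P => ?_) (funext fun P => ?_)
        · show extZ _ (fun Q => x (Sum.inl Q)) P.1 = _
          by_cases hP : P.1 ∈ Aset b a m D ex
          · rw [extZ_mem _ hP]; rfl
          · rw [extZ_not _ hP, (d0_apply D F P).1]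
            rw [mem_Aset b a m D hD, not_le] at hP
            rw [(hF P).1 hP, sub_self]
        · show extZ _ (fun Q => x (Sum.inr Q)) P.1 = _
          by_cases hP : P.1 ∈ Aset b a m D ey
          · rw [extZ_mem _ hP]; rfl
          · rw [extZ_not _ hP, (d0_apply D F P).2]
            rw [mem_Aset b a m D hD, not_le] at hP
            rw [(hF P).2 hP, sub_self]
      refine ⟨x, LinearMap.mem_ker.2 ((hS x).1 ?_), hx⟩
      rw [hx]; exact d1_d0 b m hb hm D hD F
    · rintro _ ⟨x, hx, rfl⟩
      have : jj x ∈ LinearMap.ker (d1 (k := k) D) := LinearMap.mem_ker.2 ((hS x).2 (LinearMap.mem_ker.1 hx))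
      rw [← range_d0 b m hb hm D hD] at this
      obtain ⟨F, hF⟩ := this
      refine ⟨F, fun P => ⟨fun h => ?_, fun h => ?_⟩, hF⟩
      · have := (d0_apply D F P).1
        rw [hF] at this
        rw [← sub_eq_zero, ← this]
        exact extZ_not _ fun hh => absurd h (not_lt.2 ((mem_Aset b a m D hD _ _).1 hh))
      · have := (d0_apply D F P).2
        rw [hF] at this
        rw [← sub_eq_zero, ← this]
        exact extZ_not _ fun hh => absurd h (not_lt.2 ((mem_Aset b a m D hD _ _).1 hh))
  rw [(Submodule.equivMapOfInjective _ (d0_injective D) (K (k := k) b a m D)).finrank_eq, hmap,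
    ← (Submodule.equivMapOfInjective _ hj (LinearMap.ker (mat (k := k) b a m D).mulVecLin)).finrank_eq]

include hb hm hD in
/-- The Euler characteristic identity at level `m`. -/
theorem finrank_W_add : Module.finrank k (W (k := k) b a m) + (Aset b a m D 0).card + (Aset b a m D exy).card =
    (Aset b a m D ex).card + (Aset b a m D ey).card + Module.finrank k (W' (k := k) b a m) := by
  classical
  have h1 := finrank_K (k := k) b a m hb D hD
  rw [finrank_K_eq_ker b a m hb hm D hD] at h1
  have h2 := finrank_W' (k := k) b a m hb hm D hD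
  have h3 := (mat (k := k) b a m D).mulVecLin.finrank_range_add_finrank_ker
  have h4 := (mat (k := k) b a m D).transpose.mulVecLin.finrank_range_add_finrank_ker
  have h5 := Matrix.rank_transpose (mat (k := k) b a m D)
  simp only [Matrix.rank] at h5
  simp only [Module.finrank_fintype_fun_eq_card, Fintype.card_sum, Fintype.card_coe] at h3 h4
  omega

end HilbTgtLib.Plane
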