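import Groth.Agent.HilbTgtLib.Decomp
import Groth.Agent.HilbTgtLib.Plane
import Mathlib.Algebra.BigOperators.Finprod
import Mathlib.LinearAlgebra.Prod
import Mathlib.GroupTheory.Perm.Fin

/-! The planar description of graded pieces in three variables and the duality sum. -/

namespace HilbTgtLib
open MvPolynomial W4c1hilbpn

section G
variable {σ : Type*} [Fintype σ] {k : Type*} [Field k] (I : Ideal (MvPolynomial σ k)) (α : σ → ℤ)

/-- locally constant functions on the region supported at nonnegative points -/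
def G [DecidableEq σ] : Submodule k ((σ → ℤ) → k) where
  carrier := {g | (∀ γ, g γ ≠ 0 → γ ∈ region I α ∧ ∀ i, 0 ≤ γ i) ∧
    ∀ γ l, γ ∈ region I α → γ + Pi.single l 1 ∈ region I α → g (γ + Pi.single l 1) = g γ}
  zero_mem' := ⟨fun _ h => absurd rfl h, fun _ _ _ _ => rfl⟩
  add_mem' := by
    rintro f g ⟨f1, f2⟩ ⟨g1, g2⟩
    refine ⟨fun γ h => ?_, fun γ l h h' => by simp [f2 γ l h h', g2 γ l h h']⟩
    by_cases hf : f γ = 0
    · exact g1 γ (by simpa [hf] using h)
    · exact f1 γ hf
  smul_mem' := by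
    rintro c f ⟨f1, f2⟩
    exact ⟨fun γ h => f1 γ fun e => h (by simp [e]), fun γ l h h' => by simp [f2 γ l h h']⟩

variable [DecidableEq σ]

theorem G_const {g : (σ → ℤ) → k} (hg : g ∈ G I α) {γ δ : region I α}
    (h : ((stepGraph σ).induce (region I α)).Reachable γ δ) : g γ.1 = g δ.1 := by
  obtain ⟨p⟩ := h
  induction p with
  | nil => rfl
  | @cons a b c hab p ih =>
    refine Eq.trans ?_ ih
    obtain ⟨i, hi | hi⟩ := adj_iff (σ := σ) (a := a.1) (b := b.1) hab
    · rw [hi, hg.2 _ _ a.2 (by rw [← hi]; exact b.2)]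
    · rw [hi, hg.2 _ _ b.2 (by rw [← hi]; exact a.2)]

theorem extFun_mem_G (f : PosComp I α → k) : extFun I α f ∈ G I α := by
  classical
  refine ⟨fun γ h => ?_, fun γ l h h' => extFun_eq_of_comp I α f h' h (SimpleGraph.ConnectedComponent.connectedComponentMk_eq_of_adj (by exact adj_single _ l)).symm⟩
  unfold extFun at h
  split_ifs at h with h1 h2
  · exact ⟨h1, h2 ⟨γ, h1⟩ rfl⟩
  · exact absurd rfl h
  · exact absurd rfl h

noncomputable def gEquiv : ↥(G I α) ≃ₗ[k] (PosComp I α → k) where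
  toFun g c := g.1 c.1.exists_rep.choose.1
  map_add' _ _ := rfl
  map_smul' _ _ := rfl
  invFun f := ⟨extFun I α f, extFun_mem_G I α f⟩
  left_inv g := by
    classical
    apply Subtype.ext
    funext γ
    show extFun I α (fun c : PosComp I α => g.1 c.1.exists_rep.choose.1) γ = g.1 γ
    unfold extFun
    by_cases hr : γ ∈ region I α
    · rw [dif_pos hr]
      set c := ((stepGraph σ).induce (region I α)).connectedComponentMk ⟨γ, hr⟩ with hc
      split_ifs with hpos
      · exact G_const I α g.2 (δ := ⟨γ, hr⟩) (SimpleGraph.ConnectedComponent.exact c.exists_rep.choose_spec)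
      · obtain ⟨δ, hδ⟩ := not_forall.1 hpos
        obtain ⟨hδm, hδn⟩ := Classical.not_imp.1 hδ
        rw [← G_const I α g.2 (δ := ⟨γ, hr⟩) (SimpleGraph.ConnectedComponent.exact ((SimpleGraph.ConnectedComponent.mem_supp_iff _ _).1 hδm))]
        by_contra hne
        exact hδn (g.2.1 _ (Ne.symm hne)).2
    · rw [dif_neg hr]
      by_contra hne
      exact hr (g.2.1 _ (Ne.symm hne)).1
  right_inv f := by
    classical
    funext c
    show extFun I α f c.1.exists_rep.choose.1 = f c
    have hc : ((stepGraph σ).induce (region I α)).connectedComponentMk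
        ⟨c.1.exists_rep.choose.1, c.1.exists_rep.choose.2⟩ = c.1 := c.1.exists_rep.choose_spec
    rw [extFun, dif_pos c.1.exists_rep.choose.2, dif_pos (by rw [hc]; exact c.2)]
    simp [hc]

theorem finrank_G (hI : IsMonomial I) : Module.finrank k ↥(G I α) = Module.finrank k ↥(tPiece I α) :=
  ((gEquiv I α).trans (pieceEquiv I α hI).symm).finrank_eq

end G

section Sup
variable {σ : Type*} [Fintype σ] {k : Type*} [Field k] (I : Ideal (MvPolynomial σ k))

open Classical in
theorem finrank_iSup_tPiece [Module.Finite k (MvPolynomial σ k ⧸ I)] (hI : IsMonomial I) [Fintype (degSet I)]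
    (p : (σ → ℤ) → Prop) :
    Module.finrank k ↥(⨆ α : {α // p α}, tPiece I α.1) =
      ∑ a : degSet I, if p a.1 then Module.finrank k ↥(tPiece I a.1) else 0 := by
  haveI := fun a : degSet I => finite_posComp I a.1 hI
  let L : (∀ a : {a : degSet I // p a.1}, PosComp I a.1.1 → k) →ₗ[k] Tgt I :=
    ∑ a : {a : degSet I // p a.1}, ((tPiece I a.1.1).subtype.comp (pieceEquiv I a.1.1 hI).symm.toLinearMap).comp (LinearMap.proj a)
  have hL : ∀ f, L f = ∑ a : {a : degSet I // p a.1}, toTgt I a.1.1 hI (f a) := fun f => by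
    simp only [L, LinearMap.sum_apply]
    rfl
  have hinj : Function.Injective L := fun f g e => funext fun b => by
    have : ∀ f, compFun I b.1.1 hI (L f) = f b := fun f => by
      rw [hL, map_sum, Finset.sum_eq_single b, compFun_toTgt]
      · intro a _ hab
        exact compFun_eq_zero_of_ne I b.1.1 hI (fun e => hab (Subtype.ext (Subtype.ext e))) (toTgt_mem I a.1.1 hI _)
      · simp
    rw [← this f, ← this g, e]
  have hrange : LinearMap.range L = ⨆ α : {α // p α}, tPiece I α.1 := by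
    refine le_antisymm ?_ (iSup_le fun α φ hφ => ?_)
    · rintro _ ⟨f, rfl⟩
      rw [hL]
      exact Submodule.sum_mem _ fun a _ => Submodule.mem_iSup_of_mem ⟨a.1.1, a.2⟩ (toTgt_mem I a.1.1 hI _)
    · by_cases hd : α.1 ∈ degSet I
      · refine ⟨fun a => compFun I a.1.1 hI φ, ?_⟩
        rw [hL, Finset.sum_eq_single ⟨⟨α.1, hd⟩, α.2⟩]
        · exact congrArg Subtype.val ((pieceEquiv I α.1 hI).symm_apply_apply ⟨φ, hφ⟩)
        · intro a _ hne
          rw [compFun_eq_zero_of_ne I a.1.1 hI (fun e => hne (Subtype.ext (Subtype.ext e.symm))) hφ]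
          exact congrArg Subtype.val (pieceEquiv I a.1.1 hI).symm.map_zero
        · simp
      · rw [tPiece_eq_bot I α.1 hI ⟨fun c => hd ⟨c⟩⟩, Submodule.mem_bot] at hφ
        rw [hφ]
        exact zero_mem _
  rw [← hrange, LinearMap.finrank_range_of_inj hinj, Module.finrank_pi_fintype, ← Finset.sum_filter]
  rw [Finset.sum_subtype (Finset.univ.filter fun a : degSet I => p a.1) (p := fun a => p a.1) (fun a => by simp) fun a => Module.finrank k ↥(tPiece I a.1)]
  exact Finset.sum_congr rfl fun a _ => ((pieceEquiv I a.1.1 hI).finrank_eq).symm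

end Sup

section Three
variable {k : Type*} [Field k] (I : Ideal (MvPolynomial (Fin 3) k)) (s : Equiv.Perm (Fin 3))

def pt (x y z : ℤ) : Fin 3 → ℤ := fun l => ![x, y, z] (s l)

noncomputable def e3' (p q r : ℕ) : Fin 3 →₀ ℕ := Finsupp.equivFunOnFinite.symm fun l => ![p, q, r] (s l)

theorem pt_eta (γ : Fin 3 → ℤ) : γ = pt s (γ (s.symm 0)) (γ (s.symm 1)) (γ (s.symm 2)) := by
  funext l
  obtain ⟨l, rfl⟩ := s.symm.surjective l
  fin_cases l <;> simp [pt]

theorem forall_pt (P : ℤ → Prop) (x y z : ℤ) : (∀ l, P (pt s x y z l)) ↔ P x ∧ P y ∧ P z := by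
  refine ⟨fun h => ⟨?_, ?_, ?_⟩, fun h l => ?_⟩
  · simpa [pt] using h (s.symm 0)
  · simpa [pt] using h (s.symm 1)
  · simpa [pt] using h (s.symm 2)
  · obtain ⟨l, rfl⟩ := s.symm.surjective l
    fin_cases l <;> simp [pt, h]

theorem pt_inj {x y z x' y' z' : ℤ} : pt s x y z = pt s x' y' z' ↔ x = x' ∧ y = y' ∧ z = z' := by
  refine ⟨fun h => ⟨?_, ?_, ?_⟩, fun h => by rw [h.1, h.2.1, h.2.2]⟩
  · simpa [pt] using congrFun h (s.symm 0)
  · simpa [pt] using congrFun h (s.symm 1)
  · simpa [pt] using congrFun h (s.symm 2)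

theorem pt_single (x y z : ℤ) (l : Fin 3) :
    (l = s.symm 0 ∧ pt s x y z + Pi.single l 1 = pt s (x + 1) y z) ∨
    (l = s.symm 1 ∧ pt s x y z + Pi.single l 1 = pt s x (y + 1) z) ∨
    (l = s.symm 2 ∧ pt s x y z + Pi.single l 1 = pt s x y (z + 1)) := by
  have key : ∀ i : Fin 3, ∀ l' : Fin 3, (pt s x y z + Pi.single (s.symm i) 1 : Fin 3 → ℤ) (s.symm l') =
      ![x, y, z] l' + if l' = i then 1 else 0 := by
    intro i l'
    simp [pt, Pi.single_apply, s.symm.injective.eq_iff]
  obtain ⟨l, rfl⟩ := s.symm.surjective l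
  fin_cases l
  · refine Or.inl ⟨rfl, funext fun m => ?_⟩
    obtain ⟨m, rfl⟩ := s.symm.surjective m
    rw [key]; fin_cases m <;> simp [pt]
  · refine Or.inr (Or.inl ⟨rfl, funext fun m => ?_⟩)
    obtain ⟨m, rfl⟩ := s.symm.surjective m
    rw [key]; fin_cases m <;> simp [pt]
  · refine Or.inr (Or.inr ⟨rfl, funext fun m => ?_⟩)
    obtain ⟨m, rfl⟩ := s.symm.surjective m
    rw [key]; fin_cases m <;> simp [pt]

theorem pt_x (x y z : ℤ) : pt s x y z + Pi.single (s.symm 0) 1 = pt s (x + 1) y z := by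
  rcases pt_single s x y z (s.symm 0) with h | h | h
  · exact h.2
  all_goals exact absurd (s.symm.injective h.1) (by decide)

theorem pt_y (x y z : ℤ) : pt s x y z + Pi.single (s.symm 1) 1 = pt s x (y + 1) z := by
  rcases pt_single s x y z (s.symm 1) with h | h | h
  · exact absurd (s.symm.injective h.1) (by decide)
  · exact h.2
  · exact absurd (s.symm.injective h.1) (by decide)

theorem pt_z (x y z : ℤ) : pt s x y z + Pi.single (s.symm 2) 1 = pt s x y (z + 1) := by
  rcases pt_single s x y z (s.symm 2) with h | h | h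
  · exact absurd (s.symm.injective h.1) (by decide)
  · exact absurd (s.symm.injective h.1) (by decide)
  · exact h.2

/-- the staircase function -/
noncomputable def stair (P : Plane.Pt) : ℕ := sInf {r | e3' s P.1 P.2 r ∈ exps I}

variable [Module.Finite k (MvPolynomial (Fin 3) k ⧸ I)] (hI : IsMonomial I)

include hI in
theorem mem_exps_iff (p q r : ℕ) : e3' s p q r ∈ exps I ↔ stair I s (p, q) ≤ r := by
  have hne : {r | e3' s p q r ∈ exps I}.Nonempty := by
    by_contra h
    rw [Set.not_nonempty_iff_eq_empty, Set.eq_empty_iff_forall_notMem] at h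
    refine Set.infinite_range_of_injective (f := fun r => e3' s p q r) (fun a b e => ?_)
      ((finite_std I hI).subset (Set.range_subset_iff.2 h))
    have := congrArg (· (s.symm 2)) e
    simpa [e3'] using this
  refine ⟨fun h => Nat.sInf_le h, fun h => exps_mono I (Nat.sInf_mem hne) fun l => ?_⟩
  obtain ⟨l, rfl⟩ := s.symm.surjective l
  fin_cases l <;> simp [e3'] <;> exact h

include hI in
theorem stair_antitone : Antitone (stair I s) := by
  intro P Q h
  refine (mem_exps_iff I s hI Q.1 Q.2 _).1 (exps_mono I ((mem_exps_iff I s hI P.1 P.2 _).2 le_rfl) fun l => ?_)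
  obtain ⟨l, rfl⟩ := s.symm.surjective l
  fin_cases l
  · simpa [e3'] using h.1
  · simpa [e3'] using h.2
  · simp [e3']

include hI in
theorem stair_support : {P : Plane.Pt | stair I s P ≠ 0}.Finite := by
  refine ((finite_std I hI).image fun β => (β (s.symm 0), β (s.symm 1))).subset fun P hP => ?_
  refine ⟨e3' s P.1 P.2 0, fun h => hP (Nat.le_zero.1 ((mem_exps_iff I s hI _ _ _).1 h)), ?_⟩
  simp [e3']

include hI in
theorem pt_mem_region (a b c x y z : ℤ) : pt s x y z ∈ region I (pt s a b c) ↔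
    (a ≤ x ∧ b ≤ y ∧ c ≤ z ∧ (stair I s ((x - a).toNat, (y - b).toNat) : ℤ) ≤ z - c) ∧
      ¬ (0 ≤ x ∧ 0 ≤ y ∧ 0 ≤ z ∧ (stair I s (x.toNat, y.toNat) : ℤ) ≤ z) := by
  have e : ∀ x y z : ℤ, ofZ (pt s x y z) = e3' s x.toNat y.toNat z.toNat := fun x y z => by
    ext l
    obtain ⟨l, rfl⟩ := s.symm.surjective l
    fin_cases l <;> simp [pt, e3']
  have hsub : pt s x y z - pt s a b c = pt s (x - a) (y - b) (z - c) := by
    funext l
    obtain ⟨l, rfl⟩ := s.symm.surjective l
    fin_cases l <;> simp [pt]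
  have hle : (∀ l, pt s a b c l ≤ pt s x y z l) ↔ a ≤ x ∧ b ≤ y ∧ c ≤ z := by
    refine ⟨fun h => ⟨?_, ?_, ?_⟩, fun h l => ?_⟩
    · simpa [pt] using h (s.symm 0)
    · simpa [pt] using h (s.symm 1)
    · simpa [pt] using h (s.symm 2)
    · obtain ⟨l, rfl⟩ := s.symm.surjective l
      fin_cases l <;> simp [pt, h]
  rw [region_iff, hsub, e, e, mem_exps_iff I s hI, mem_exps_iff I s hI, hle, forall_pt s (fun t => 0 ≤ t)]
  constructor
  · rintro ⟨⟨⟨h1, h2, h3⟩, h4⟩, h5⟩
    exact ⟨⟨h1, h2, h3, by omega⟩, fun h => h5 ⟨⟨h.1, h.2.1, h.2.2.1⟩, by omega⟩⟩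
  · rintro ⟨⟨h1, h2, h3, h4⟩, h5⟩
    exact ⟨⟨⟨h1, h2, h3⟩, by omega⟩, fun h => h5 ⟨h.1.1, h.1.2.1, h.1.2.2, by omega⟩⟩

variable (i j m : ℕ)

/-- positions in region for the first degree -/
theorem pt_mem_region₁ (hI : IsMonomial I) (x y z : ℤ) :
    pt s x y z ∈ region I (pt s i j (-(m : ℤ))) ↔
      ((i : ℤ) ≤ x ∧ (j : ℤ) ≤ y ∧ (stair I s ((x - i).toNat, (y - j).toNat) : ℤ) ≤ z + m) ∧
        (z < 0 ∨ z < (stair I s (x.toNat, y.toNat) : ℤ)) := by
  rw [pt_mem_region I s hI]
  constructor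
  · rintro ⟨⟨h1, h2, h3, h4⟩, h5⟩
    refine ⟨⟨h1, h2, by omega⟩, ?_⟩
    by_contra hh
    push_neg at hh
    exact h5 ⟨by omega, by omega, hh.1, hh.2⟩
  · rintro ⟨⟨h1, h2, h3⟩, h4⟩
    exact ⟨⟨h1, h2, by omega, by omega⟩, fun h => by rcases h4 with h4 | h4 <;> omega⟩

theorem finrank_piece₁ (hI : IsMonomial I) :
    Module.finrank k ↥(tPiece I (pt s i j (-(m : ℤ)))) = Module.finrank k (Plane.W (k := k) (stair I s) (i, j) m) := by
  rw [← finrank_G I _ hI]
  have hb := stair_antitone I s hI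
  set b := stair I s with hbdef
  set α := pt s (i : ℤ) j (-(m : ℤ)) with hα
  let top : Plane.Pt → (Fin 3 → ℤ) := fun P =>
    pt s ((P.1 + i : ℕ) : ℤ) ((P.2 + j : ℕ) : ℤ) ((b (P + (i, j)) : ℤ) - 1)
  have hreg : ∀ (P : Plane.Pt) (z : ℤ), (b P : ℤ) ≤ z + m → z < b (P + (i, j)) →
      pt s ((P.1 + i : ℕ) : ℤ) ((P.2 + j : ℕ) : ℤ) z ∈ region I α := by
    intro P z h1 h2
    rw [hα, pt_mem_region₁ I s i j m hI]
    refine ⟨⟨by omega, by omega, ?_⟩, Or.inr ?_⟩
    · rw [show (((P.1 + i : ℕ) : ℤ) - i).toNat = P.1 by omega, show (((P.2 + j : ℕ) : ℤ) - j).toNat = P.2 by omega]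
      exact h1
    · simp only [Int.toNat_natCast]; exact h2
  have col : ∀ (g : ↥(G I α)) (P : Plane.Pt) (t : ℕ) (z : ℤ), (b P : ℤ) ≤ z + m → z + t + 1 = b (P + (i, j)) →
      g.1 (pt s ((P.1 + i : ℕ) : ℤ) ((P.2 + j : ℕ) : ℤ) z) = g.1 (top P) := by
    intro g P t
    induction t with
    | zero =>
      intro z _ hz
      simp only [top]
      rw [show z = (b (P + (i, j)) : ℤ) - 1 by omega]
    | succ t ih =>
      intro z h1 hz
      rw [← ih (z + 1) (by omega) (by omega), ← pt_z s _ _ z, g.2.2 _ _ (hreg P z h1 (by omega))]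
      rw [pt_z]; exact hreg P (z + 1) (by omega) (by omega)
  have col' : ∀ (g : ↥(G I α)) (P : Plane.Pt) (z : ℤ), (b P : ℤ) ≤ z + m → z < b (P + (i, j)) →
      g.1 (pt s ((P.1 + i : ℕ) : ℤ) ((P.2 + j : ℕ) : ℤ) z) = g.1 (top P) := fun g P z h1 h2 =>
    col g P ((b (P + (i, j)) : ℤ) - 1 - z).toNat z h1 (by omega)
  have neg0 : ∀ (g : ↥(G I α)) (x y z : ℤ), z < 0 → g.1 (pt s x y z) = 0 := fun g x y z hz => by
    by_contra h
    have := (g.2.1 _ h).2 (s.symm 2)
    simp [pt] at this
    omega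
  let F : ↥(G I α) →ₗ[k] (Plane.Pt → k) :=
    { toFun := fun g P => g.1 (top P), map_add' := fun _ _ => rfl, map_smul' := fun _ _ => rfl }
  have hF : ∀ g, F g ∈ Plane.W (k := k) b (i, j) m := by
    intro g
    refine ⟨fun P h => ?_, fun P h => ?_, fun P h => ?_⟩
    · obtain ⟨hr, -⟩ := g.2.1 _ h
      simp only [top, hα] at hr
      rw [pt_mem_region₁ I s i j m hI, ← hbdef] at hr
      rw [show (((P.1 + i : ℕ) : ℤ) - i).toNat = P.1 by omega, show (((P.2 + j : ℕ) : ℤ) - j).toNat = P.2 by omega] at hr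
      rw [show ((P.1, P.2) : Plane.Pt) = P from rfl] at hr
      refine ⟨by have := hr.1.2.2; omega, ?_⟩
      by_contra hm'
      refine h ?_
      show g.1 (top P) = 0
      rw [← col' g P ((b P : ℤ) - m) (by omega) (by have := hr.1.2.2; omega)]
      exact neg0 g _ _ _ (by omega)
    · have h2 := hb (Plane.pt_le P Plane.ex)
      have h3 : b (P + Plane.ex + (i, j)) ≤ b (P + (i, j)) := hb (by constructor <;> simp)
      show g.1 (top (P + Plane.ex)) = g.1 (top P)
      rw [← col' g P ((b (P + Plane.ex + (i, j)) : ℤ) - 1) (by omega) (by omega)]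
      have e : top (P + Plane.ex) = pt s ((P.1 + i : ℕ) : ℤ) ((P.2 + j : ℕ) : ℤ) ((b (P + Plane.ex + (i, j)) : ℤ) - 1) + Pi.single (s.symm 0) 1 := by
        rw [pt_x]; simp only [top]
        congr 1
        simp; ring
      rw [e, g.2.2 _ _ (hreg P _ (by omega) (by omega))]
      rw [← e]
      exact hreg (P + Plane.ex) _ (by omega) (by omega)
    · have h2 := hb (Plane.pt_le P Plane.ey)
      have h3 : b (P + Plane.ey + (i, j)) ≤ b (P + (i, j)) := hb (by constructor <;> simp)
      show g.1 (top (P + Plane.ey)) = g.1 (top P)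
      rw [← col' g P ((b (P + Plane.ey + (i, j)) : ℤ) - 1) (by omega) (by omega)]
      have e : top (P + Plane.ey) = pt s ((P.1 + i : ℕ) : ℤ) ((P.2 + j : ℕ) : ℤ) ((b (P + Plane.ey + (i, j)) : ℤ) - 1) + Pi.single (s.symm 1) 1 := by
        rw [pt_y]; simp only [top]
        congr 1
        simp; ring
      rw [e, g.2.2 _ _ (hreg P _ (by omega) (by omega))]
      rw [← e]
      exact hreg (P + Plane.ey) _ (by omega) (by omega)
  have hinj : Function.Injective F := by
    rw [injective_iff_map_eq_zero]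
    intro g hg
    apply Subtype.ext
    funext γ
    by_contra hne
    obtain ⟨hr, h0⟩ := g.2.1 γ hne
    rw [pt_eta s γ] at hne hr
    rw [hα, pt_mem_region₁ I s i j m hI, ← hbdef] at hr
    obtain ⟨⟨h1, h2, h3⟩, h4⟩ := hr
    have hz := h0 (s.symm 2)
    set x := γ (s.symm 0); set y := γ (s.symm 1); set z := γ (s.symm 2)
    refine hne ?_
    have ex : x = ((((x - i).toNat, (y - j).toNat) : Plane.Pt).1 + i : ℕ) := by simp; omega
    have ey : y = ((((x - i).toNat, (y - j).toNat) : Plane.Pt).2 + j : ℕ) := by simp; omega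
    have h5 : (((x - i).toNat, (y - j).toNat) : Plane.Pt) + (i, j) = (x.toNat, y.toNat) := by
      ext <;> simp <;> omega
    refine (congrArg g.1 (congrArg₂ (fun u v => pt s u v z) ex ey)).trans ?_
    rw [col' g _ z (by omega) (by rw [h5]; omega)]
    exact congrFun hg _
  have hrange : LinearMap.range F = Plane.W (k := k) b (i, j) m := by
    refine le_antisymm ?_ fun f hf => ?_
    · rintro _ ⟨g, rfl⟩; exact hF g
    classical
    let g : (Fin 3 → ℤ) → k := fun γ => if γ ∈ region I α ∧ 0 ≤ γ (s.symm 2) then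
      f ((γ (s.symm 0) - i).toNat, (γ (s.symm 1) - j).toNat) else 0
    have gv : ∀ x y z, g (pt s x y z) = if pt s x y z ∈ region I α ∧ 0 ≤ z then f ((x - i).toNat, (y - j).toNat) else 0 :=
      fun x y z => by simp only [g, pt, Equiv.apply_symm_apply]; rfl
    have hg : g ∈ G I α := by
      refine ⟨fun γ h => ?_, fun γ l h h' => ?_⟩
      · rw [pt_eta s γ] at h ⊢
        rw [gv] at h
        split_ifs at h with hc
        · refine ⟨hc.1, (forall_pt s (fun t => 0 ≤ t) _ _ _).2 ⟨?_, ?_, hc.2⟩⟩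
          all_goals
            have := hc.1
            rw [hα, pt_mem_region₁ I s i j m hI] at this
            omega
        · exact absurd rfl h
      · rw [pt_eta s γ] at h h' ⊢
        generalize γ (s.symm 0) = x at *
        generalize γ (s.symm 1) = y at *
        generalize γ (s.symm 2) = z at *
        have hr := h
        rw [hα, pt_mem_region₁ I s i j m hI, ← hbdef] at hr
        obtain ⟨⟨h1, h2, h3⟩, h4⟩ := hr
        have hsup : ∀ P, f P ≠ 0 → b P < b (P + (i, j)) + m ∧ m ≤ b P := hf.1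
        rcases pt_single s x y z l with ⟨-, e⟩ | ⟨-, e⟩ | ⟨-, e⟩
        all_goals
          rw [e] at h' ⊢
          rw [gv, gv]
          have hr' := h'
          rw [hα, pt_mem_region₁ I s i j m hI, ← hbdef] at hr'
          obtain ⟨⟨h1', h2', h3'⟩, h4'⟩ := hr'
        · by_cases hz : 0 ≤ z
          · rw [if_pos ⟨h', hz⟩, if_pos ⟨h, hz⟩]
            have e1 : ((x + 1 - i).toNat, (y - j).toNat) = (((x - i).toNat, (y - j).toNat) : Plane.Pt) + Plane.ex := by
              ext <;> simp <;> omega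
            rw [e1]
            refine hf.2.1 _ ?_
            have e2 : (((x - i).toNat, (y - j).toNat) : Plane.Pt) + Plane.ex + (i, j) = ((x + 1).toNat, y.toNat) := by
              ext <;> simp <;> omega
            rw [e2]
            omega
          · rw [if_neg fun hh => hz hh.2, if_neg fun hh => hz hh.2]
        · by_cases hz : 0 ≤ z
          · rw [if_pos ⟨h', hz⟩, if_pos ⟨h, hz⟩]
            have e1 : ((x - i).toNat, (y + 1 - j).toNat) = (((x - i).toNat, (y - j).toNat) : Plane.Pt) + Plane.ey := by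
              ext <;> simp <;> omega
            rw [e1]
            refine hf.2.2 _ ?_
            have e2 : (((x - i).toNat, (y - j).toNat) : Plane.Pt) + Plane.ey + (i, j) = (x.toNat, (y + 1).toNat) := by
              ext <;> simp <;> omega
            rw [e2]
            omega
          · rw [if_neg fun hh => hz hh.2, if_neg fun hh => hz hh.2]
        · by_cases hz : 0 ≤ z
          · rw [if_pos ⟨h', by omega⟩, if_pos ⟨h, hz⟩]
          · rw [if_neg (c := _ ∧ 0 ≤ z) fun hh => hz hh.2]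
            split_ifs with hz'
            · by_contra hne
              have := hsup _ hne
              omega
            · rfl
    refine ⟨⟨g, hg⟩, funext fun P => ?_⟩
    show g (top P) = f P
    simp only [top]
    rw [gv]
    split_ifs with hc
    · congr 1
      ext <;> simp
    · by_contra hne
      obtain ⟨h1, h2⟩ := hf.1 P (Ne.symm hne)
      by_cases hzero : b (P + (i, j)) = 0
      · omega
      · exact hc ⟨hreg P _ (by omega) (by omega), by omega⟩
  rw [← hrange, LinearMap.finrank_range_of_inj hinj]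

theorem pt_mem_region₂ (hI : IsMonomial I) (hm : 1 ≤ m) (x y z : ℤ) :
    pt s x y z ∈ region I (pt s (-(i : ℤ) - 1) (-(j : ℤ) - 1) ((m : ℤ) - 1)) ↔
      (-(i : ℤ) - 1 ≤ x ∧ -(j : ℤ) - 1 ≤ y ∧
          (stair I s ((x + i + 1).toNat, (y + j + 1).toNat) : ℤ) + m ≤ z + 1) ∧
        (x < 0 ∨ y < 0 ∨ z < (stair I s (x.toNat, y.toNat) : ℤ)) := by
  rw [pt_mem_region I s hI, show x - (-(i : ℤ) - 1) = x + i + 1 by ring, show y - (-(j : ℤ) - 1) = y + j + 1 by ring]
  constructor
  · rintro ⟨⟨h1, h2, h3, h4⟩, h5⟩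
    refine ⟨⟨h1, h2, by omega⟩, ?_⟩
    by_contra hh
    push_neg at hh
    exact h5 ⟨hh.1, hh.2.1, by omega, hh.2.2⟩
  · rintro ⟨⟨h1, h2, h3⟩, h4⟩
    exact ⟨⟨h1, h2, by omega, by omega⟩, fun h => by rcases h4 with h4 | h4 | h4 <;> omega⟩

theorem finrank_piece₂ (hI : IsMonomial I) (hm : 1 ≤ m) :
    Module.finrank k ↥(tPiece I (pt s (-(i : ℤ) - 1) (-(j : ℤ) - 1) ((m : ℤ) - 1))) =
      Module.finrank k (Plane.W' (k := k) (stair I s) (i, j) m) := by
  rw [← finrank_G I _ hI]
  have hb := stair_antitone I s hI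
  set b := stair I s with hbdef
  set α := pt s (-(i : ℤ) - 1) (-(j : ℤ) - 1) ((m : ℤ) - 1) with hα
  let top : Plane.Pt → (Fin 3 → ℤ) := fun U => pt s (U.1 : ℤ) (U.2 : ℤ) ((b U : ℤ) - 1)
  have hreg : ∀ (U : Plane.Pt) (z : ℤ), (b (U + Plane.exy + (i, j)) : ℤ) + m ≤ z + 1 → z < b U →
      pt s (U.1 : ℤ) (U.2 : ℤ) z ∈ region I α := by
    intro U z h1 h2
    rw [hα, pt_mem_region₂ I s i j m hI hm]
    refine ⟨⟨by omega, by omega, ?_⟩, Or.inr (Or.inr ?_)⟩
    · rw [show ((((U.1 : ℤ) + i + 1).toNat), (((U.2 : ℤ) + j + 1).toNat)) = U + Plane.exy + (i, j) by ext <;> simp <;> omega]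
      exact h1
    · simp only [Int.toNat_natCast]; exact h2
  have col : ∀ (g : ↥(G I α)) (U : Plane.Pt) (t : ℕ) (z : ℤ), (b (U + Plane.exy + (i, j)) : ℤ) + m ≤ z + 1 → z + t + 1 = b U →
      g.1 (pt s (U.1 : ℤ) (U.2 : ℤ) z) = g.1 (top U) := by
    intro g U t
    induction t with
    | zero =>
      intro z _ hz
      simp only [top]
      rw [show z = (b U : ℤ) - 1 by omega]
    | succ t ih =>
      intro z h1 hz
      rw [← ih (z + 1) (by omega) (by omega), ← pt_z s _ _ z, g.2.2 _ _ (hreg U z h1 (by omega))]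
      rw [pt_z]; exact hreg U (z + 1) (by omega) (by omega)
  have col' : ∀ (g : ↥(G I α)) (U : Plane.Pt) (z : ℤ), (b (U + Plane.exy + (i, j)) : ℤ) + m ≤ z + 1 → z < b U →
      g.1 (pt s (U.1 : ℤ) (U.2 : ℤ) z) = g.1 (top U) := fun g U z h1 h2 =>
    col g U ((b U : ℤ) - 1 - z).toNat z h1 (by omega)
  have neg0 : ∀ (g : ↥(G I α)) (x y z : ℤ), (x < 0 ∨ y < 0) → g.1 (pt s x y z) = 0 := fun g x y z hxy => by
    by_contra h
    have h' := (g.2.1 _ h).2
    rw [forall_pt s (fun t => 0 ≤ t)] at h'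
    omega
  let F : ↥(G I α) →ₗ[k] (Plane.Pt → k) :=
    { toFun := fun g U => g.1 (top U), map_add' := fun _ _ => rfl, map_smul' := fun _ _ => rfl }
  have hF : ∀ g, F g ∈ Plane.W' (k := k) b (i, j) m := by
    intro g
    refine ⟨fun U h => ?_, fun U h => ?_, fun U h => ?_, fun q h => ?_, fun p h => ?_⟩
    · obtain ⟨hr, -⟩ := g.2.1 _ h
      simp only [top, hα] at hr
      rw [pt_mem_region₂ I s i j m hI hm, ← hbdef] at hr
      have := hr.1.2.2
      rw [show ((((U.1 : ℤ) + i + 1).toNat), (((U.2 : ℤ) + j + 1).toNat)) = U + Plane.exy + (i, j) by ext <;> simp <;> omega] at this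
      omega
    · have h2 := hb (Plane.pt_le U Plane.ex)
      have h3 : b (U + Plane.ex + Plane.exy + (i, j)) ≤ b (U + Plane.exy + (i, j)) := hb (by constructor <;> simp)
      show g.1 (top (U + Plane.ex)) = g.1 (top U)
      rw [← col' g U ((b (U + Plane.ex) : ℤ) - 1) (by omega) (by omega)]
      have e : top (U + Plane.ex) = pt s (U.1 : ℤ) (U.2 : ℤ) ((b (U + Plane.ex) : ℤ) - 1) + Pi.single (s.symm 0) 1 := by
        rw [pt_x]; simp only [top]
        congr 1
      rw [e, g.2.2 _ _ (hreg U _ (by omega) (by omega))]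
      rw [← e]
      exact hreg (U + Plane.ex) _ (by omega) (by omega)
    · have h2 := hb (Plane.pt_le U Plane.ey)
      have h3 : b (U + Plane.ey + Plane.exy + (i, j)) ≤ b (U + Plane.exy + (i, j)) := hb (by constructor <;> simp)
      show g.1 (top (U + Plane.ey)) = g.1 (top U)
      rw [← col' g U ((b (U + Plane.ey) : ℤ) - 1) (by omega) (by omega)]
      have e : top (U + Plane.ey) = pt s (U.1 : ℤ) (U.2 : ℤ) ((b (U + Plane.ey) : ℤ) - 1) + Pi.single (s.symm 1) 1 := by
        rw [pt_y]; simp only [top]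
        congr 1
      rw [e, g.2.2 _ _ (hreg U _ (by omega) (by omega))]
      rw [← e]
      exact hreg (U + Plane.ey) _ (by omega) (by omega)
    · show g.1 (top (0, q)) = 0
      have hr : pt s (-1) (q : ℤ) ((b (0, q) : ℤ) - 1) ∈ region I α := by
        rw [hα, pt_mem_region₂ I s i j m hI hm, ← hbdef]
        refine ⟨⟨by omega, by omega, ?_⟩, Or.inl (by omega)⟩
        rw [show (((-1 : ℤ) + i + 1).toNat, ((q : ℤ) + j + 1).toNat) = ((0, q + 1) + (i, j) : Plane.Pt) by ext <;> simp <;> omega]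
        omega
      have h' : b ((0, q) + Plane.exy + (i, j)) ≤ b ((0, q + 1) + (i, j)) := hb (by constructor <;> simp)
      have e : top (0, q) = pt s (-1) (q : ℤ) ((b (0, q) : ℤ) - 1) + Pi.single (s.symm 0) 1 := by
        rw [pt_x]; simp [top]
      rw [e, g.2.2 _ _ hr]
      · exact neg0 g _ _ _ (Or.inl (by omega))
      · rw [← e]; exact hreg (0, q) _ (by omega) (by omega)
    · show g.1 (top (p, 0)) = 0
      have hr : pt s (p : ℤ) (-1) ((b (p, 0) : ℤ) - 1) ∈ region I α := by
        rw [hα, pt_mem_region₂ I s i j m hI hm, ← hbdef]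
        refine ⟨⟨by omega, by omega, ?_⟩, Or.inr (Or.inl (by omega))⟩
        rw [show (((p : ℤ) + i + 1).toNat, ((-1 : ℤ) + j + 1).toNat) = ((p + 1, 0) + (i, j) : Plane.Pt) by ext <;> simp <;> omega]
        omega
      have h' : b ((p, 0) + Plane.exy + (i, j)) ≤ b ((p + 1, 0) + (i, j)) := hb (by constructor <;> simp)
      have e : top (p, 0) = pt s (p : ℤ) (-1) ((b (p, 0) : ℤ) - 1) + Pi.single (s.symm 1) 1 := by
        rw [pt_y]; simp [top]
      rw [e, g.2.2 _ _ hr]
      · exact neg0 g _ _ _ (Or.inr (by omega))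
      · rw [← e]; exact hreg (p, 0) _ (by omega) (by omega)
  have hinj : Function.Injective F := by
    rw [injective_iff_map_eq_zero]
    intro g hg
    apply Subtype.ext
    funext γ
    by_contra hne
    obtain ⟨hr, h0⟩ := g.2.1 γ hne
    rw [pt_eta s γ] at hne hr
    rw [hα, pt_mem_region₂ I s i j m hI hm, ← hbdef] at hr
    obtain ⟨⟨h1, h2, h3⟩, h4⟩ := hr
    have hx := h0 (s.symm 0)
    have hy := h0 (s.symm 1)
    set x := γ (s.symm 0); set y := γ (s.symm 1); set z := γ (s.symm 2)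
    refine hne ?_
    have ex : x = ((((x.toNat, y.toNat) : Plane.Pt)).1 : ℕ) := by simp; omega
    have ey : y = ((((x.toNat, y.toNat) : Plane.Pt)).2 : ℕ) := by simp; omega
    have h5 : ((x.toNat, y.toNat) : Plane.Pt) + Plane.exy + (i, j) = ((x + i + 1).toNat, (y + j + 1).toNat) := by
      ext <;> simp <;> omega
    refine (congrArg g.1 (congrArg₂ (fun u v => pt s u v z) ex ey)).trans ?_
    rw [col' g _ z (by rw [h5]; omega) (by omega)]
    exact congrFun hg _
  have hrange : LinearMap.range F = Plane.W' (k := k) b (i, j) m := by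
    refine le_antisymm ?_ fun f hf => ?_
    · rintro _ ⟨g, rfl⟩; exact hF g
    classical
    let g : (Fin 3 → ℤ) → k := fun γ => if γ ∈ region I α ∧ 0 ≤ γ (s.symm 0) ∧ 0 ≤ γ (s.symm 1) then
      f ((γ (s.symm 0)).toNat, (γ (s.symm 1)).toNat) else 0
    have gv : ∀ x y z, g (pt s x y z) = if pt s x y z ∈ region I α ∧ 0 ≤ x ∧ 0 ≤ y then f (x.toNat, y.toNat) else 0 :=
      fun x y z => by simp only [g, pt, Equiv.apply_symm_apply]; rfl
    have hg : g ∈ G I α := by
      refine ⟨fun γ h => ?_, fun γ l h h' => ?_⟩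
      · rw [pt_eta s γ] at h ⊢
        rw [gv] at h
        split_ifs at h with hc
        · refine ⟨hc.1, (forall_pt s (fun t => 0 ≤ t) _ _ _).2 ⟨hc.2.1, hc.2.2, ?_⟩⟩
          have := hc.1
          rw [hα, pt_mem_region₂ I s i j m hI hm] at this
          omega
        · exact absurd rfl h
      · rw [pt_eta s γ] at h h' ⊢
        generalize γ (s.symm 0) = x at *
        generalize γ (s.symm 1) = y at *
        generalize γ (s.symm 2) = z at *
        have hr := h
        rw [hα, pt_mem_region₂ I s i j m hI hm, ← hbdef] at hr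
        obtain ⟨⟨h1, h2, h3⟩, h4⟩ := hr
        rcases pt_single s x y z l with ⟨-, e⟩ | ⟨-, e⟩ | ⟨-, e⟩
        all_goals
          rw [e] at h' ⊢
          rw [gv, gv]
          have hr' := h'
          rw [hα, pt_mem_region₂ I s i j m hI hm, ← hbdef] at hr'
          obtain ⟨⟨h1', h2', h3'⟩, h4'⟩ := hr'
        · by_cases hy : 0 ≤ y
          · by_cases hx : 0 ≤ x
            · rw [if_pos ⟨h', by omega, hy⟩, if_pos ⟨h, hx, hy⟩]
              have e1 : ((x + 1).toNat, y.toNat) = ((x.toNat, y.toNat) : Plane.Pt) + Plane.ex := by ext <;> simp <;> omega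
              rw [e1]
              refine hf.2.1 _ ?_
              rw [show ((x.toNat, y.toNat) : Plane.Pt) + Plane.exy + (i, j) = ((x + i + 1).toNat, (y + j + 1).toNat) by ext <;> simp <;> omega, ← e1]
              omega
            · rw [if_neg (c := _ ∧ 0 ≤ x ∧ 0 ≤ y) fun hh => hx hh.2.1]
              split_ifs with hx'
              · rw [show ((x + 1).toNat, y.toNat) = (0, y.toNat) by ext <;> simp; omega]
                refine hf.2.2.2.1 _ ?_
                rw [show ((0, y.toNat + 1) + (i, j) : Plane.Pt) = ((x + i + 1).toNat, (y + j + 1).toNat) by ext <;> simp <;> omega,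
                  show ((0, y.toNat) : Plane.Pt) = ((x + 1).toNat, y.toNat) by ext <;> simp; omega]
                omega
              · rfl
          · rw [if_neg fun hh => hy hh.2.2, if_neg fun hh => hy hh.2.2]
        · by_cases hx : 0 ≤ x
          · by_cases hy : 0 ≤ y
            · rw [if_pos ⟨h', hx, by omega⟩, if_pos ⟨h, hx, hy⟩]
              have e1 : (x.toNat, (y + 1).toNat) = ((x.toNat, y.toNat) : Plane.Pt) + Plane.ey := by ext <;> simp <;> omega
              rw [e1]
              refine hf.2.2.1 _ ?_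
              rw [show ((x.toNat, y.toNat) : Plane.Pt) + Plane.exy + (i, j) = ((x + i + 1).toNat, (y + j + 1).toNat) by ext <;> simp <;> omega, ← e1]
              omega
            · rw [if_neg (c := _ ∧ 0 ≤ x ∧ 0 ≤ y) fun hh => hy hh.2.2]
              split_ifs with hy'
              · rw [show (x.toNat, (y + 1).toNat) = (x.toNat, 0) by ext <;> simp; omega]
                refine hf.2.2.2.2 _ ?_
                rw [show ((x.toNat + 1, 0) + (i, j) : Plane.Pt) = ((x + i + 1).toNat, (y + j + 1).toNat) by ext <;> simp <;> omega,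
                  show ((x.toNat, 0) : Plane.Pt) = (x.toNat, (y + 1).toNat) by ext <;> simp; omega]
                omega
              · rfl
          · rw [if_neg fun hh => hx hh.2.1, if_neg fun hh => hx hh.2.1]
        · by_cases hxy : 0 ≤ x ∧ 0 ≤ y
          · rw [if_pos ⟨h', hxy⟩, if_pos ⟨h, hxy⟩]
          · rw [if_neg fun hh => hxy hh.2, if_neg fun hh => hxy hh.2]
    refine ⟨⟨g, hg⟩, funext fun U => ?_⟩
    show g (top U) = f U
    simp only [top]
    rw [gv]
    split_ifs with hc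
    · simp
    · by_contra hne
      have h1 := hf.1 U (Ne.symm hne)
      exact hc ⟨hreg U _ (by omega) (by omega), by omega, by omega⟩
  rw [← hrange, LinearMap.finrank_range_of_inj hinj]

end Three

end HilbTgtLib
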