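import Groth.Agent.HilbTgtLib.Signs

/-! The corner bound for one column of graded pieces. -/

namespace HilbTgtLib
open MvPolynomial W4c1hilbpn

namespace Plane
variable {k : Type*} [Field k] (b : Pt → ℕ) (a : Pt) (m : ℕ)

open Classical in
/-- vertices of the graph without an outgoing edge -/
noncomputable def corners (B : Finset Pt) : Finset Pt :=
  B.filter fun P => b (P + ex + a) + m ≤ b P ∧ b (P + ey + a) + m ≤ b P ∧ b P < b (P + a) + m

theorem finrank_W_le (B : Finset Pt) (hB : ∀ P, m ≤ b P → P ∈ B) :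
    Module.finrank k (W (k := k) b a m) ≤ (corners b a m B).card := by
  classical
  let π : ↥(W (k := k) b a m) →ₗ[k] (corners b a m B → k) :=
    { toFun := fun f P => f.1 P.1, map_add' := fun _ _ => rfl, map_smul' := fun _ _ => rfl }
  have hinj : Function.Injective π := by
    rw [injective_iff_map_eq_zero]
    intro f hf
    apply Subtype.ext
    funext P₀
    by_contra hne
    obtain ⟨P, hP, hmax⟩ := (B.filter fun P => f.1 P ≠ 0).exists_max_image (fun P => P.1 + P.2)
      ⟨P₀, Finset.mem_filter.2 ⟨hB _ (f.2.1 P₀ hne).2, hne⟩⟩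
    rw [Finset.mem_filter] at hP
    have step : ∀ d : Pt, 0 < d.1 + d.2 → (b P < b (P + d + a) + m → f.1 (P + d) = f.1 P) → b (P + d + a) + m ≤ b P := by
      intro d hd hstep
      by_contra hlt
      have e := hstep (not_le.1 hlt)
      have hne' : f.1 (P + d) ≠ 0 := by rw [e]; exact hP.2
      have := hmax _ (Finset.mem_filter.2 ⟨hB _ (f.2.1 _ hne').2, hne'⟩)
      simp at this
      omega
    have hc : P ∈ corners b a m B := Finset.mem_filter.2 ⟨hP.1, step ex (by simp) (f.2.2.1 P),
      step ey (by simp) (f.2.2.2 P), (f.2.1 P hP.2).1⟩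
    exact hP.2 (congrFun hf ⟨P, hc⟩)
  calc Module.finrank k (W (k := k) b a m) ≤ Module.finrank k (corners b a m B → k) :=
        LinearMap.finrank_le_finrank_of_injective hinj
    _ = _ := by rw [Module.finrank_fintype_fun_eq_card, Fintype.card_coe]

end Plane

variable {k : Type*} [Field k] (I : Ideal (MvPolynomial (Fin 3) k)) (s : Equiv.Perm (Fin 3))
  [Module.Finite k (MvPolynomial (Fin 3) k ⧸ I)] (hI : IsMonomial I)

include hI in
theorem finrank_column_le (a b : ℕ) :
    Module.finrank k ↥(⨆ α : {α : Fin 3 → ℤ // α (s.symm 0) = (a : ℤ) ∧ α (s.symm 1) = (b : ℤ) ∧ α (s.symm 2) < 0}, tPiece I α.1) ≤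
      ∑ᶠ p : ℕ × ℕ, (if a ≤ p.1 ∧ b ≤ p.2
        then stair I s p - max (stair I s (p.1 + 1, p.2)) (stair I s (p.1, p.2 + 1)) else 0) := by
  classical
  haveI := (finite_degSet I hI).to_subtype
  haveI := Fintype.ofFinite (degSet I)
  have hb := stair_antitone I s hI
  let B := (stair_support I s hI).toFinset
  have hB : ∀ P, stair I s P ≠ 0 → P ∈ B := fun P h => (stair_support I s hI).mem_toFinset.2 h
  let C : ℕ → ℕ := fun m => Module.finrank k ↥(tPiece I (pt s a b (-(m : ℤ))))
  have hstep : Module.finrank k ↥(⨆ α : {α : Fin 3 → ℤ // α (s.symm 0) = (a : ℤ) ∧ α (s.symm 1) = (b : ℤ) ∧ α (s.symm 2) < 0}, tPiece I α.1) ≤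
      ∑ m ∈ Finset.Icc 1 (stair I s 0), C m := by
    rw [finrank_iSup_tPiece I hI fun α => α (s.symm 0) = (a : ℤ) ∧ α (s.symm 1) = (b : ℤ) ∧ α (s.symm 2) < 0]
    refine le_trans (le_of_eq ((Finset.sum_congr rfl fun x _ => ite_irrel _ _).trans (Finset.sum_filter (fun x : degSet I => x.1 (s.symm 0) = (a : ℤ) ∧ x.1 (s.symm 1) = (b : ℤ) ∧ x.1 (s.symm 2) < 0) fun x => Module.finrank k ↥(tPiece I x.1)).symm)) ?_
    let T : Finset (degSet I) := Finset.univ.filter fun x : degSet I => ∃ m ∈ Finset.Icc 1 (stair I s 0), pt s a b (-(m : ℤ)) = x.1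
    have hT : ∀ x, x ∈ T ↔ ∃ m ∈ Finset.Icc 1 (stair I s 0), pt s a b (-(m : ℤ)) = x.1 := fun x => by simp [T]
    rw [← Finset.sum_filter_of_ne (p := fun x : degSet I => (-x.1 (s.symm 2)).toNat ≤ stair I s 0)]
    · rw [Finset.filter_filter]
      refine (Finset.sum_le_sum_of_subset_of_nonneg (t := T) ?_ fun _ _ _ => Nat.zero_le _).trans ?_
      · intro x hx
        simp only [Finset.mem_filter, Finset.mem_univ, true_and] at hx
        rw [hT]
        obtain ⟨⟨h0, h1, h2⟩, h3⟩ := hx
        refine ⟨(-x.1 (s.symm 2)).toNat, Finset.mem_Icc.2 ⟨by omega, h3⟩, ?_⟩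
        conv_rhs => rw [pt_eta s x.1, h0, h1]
        congr 1
        omega
      · refine le_trans (le_of_eq ?_) ((Finset.sum_image fun x _ y _ h => by have := ((pt_inj s).1 h).2.2; omega).le.trans le_rfl : ∑ α ∈ (Finset.Icc 1 (stair I s 0)).image (fun m : ℕ => pt s a b (-(m : ℤ))), Module.finrank k ↥(tPiece I α) ≤ _)
        refine Finset.sum_bij_ne_zero (fun x _ _ => x.1) ?_ ?_ ?_ fun _ _ _ => rfl
        · intro x hx _
          obtain ⟨m, hm, e⟩ := (hT x).1 hx
          exact Finset.mem_image.2 ⟨m, hm, e⟩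
        · intro x _ _ y _ _ h
          exact Subtype.ext h
        · intro α hα hne
          have hd : α ∈ degSet I := by
            by_contra hd
            rw [tPiece_eq_bot I α hI ⟨fun c => hd ⟨c⟩⟩, finrank_bot] at hne
            exact hne rfl
          obtain ⟨m, hm, e⟩ := Finset.mem_image.1 hα
          exact ⟨⟨α, hd⟩, (hT _).2 ⟨m, hm, e⟩, hne, rfl⟩
    · intro x hx hne
      obtain ⟨h0, h1, h2⟩ := (Finset.mem_filter.1 hx).2
      by_contra hbig
      apply hne
      rw [show x.1 = pt s a b (-((-x.1 (s.symm 2)).toNat : ℤ)) by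
        conv_lhs => rw [pt_eta s x.1, h0, h1]
        congr 1; omega]
      rw [finrank_piece₁ I s a b _ hI]
      refine Nat.le_zero.1 ((Plane.finrank_W_le _ _ _ ∅ fun P hP => ?_).trans (by simp [Plane.corners]))
      have := hb (show (0 : Plane.Pt) ≤ P from ⟨Nat.zero_le _, Nat.zero_le _⟩)
      omega
  refine hstep.trans ?_
  refine (Finset.sum_le_sum (g := fun m => (Plane.corners (stair I s) (a, b) m B).card) fun m hm => ?_).trans ?_
  · show Module.finrank k ↥(tPiece I (pt s a b (-(m : ℤ)))) ≤ _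
    rw [finrank_piece₁ I s a b m hI]
    refine Plane.finrank_W_le _ _ _ B fun P hP => hB P ?_
    have := (Finset.mem_Icc.1 hm).1
    omega
  · simp only [Plane.corners, Finset.card_filter]
    rw [Finset.sum_comm]
    refine (Finset.sum_le_sum (g := fun P => stair I s (P + (a, b)) -
      max (stair I s (P.1 + a + 1, P.2 + b)) (stair I s (P.1 + a, P.2 + b + 1))) fun P _ => ?_).trans ?_
    · rw [← Finset.card_filter]
      rw [show P + Plane.ex + (a, b) = (P.1 + a + 1, P.2 + b) by ext <;> simp <;> omega,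
        show P + Plane.ey + (a, b) = (P.1 + a, P.2 + b + 1) by ext <;> simp <;> omega]
      generalize stair I s P = u
      generalize stair I s (P + (a, b)) = t
      generalize stair I s (P.1 + a + 1, P.2 + b) = v
      generalize stair I s (P.1 + a, P.2 + b + 1) = w
      refine (Finset.card_le_card (t := Finset.Icc (u - t + 1) (u - max v w)) fun m hm => ?_).trans ?_
      · simp only [Finset.mem_filter, Finset.mem_Icc] at hm ⊢
        omega
      · rw [Nat.card_Icc]; omega
    · let q : Plane.Pt → ℕ := fun p => if a ≤ p.1 ∧ b ≤ p.2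
        then stair I s p - max (stair I s (p.1 + 1, p.2)) (stair I s (p.1, p.2 + 1)) else 0
      have hq : ∀ P : Plane.Pt, stair I s (P + (a, b)) - max (stair I s (P.1 + a + 1, P.2 + b)) (stair I s (P.1 + a, P.2 + b + 1)) = q (P + (a, b)) := by
        intro P
        simp only [q]
        rw [if_pos (by simp)]
        rfl
      simp only [hq]
      show _ ≤ ∑ᶠ p, q p
      rw [finsum_eq_sum_of_support_subset q (s := B ∪ B.image (· + (a, b))) fun p hp => ?_]
      · rw [← Finset.sum_image (g := fun P : Plane.Pt => P + (a, b)) fun x _ y _ h => add_right_cancel h]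
        exact Finset.sum_le_sum_of_subset Finset.subset_union_right
      · refine Finset.mem_coe.2 (Finset.mem_union_left _ (hB p fun h => hp ?_))
        simp [q, h]

end HilbTgtLib
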