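import Groth.Agent.HilbTgtLib.Piece
import Mathlib.Data.Finsupp.Weight
import Mathlib.Data.Int.Interval

/-! Decomposition of the tangent module of a monomial ideal of finite colength into graded pieces. -/

namespace HilbTgtLib
open MvPolynomial W4c1hilbpn

variable {σ : Type*} [Fintype σ] {k : Type*} [Field k] (I : Ideal (MvPolynomial σ k)) (α : σ → ℤ)

theorem coeffFun_step' [DecidableEq σ] (hI : IsMonomial I) (φ : Tgt I) {γ : σ → ℤ} {i : σ}
    (h0 : γ ∈ region I α) (h1 : γ + Pi.single i 1 ∈ region I α) :
    coeffFun I α hI φ (γ + Pi.single i 1) = coeffFun I α hI φ γ := by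
  classical
  by_cases hp1 : ∀ j, 0 ≤ (γ + Pi.single i 1 : σ → ℤ) j
  swap
  · rw [coeffFun, dif_neg fun h => hp1 h.2, coeffFun, dif_neg fun h => hp1 fun j => ?_]
    have := h.2 j
    rcases eq_or_ne j i with rfl | hne
    · simp; omega
    · simpa [hne] using this
  obtain ⟨⟨hle, hβ⟩, -⟩ := (region_iff I α).1 h0
  have hout : ofZ (γ + Pi.single i 1) ∉ exps I := fun h => ((region_iff I α).1 h1).2 ⟨hp1, h⟩
  have eβ : ofZ (γ + Pi.single i 1 - α) = ofZ (γ - α) + Finsupp.single i 1 := by
    rw [add_sub_right_comm, ofZ_add_single (γ := γ - α) fun j => sub_nonneg.2 (hle j)]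
  obtain ⟨p, hp⟩ := Ideal.Quotient.mk_surjective (φ ⟨monomial (ofZ (γ - α)) 1, hβ⟩)
  have hmul : φ ⟨monomial (ofZ (γ + Pi.single i 1 - α)) 1, ((region_iff I α).1 h1).1.2⟩ =
      Ideal.Quotient.mk I (X i * p) := by
    rw [map_mul, hp, ← smul_quot, ← map_smul]
    congr 1
    apply Subtype.ext
    simp only [SetLike.val_smul, smul_eq_mul]
    rw [eβ, X, monomial_mul, one_mul, add_comm]
  rw [coeffFun, dif_pos ⟨h1, hp1⟩, hmul, qcoeff_mk, coeff_X_mul']
  by_cases hp0 : ∀ j, 0 ≤ γ j
  · rw [coeffFun, dif_pos ⟨h0, hp0⟩, ← hp, qcoeff_mk, if_pos (by simp; have := hp0 i; omega)]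
    congr 1
    rw [ofZ_add_single hp0, add_tsub_cancel_right]
  · rw [coeffFun, dif_neg fun h => hp0 h.2, if_neg]
    obtain ⟨j, hj⟩ := not_forall.1 hp0
    have hji : j = i := by
      by_contra hne
      have := hp1 j
      simp [hne] at this
      omega
    subst hji
    simp
    omega

theorem coeffFun_const' (hI : IsMonomial I) (φ : Tgt I) {γ δ : region I α}
    (h : ((stepGraph σ).induce (region I α)).Reachable γ δ) :
    coeffFun I α hI φ γ.1 = coeffFun I α hI φ δ.1 := by
  classical
  obtain ⟨p⟩ := h
  induction p with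
  | nil => rfl
  | @cons a b c hab p ih =>
    refine Eq.trans ?_ ih
    obtain ⟨i, hi | hi⟩ := adj_iff (σ := σ) (a := a.1) (b := b.1) hab
    · rw [hi, coeffFun_step' I α hI φ a.2 (by rw [← hi]; exact b.2)]
    · rw [hi, coeffFun_step' I α hI φ b.2 (by rw [← hi]; exact a.2)]

/-- The degree `α` part of a homomorphism, as a function on components. -/
noncomputable def compFun (hI : IsMonomial I) : Tgt I →ₗ[k] (PosComp I α → k) where
  toFun φ c := coeffFun I α hI φ c.1.exists_rep.choose.1
  map_add' φ ψ := by
    funext c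
    simp only [Pi.add_apply, coeffFun]
    split_ifs with h
    · simp
    · simp
  map_smul' a φ := by
    funext c
    simp only [Pi.smul_apply, coeffFun, RingHom.id_apply]
    split_ifs with h
    · simp
    · simp

theorem pieceEquiv_apply (hI : IsMonomial I) (φ : ↥(tPiece I α)) : pieceEquiv I α hI φ = compFun I α hI φ.1 := rfl

theorem compFun_toTgt (hI : IsMonomial I) (f : PosComp I α → k) : compFun I α hI (toTgt I α hI f) = f :=
  (pieceEquiv I α hI).apply_symm_apply f

theorem coeffFun_eq_extFun (hI : IsMonomial I) (φ : Tgt I) {γ : σ → ℤ} (hr : γ ∈ region I α) :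
    coeffFun I α hI φ γ = extFun I α (compFun I α hI φ) γ := by
  classical
  unfold extFun
  rw [dif_pos hr]
  set c := ((stepGraph σ).induce (region I α)).connectedComponentMk ⟨γ, hr⟩ with hc
  split_ifs with hpos
  · exact (coeffFun_const' I α hI φ (δ := ⟨γ, hr⟩) (SimpleGraph.ConnectedComponent.exact c.exists_rep.choose_spec)).symm
  · push_neg at hpos
    obtain ⟨δ, hδ, i, hi⟩ := hpos
    rw [coeffFun_const' I α hI φ (γ := ⟨γ, hr⟩) (SimpleGraph.ConnectedComponent.exact ((SimpleGraph.ConnectedComponent.mem_supp_iff _ _).1 hδ)).symm, coeffFun, dif_neg fun h => absurd (h.2 i) (not_le.2 hi)]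

theorem compFun_eq_zero_of_ne (hI : IsMonomial I) {α' : σ → ℤ} (hne : α' ≠ α) {φ : Tgt I} (hφ : φ ∈ tPiece I α') :
    compFun I α hI φ = 0 := by
  classical
  funext c
  show coeffFun I α hI φ c.1.exists_rep.choose.1 = 0
  generalize c.1.exists_rep.choose.1 = γ
  rw [coeffFun]
  split_ifs with h
  · obtain ⟨⟨hle, hβ⟩, hout⟩ := (region_iff I α).1 h.1
    by_cases h' : ∀ i, 0 ≤ toZ (ofZ (γ - α)) i + α' i
    · obtain ⟨a, ha⟩ := Submodule.mem_span_singleton.1 ((hφ _ hβ).1 h')
      rw [← ha, map_smul, qcoeff_mk, coeff_monomial, if_neg, smul_zero]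
      intro e
      apply hne
      funext i
      have := congrArg (· i) e
      simp only [shift_eq, ofZ_apply, Pi.add_apply, toZ, Pi.sub_apply] at this h' ⊢
      have h1 := h' i; have h2 := h.2 i; have h3 := hle i
      omega
    · obtain ⟨i, hi⟩ := not_forall.1 h'
      rw [(hφ _ hβ).2 ⟨i, not_le.1 hi⟩, map_zero]
  · rfl

/-- a minimal exponent of `I` below a given one, and the descending path stays in the component -/
theorem exists_minimal_in_comp [DecidableEq σ] (c : PosComp I α) :
    ∃ γ ∈ c.1.supp, ∀ i, 0 < γ.1 i - α i → ofZ (γ.1 - α - Pi.single i 1) ∉ exps I := by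
  classical
  obtain ⟨γ₀, hγ₀⟩ := c.1.exists_rep
  have key : ∀ (d : ℕ) (γ : region I α), γ ∈ c.1.supp → (ofZ (γ.1 - α)).degree = d →
      ∃ δ ∈ c.1.supp, ∀ i, 0 < δ.1 i - α i → ofZ (δ.1 - α - Pi.single i 1) ∉ exps I := by
    intro d
    induction d using Nat.strong_induction_on with
    | _ d ih =>
      intro γ hγ hd
      by_cases hall : ∀ i, 0 < γ.1 i - α i → ofZ (γ.1 - α - Pi.single i 1) ∉ exps I
      · exact ⟨γ, hγ, hall⟩
      push_neg at hall
      obtain ⟨i, hi, hmem⟩ := hall
      obtain ⟨⟨hle, -⟩, hout⟩ := (region_iff I α).1 γ.2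
      have h0 := c.2 γ hγ
      have hr : γ.1 - Pi.single i 1 ∈ region I α := by
        refine (region_iff I α).2 ⟨⟨fun j => ?_, by rw [sub_right_comm]; exact hmem⟩, fun h => hout ⟨h0, exps_mono I h.2 fun j => ?_⟩⟩
        · rcases eq_or_ne j i with rfl | hne
          · simp; omega
          · simp [hne]; exact hle j
        · rcases eq_or_ne j i with rfl | hne
          · simp
          · simp [hne]
      have hc : (⟨_, hr⟩ : region I α) ∈ c.1.supp := by
        rw [SimpleGraph.ConnectedComponent.mem_supp_iff] at hγ ⊢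
        rw [← hγ]
        refine SimpleGraph.ConnectedComponent.connectedComponentMk_eq_of_adj ?_
        show (stepGraph σ).Adj (γ.1 - Pi.single i 1) γ.1
        conv => arg 3; rw [← sub_add_cancel γ.1 (Pi.single i 1)]
        exact adj_single _ i
      refine ih _ ?_ ⟨_, hr⟩ hc rfl
      have e : ofZ (γ.1 - α) = ofZ (γ.1 - α - Pi.single i 1) + Finsupp.single i 1 := by
        rw [← ofZ_add_single, sub_add_cancel]
        intro j
        rcases eq_or_ne j i with rfl | hne
        · simp; omega
        · simp [hne]; exact hle j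
      rw [← hd, e, map_add, Finsupp.degree_single, sub_right_comm]
      omega
  exact key _ γ₀ ((SimpleGraph.ConnectedComponent.mem_supp_iff _ _).2 hγ₀) rfl

/-- the degrees carrying a nonzero piece -/
def degSet : Set (σ → ℤ) := {α | Nonempty (PosComp I α)}

theorem finite_degSet [Module.Finite k (MvPolynomial σ k ⧸ I)] (hI : IsMonomial I) : (degSet I).Finite := by
  classical
  obtain ⟨N, hN⟩ : ∃ N : ℕ, ∀ β ∉ exps I, ∀ i, β i < N := by
    refine ⟨(finite_std I hI).toFinset.sup (fun β => β.degree) + 1, fun β hβ i => ?_⟩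
    have h1 : β.degree ≤ _ := Finset.le_sup (f := fun β : σ →₀ ℕ => β.degree) ((finite_std I hI).mem_toFinset.2 hβ)
    have h2 : β i ≤ β.degree := Finsupp.le_degree i β
    omega
  refine (Set.Finite.pi (fun _ : σ => Set.finite_Icc (-(N : ℤ) - 1) (N + 1))).subset ?_
  rintro α ⟨c⟩ i -
  obtain ⟨γ, hγ, hmin⟩ := exists_minimal_in_comp I α c
  obtain ⟨⟨hle, -⟩, hout⟩ := (region_iff I α).1 γ.2
  have h0 := c.2 γ hγ
  have h1 := hN _ (fun h => hout ⟨h0, h⟩) i
  rw [ofZ_apply] at h1
  have := hle i
  have := h0 i
  constructor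
  · by_contra hlt
    have h2 := hN _ (hmin i (by omega)) i
    simp at h2
    omega
  · omega

/-- The tangent module is the product of its graded pieces. -/
theorem compFun_bijective [Module.Finite k (MvPolynomial σ k ⧸ I)] (hI : IsMonomial I) :
    Function.Bijective (LinearMap.pi fun a : degSet I => compFun I a.1 hI) := by
  classical
  haveI := (finite_degSet I hI).to_subtype
  haveI := Fintype.ofFinite (degSet I)
  constructor
  · rw [injective_iff_map_eq_zero]
    intro φ hφ
    apply LinearMap.ext
    rintro ⟨p, hp⟩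
    have key : ∀ β (hβ : monomial β (1 : k) ∈ I), φ ⟨monomial β 1, hβ⟩ = 0 := by
      intro β hβ
      obtain ⟨q, hq⟩ := Ideal.Quotient.mk_surjective (φ ⟨monomial β 1, hβ⟩)
      rw [← hq, Ideal.Quotient.eq_zero_iff_mem, q.as_sum]
      refine Submodule.sum_mem _ fun δ hδ => ?_
      by_contra hmem
      have hout : δ ∉ exps I := fun h => hmem (by
        rw [show monomial δ (coeff δ q) = C (coeff δ q) * monomial δ 1 by rw [C_mul_monomial, mul_one]]
        exact I.mul_mem_left _ h)
      set α := toZ δ - toZ β with hα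
      have eδ : ofZ (toZ δ) = δ := by ext i; simp [toZ]
      have hr : toZ δ ∈ region I α := (region_iff I α).2 ⟨⟨fun i => by simp [hα, toZ], by
        rw [show toZ δ - α = toZ β by rw [hα]; abel, show ofZ (toZ β) = β by ext i; simp [toZ]]; exact hβ⟩,
        fun h => hout (eδ ▸ h.2)⟩
      have h1 : coeffFun I α hI φ (toZ δ) ≠ 0 := by
        rw [coeffFun, dif_pos ⟨hr, fun i => Int.natCast_nonneg _⟩]
        have : (⟨monomial (ofZ (toZ δ - α)) (1 : k), ((region_iff I α).1 hr).1.2⟩ : I) = ⟨monomial β 1, hβ⟩ := by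
          apply Subtype.ext
          show monomial (ofZ (toZ δ - α)) (1 : k) = monomial β 1
          rw [show toZ δ - α = toZ β by rw [hα]; abel, show ofZ (toZ β) = β by ext i; simp [toZ]]
        rw [this, ← hq, qcoeff_mk, eδ]
        exact mem_support_iff.1 hδ
      rw [coeffFun_eq_extFun I α hI φ hr] at h1
      by_cases hd : α ∈ degSet I
      · have : compFun I α hI φ = 0 := congrFun hφ ⟨α, hd⟩
        rw [this] at h1
        simp [extFun] at h1
      · refine h1 ?_
        unfold extFun
        rw [dif_pos hr, dif_neg fun h => hd ⟨⟨_, h⟩⟩]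
    have hsum : (⟨p, hp⟩ : I) = ∑ β ∈ p.support.attach, (C (coeff β.1 p) : MvPolynomial σ k) • (⟨monomial β.1 1, hI p hp β.1 β.2⟩ : I) := by
      apply Subtype.ext
      simp only [AddSubmonoidClass.coe_finsetSum, SetLike.val_smul, smul_eq_mul, C_mul_monomial, mul_one]
      rw [Finset.sum_attach p.support fun β => monomial β (coeff β p)]
      exact p.as_sum
    rw [hsum, map_sum, LinearMap.zero_apply]
    exact Finset.sum_eq_zero fun β _ => by rw [map_smul, key, smul_zero]
  · intro f
    refine ⟨∑ a : degSet I, toTgt I a.1 hI (f a), funext fun b => ?_⟩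
    rw [LinearMap.pi_apply, map_sum, Finset.sum_eq_single b, compFun_toTgt]
    · intro a _ hab
      exact compFun_eq_zero_of_ne I b.1 hI (fun e => hab (Subtype.ext e)) (toTgt_mem I a.1 hI (f a))
    · simp

theorem sum_toTgt [Module.Finite k (MvPolynomial σ k ⧸ I)] [Fintype (degSet I)] (hI : IsMonomial I) (φ : Tgt I) :
    ∑ a : degSet I, toTgt I a.1 hI (compFun I a.1 hI φ) = φ := by
  classical
  refine (compFun_bijective I hI).1 (funext fun b => ?_)
  rw [LinearMap.pi_apply, LinearMap.pi_apply, map_sum, Finset.sum_eq_single b, compFun_toTgt]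
  · intro a _ hab
    exact compFun_eq_zero_of_ne I b.1 hI (fun e => hab (Subtype.ext e)) (toTgt_mem I a.1 hI _)
  · simp

theorem tPiece_eq_bot (hI : IsMonomial I) (h : IsEmpty (PosComp I α)) : tPiece I α = ⊥ := by
  rw [Submodule.eq_bot_iff]
  intro φ hφ
  have : (⟨φ, hφ⟩ : ↥(tPiece I α)) = 0 := (pieceEquiv I α hI).injective (funext fun c => h.elim c)
  exact congrArg Subtype.val this

theorem finrank_Tgt [Module.Finite k (MvPolynomial σ k ⧸ I)] [Fintype (degSet I)] (hI : IsMonomial I) :
    Module.finrank k (Tgt I) = ∑ a : degSet I, Module.finrank k ↥(tPiece I a.1) := by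
  haveI := fun a : degSet I => finite_posComp I a.1 hI
  rw [(LinearEquiv.ofBijective _ (compFun_bijective I hI)).finrank_eq, Module.finrank_pi_fintype]
  exact Finset.sum_congr rfl fun a _ => ((pieceEquiv I a.1 hI).finrank_eq).symm

theorem isEmpty_posComp_nonneg (h : ∀ i, 0 ≤ α i) : IsEmpty (PosComp I α) := by
  constructor
  intro c
  obtain ⟨γ, hγ⟩ := c.1.exists_rep
  obtain ⟨⟨hle, hβ⟩, hout⟩ := (region_iff I α).1 γ.2
  exact hout ⟨fun i => (h i).trans (hle i), exps_mono I hβ fun i => by simp; have := h i; omega⟩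

theorem isEmpty_posComp_neg [DecidableEq σ] [Module.Finite k (MvPolynomial σ k ⧸ I)] [Nontrivial σ] (hI : IsMonomial I)
    (h : ∀ i, α i < 0) : IsEmpty (PosComp I α) := by
  classical
  constructor
  intro c
  obtain ⟨i, j, hij⟩ := exists_pair_ne σ
  obtain ⟨N, hN⟩ : ∃ N : ℕ, ∀ β : σ →₀ ℕ, N ≤ β j → β ∈ exps I := by
    refine ⟨(finite_std I hI).toFinset.sup (fun β => β j) + 1, fun β hβ => ?_⟩
    by_contra hout
    have := Finset.le_sup (f := fun β : σ →₀ ℕ => β j) ((finite_std I hI).mem_toFinset.2 hout)
    omega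
  -- descend in coordinate i
  have key : ∀ (m a : ℕ) (γ : region I α), γ ∈ c.1.supp → (γ.1 i - α i).toNat = m →
      N - (γ.1 j - α j).toNat ≤ a → False := by
    intro m
    induction m using Nat.strong_induction_on with
    | _ m ih =>
      intro a
      induction a using Nat.strong_induction_on with
      | _ a iha =>
        intro γ hγ hm ha
        obtain ⟨⟨hle, hβ⟩, hout⟩ := (region_iff I α).1 γ.2
        have h0 := c.2 γ hγ
        have hpos : 0 < γ.1 i - α i := by have := h0 i; have := h i; omega
        by_cases hmem : ofZ (γ.1 - α - Pi.single i 1) ∈ exps I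
        · have hr : γ.1 - Pi.single i 1 ∈ region I α := by
            refine (region_iff I α).2 ⟨⟨fun l => ?_, by rw [sub_right_comm]; exact hmem⟩, fun hh => hout ⟨h0, exps_mono I hh.2 fun l => ?_⟩⟩
            · rcases eq_or_ne l i with rfl | hne
              · simp; omega
              · simp [hne]; exact hle l
            · rcases eq_or_ne l i with rfl | hne
              · simp
              · simp [hne]
          have hc : (⟨_, hr⟩ : region I α) ∈ c.1.supp := by
            rw [SimpleGraph.ConnectedComponent.mem_supp_iff] at hγ ⊢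
            rw [← hγ]
            refine SimpleGraph.ConnectedComponent.connectedComponentMk_eq_of_adj ?_
            show (stepGraph σ).Adj (γ.1 - Pi.single i 1) γ.1
            conv => arg 3; rw [← sub_add_cancel γ.1 (Pi.single i 1)]
            exact adj_single _ i
          exact ih _ (by simp; omega) _ ⟨_, hr⟩ hc rfl le_rfl
        · have hlt : (γ.1 j - α j).toNat < N := by
            by_contra hge
            exact hmem (hN _ (by simp [hij.symm]; omega))
          have hr : γ.1 + Pi.single j 1 ∈ region I α := by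
            refine (region_iff I α).2 ⟨⟨fun l => ?_, by rw [add_sub_right_comm, ofZ_add_single (γ := γ.1 - α) fun l => sub_nonneg.2 (hle l)]; exact exps_add_single I hβ j⟩, fun hh => hmem (exps_mono I hh.2 fun l => ?_)⟩
            · have := hle l
              rcases eq_or_ne l j with rfl | hne
              · simp; omega
              · simp [hne]; omega
            · have := h l
              rcases eq_or_ne l i with rfl | hne
              · simp [hij]; omega
              · rcases eq_or_ne l j with rfl | hne'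
                · simp [hne]; omega
                · simp [hne, hne']; omega
          have hc : (⟨_, hr⟩ : region I α) ∈ c.1.supp := by
            rw [SimpleGraph.ConnectedComponent.mem_supp_iff] at hγ ⊢
            rw [← hγ]
            exact (SimpleGraph.ConnectedComponent.connectedComponentMk_eq_of_adj (by exact adj_single γ.1 j)).symm
          refine iha (a - 1) (by omega) ⟨_, hr⟩ hc (by simp [hij, hm]) ?_
          have := hle j
          simp; omega
  obtain ⟨γ, hγ⟩ := c.1.exists_rep
  exact key _ _ γ ((SimpleGraph.ConnectedComponent.mem_supp_iff _ _).2 hγ) rfl le_rfl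

end HilbTgtLib
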