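import Groth.Agent.HilbTgtLib.Bridge

/-! The duality identity for sums of graded pieces along the third axis. -/

namespace HilbTgtLib
open MvPolynomial W4c1hilbpn

variable {k : Type*} [Field k] (I : Ideal (MvPolynomial (Fin 3) k)) (s : Equiv.Perm (Fin 3))
  [Module.Finite k (MvPolynomial (Fin 3) k ⧸ I)] (hI : IsMonomial I)

theorem card_layers (u v M : ℕ) (h : u ≤ M) :
    ((Finset.Icc 1 M).filter fun m => v + m ≤ u).card = u - v := by
  rw [show (Finset.Icc 1 M).filter (fun m => v + m ≤ u) = Finset.Icc 1 (u - v) by ext m; simp; omega, Nat.card_Icc]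
  omega

include hI in
theorem sum_pieces (a b : ℕ) :
    (∑ m ∈ Finset.Icc 1 (stair I s 0), Module.finrank k ↥(tPiece I (pt s a b (-(m : ℤ))))) =
      stair I s (a, b) + ∑ m ∈ Finset.Icc 1 (stair I s 0),
        Module.finrank k ↥(tPiece I (pt s (-(a : ℤ) - 1) (-(b : ℤ) - 1) ((m : ℤ) - 1))) := by
  classical
  have hb := stair_antitone I s hI
  set f := stair I s with hf
  obtain ⟨N, hN⟩ : ∃ N, ∀ P : Plane.Pt, f P ≠ 0 → P.1 < N ∧ P.2 < N := by
    refine ⟨(stair_support I s hI).toFinset.sup (fun P => max P.1 P.2) + 1, fun P hP => ?_⟩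
    have := Finset.le_sup (f := fun P : Plane.Pt => max P.1 P.2) ((stair_support I s hI).mem_toFinset.2 hP)
    omega
  let B : Finset Plane.Pt := Finset.range N ×ˢ Finset.range N
  let D : ℕ → Finset Plane.Pt := fun m => B.filter fun P => m ≤ f P
  have hD : ∀ m, 1 ≤ m → ∀ P, P ∈ D m ↔ m ≤ f P := fun m hm P => by
    simp only [D, B, Finset.mem_filter, Finset.mem_product, Finset.mem_range]
    exact ⟨fun h => h.2, fun h => ⟨hN P (by omega), h⟩⟩
  have hlayer : ∀ d : Plane.Pt, ((∑ m ∈ Finset.Icc 1 (f 0), (Plane.Aset f (a, b) m (D m) d).card : ℕ) : ℤ) =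
      ∑ P ∈ B, ((f P : ℤ) - f (P + d + (a, b))) := by
    intro d
    have e : ∀ m, 1 ≤ m → Plane.Aset f (a, b) m (D m) d = B.filter fun P => f (P + d + (a, b)) + m ≤ f P := by
      intro m hm
      ext P
      simp only [Plane.Aset, D, Finset.mem_filter]
      exact ⟨fun h => ⟨h.1.1, h.2⟩, fun h => ⟨⟨h.1, by omega⟩, h.2⟩⟩
    rw [Finset.sum_congr rfl fun m hm => by rw [e m (Finset.mem_Icc.1 hm).1]]
    simp only [Finset.card_filter]
    rw [Finset.sum_comm, Nat.cast_sum]
    refine Finset.sum_congr rfl fun P _ => ?_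
    rw [← Finset.card_filter, card_layers _ _ _ (hb (show (0 : Plane.Pt) ≤ P from ⟨Nat.zero_le _, Nat.zero_le _⟩))]
    have h1 : f (P + d + (a, b)) ≤ f P := hb (le_trans (Plane.pt_le P d) (Plane.pt_le _ _))
    omega
  have hm : ∀ m ∈ Finset.Icc 1 (f 0),
      Module.finrank k ↥(tPiece I (pt s a b (-(m : ℤ)))) + (Plane.Aset f (a, b) m (D m) 0).card +
          (Plane.Aset f (a, b) m (D m) Plane.exy).card =
        (Plane.Aset f (a, b) m (D m) Plane.ex).card + (Plane.Aset f (a, b) m (D m) Plane.ey).card +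
          Module.finrank k ↥(tPiece I (pt s (-(a : ℤ) - 1) (-(b : ℤ) - 1) ((m : ℤ) - 1))) := by
    intro m hm
    rw [Finset.mem_Icc] at hm
    rw [finrank_piece₁ I s a b m hI, finrank_piece₂ I s a b m hI hm.1]
    exact Plane.finrank_W_add f (a, b) m hb hm.1 (D m) (hD m hm.1)
  have hsum := congrArg (Nat.cast : ℕ → ℤ) (Finset.sum_congr rfl hm)
  simp only [Finset.sum_add_distrib, Nat.cast_add, hlayer] at hsum
  have htel : ∑ P ∈ B, (((f (P + 0 + (a, b)) : ℤ) - f (P + Plane.ex + (a, b))) -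
      (f (P + Plane.ey + (a, b)) - f (P + Plane.exy + (a, b)))) = f (a, b) := by
    have hz : ∀ p q : ℕ, N ≤ p ∨ N ≤ q → f (p + a, q + b) = 0 := fun p q h => by
      by_contra hne
      have := hN _ hne
      simp at this
      omega
    let u : ℕ → ℕ → ℤ := fun p q => f ((p, q) + (a, b))
    rw [Finset.sum_product]
    have e : ∀ p q, (((f ((p, q) + (0 : Plane.Pt) + (a, b)) : ℤ) - f ((p, q) + Plane.ex + (a, b))) -
        (f ((p, q) + Plane.ey + (a, b)) - f ((p, q) + Plane.exy + (a, b)))) = (u p q - u (p + 1) q) - (u p (q + 1) - u (p + 1) (q + 1)) := by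
      intro p q
      simp only [u, add_zero]
      rfl
    simp only [e]
    rw [Finset.sum_congr rfl fun p _ => Finset.sum_range_sub' (fun q => u p q - u (p + 1) q) N]
    rw [Finset.sum_congr rfl fun p _ => show (u p 0 - u (p + 1) 0) - (u p N - u (p + 1) N) = u p 0 - u (p + 1) 0 by
      simp [u, hz p N (Or.inr le_rfl), hz (p + 1) N (Or.inr le_rfl)]]
    rw [Finset.sum_range_sub' (fun p => u p 0) N]
    simpa [u] using hz N 0 (Or.inl le_rfl)
  simp only [Finset.sum_sub_distrib] at htel hsum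
  omega

include hI in
theorem finrank_axis_sum (a b : ℕ) :
    Module.finrank k ↥(⨆ α : {α : Fin 3 → ℤ // α (s.symm 0) = (a : ℤ) ∧ α (s.symm 1) = (b : ℤ)}, tPiece I α.1) =
      stair I s (a, b) + Module.finrank k ↥(⨆ α : {α : Fin 3 → ℤ // α (s.symm 0) = -(a : ℤ) - 1 ∧ α (s.symm 1) = -(b : ℤ) - 1}, tPiece I α.1) := by
  classical
  haveI := (finite_degSet I hI).to_subtype
  haveI := Fintype.ofFinite (degSet I)
  have hb := stair_antitone I s hI
  have key : ∀ (e : ℕ → (Fin 3 → ℤ)) (p : (Fin 3 → ℤ) → Prop), Function.Injective e →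
      (∀ α, p α → Module.finrank k ↥(tPiece I α) ≠ 0 → ∃ m ∈ Finset.Icc 1 (stair I s 0), e m = α) →
      (∀ m, p (e m)) →
      Module.finrank k ↥(⨆ α : {α // p α}, tPiece I α.1) =
        ∑ m ∈ Finset.Icc 1 (stair I s 0), Module.finrank k ↥(tPiece I (e m)) := by
    intro e p he hsurj hp
    rw [finrank_iSup_tPiece I hI p, ← Finset.sum_filter]
    rw [← Finset.sum_image (f := fun α => Module.finrank k ↥(tPiece I α)) fun x _ y _ h => he h]
    refine Finset.sum_bij_ne_zero (fun x _ _ => x.1) ?_ ?_ ?_ ?_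
    · intro x hx h
      obtain ⟨m, hm, hme⟩ := hsurj x.1 (Finset.mem_filter.1 hx).2 h
      exact Finset.mem_image.2 ⟨m, hm, hme⟩
    · intro x _ _ y _ _ h
      exact Subtype.ext h
    · intro α hα hne
      have hd : α ∈ degSet I := by
        by_contra hd
        rw [tPiece_eq_bot I α hI ⟨fun c => hd ⟨c⟩⟩, finrank_bot] at hne
        exact hne rfl
      obtain ⟨m, -, hme⟩ := Finset.mem_image.1 hα
      exact ⟨⟨α, hd⟩, Finset.mem_filter.2 ⟨Finset.mem_univ _, hme ▸ hp m⟩, hne, rfl⟩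
    · exact fun _ _ _ => rfl
  have h1 := key (fun m => pt s a b (-(m : ℤ))) (fun α => α (s.symm 0) = (a : ℤ) ∧ α (s.symm 1) = (b : ℤ))
    (fun x y h => by have := ((pt_inj s).1 h).2.2; omega) ?_ (fun m => by simp [pt])
  have h2 := key (fun m => pt s (-(a : ℤ) - 1) (-(b : ℤ) - 1) ((m : ℤ) - 1))
    (fun α => α (s.symm 0) = -(a : ℤ) - 1 ∧ α (s.symm 1) = -(b : ℤ) - 1)
    (fun x y h => by have := ((pt_inj s).1 h).2.2; omega) ?_ (fun m => by simp [pt])
  · rw [h1, h2, sum_pieces I s hI]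
  · rintro α ⟨h0, h1⟩ hne
    rw [pt_eta s α, h0, h1] at hne ⊢
    generalize α (s.symm 2) = c at *
    have hc : 0 ≤ c := by
      by_contra hc
      rw [tPiece_eq_bot I _ hI (isEmpty_posComp_neg I _ hI ((forall_pt s (fun t => t < 0) _ _ _).2 ⟨by omega, by omega, by omega⟩)), finrank_bot] at hne
      exact hne rfl
    obtain ⟨t, rfl⟩ : ∃ t : ℕ, c = (t : ℤ) := ⟨c.toNat, by omega⟩
    refine ⟨t + 1, Finset.mem_Icc.2 ⟨by omega, ?_⟩, by simp⟩
    by_contra hbig
    apply hne
    rw [show (t : ℤ) = ((t + 1 : ℕ) : ℤ) - 1 by simp, finrank_piece₂ I s a b (t + 1) hI (by omega)]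
    refine (congrArg (fun S : Submodule k (Plane.Pt → k) => Module.finrank k S) ?_).trans (finrank_bot k (Plane.Pt → k))
    rw [Submodule.eq_bot_iff]
    intro f hf
    funext P
    by_contra hP
    have := hf.1 P hP
    have := hb (show (0 : Plane.Pt) ≤ P from ⟨Nat.zero_le _, Nat.zero_le _⟩)
    omega
  · rintro α ⟨h0, h1⟩ hne
    rw [pt_eta s α, h0, h1] at hne ⊢
    generalize α (s.symm 2) = c at *
    have hc : c < 0 := by
      by_contra hc
      rw [tPiece_eq_bot I _ hI (isEmpty_posComp_nonneg I _ ((forall_pt s (fun t => 0 ≤ t) _ _ _).2 ⟨by omega, by omega, by omega⟩)), finrank_bot] at hne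
      exact hne rfl
    obtain ⟨t, rfl⟩ : ∃ t : ℕ, c = -(t : ℤ) := ⟨c.natAbs, by omega⟩
    refine ⟨t, Finset.mem_Icc.2 ⟨by omega, ?_⟩, rfl⟩
    by_contra hbig
    apply hne
    rw [finrank_piece₁ I s a b t hI]
    refine (congrArg (fun S : Submodule k (Plane.Pt → k) => Module.finrank k S) ?_).trans (finrank_bot k (Plane.Pt → k))
    rw [Submodule.eq_bot_iff]
    intro f hf
    funext P
    by_contra hP
    have := (hf.1 P hP).2
    have := hb (show (0 : Plane.Pt) ≤ P from ⟨Nat.zero_le _, Nat.zero_le _⟩)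
    omega

end HilbTgtLib
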