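import Groth.Agent.HilbTgtLib.Borel

/-! The extremal ideal. -/

namespace HilbTgtLib
open MvPolynomial W4c1hilbpn

variable {k : Type*} [Field k]

theorem sum_range_tsub_antitone {g : ℕ → ℕ} (h : Antitone g) :
    ∀ n, ∑ i ∈ Finset.range n, (g i - g (i + 1)) = g 0 - g n
  | 0 => by simp
  | n + 1 => by
    rw [Finset.sum_range_succ, sum_range_tsub_antitone h n]
    have := h (Nat.zero_le n)
    have : g (n + 1) ≤ g n := h (Nat.le_succ n)
    omega

section Col
variable (I : Ideal (MvPolynomial (Fin 3) k)) [Module.Finite k (MvPolynomial (Fin 3) k ⧸ I)]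

theorem degSet_bound (hI : IsMonomial I) : ∃ M : ℕ, ∀ x ∈ degSet I, ∀ l, (x l).natAbs < M := by
  refine ⟨(finite_degSet I hI).toFinset.sup (fun x => Finset.univ.sup fun l => (x l).natAbs) + 1, fun x hx l => ?_⟩
  have h1 := Finset.le_sup (f := fun x : Fin 3 → ℤ => Finset.univ.sup fun l => (x l).natAbs) ((finite_degSet I hI).mem_toFinset.2 hx)
  have h2 := Finset.le_sup (f := fun l => (x l).natAbs) (Finset.mem_univ l)
  omega

theorem sig_eq_columns (hI : IsMonomial I) (s : Equiv.Perm (Fin 3)) {M : ℕ} (hM : ∀ x ∈ degSet I, ∀ l, (x l).natAbs < M) :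
    Module.finrank k ↥(sigPiece I {s.symm 2}) = ∑ P ∈ Finset.range M ×ˢ Finset.range M,
      Module.finrank k ↥(⨆ α : {α : Fin 3 → ℤ // α (s.symm 0) = (P.1 : ℤ) ∧ α (s.symm 1) = (P.2 : ℤ) ∧ α (s.symm 2) < 0}, tPiece I α.1) := by
  classical
  haveI := (finite_degSet I hI).to_subtype
  haveI := Fintype.ofFinite (degSet I)
  simp only [finrank_iSup_tPiece I hI]
  rw [Finset.sum_comm, finrank_sigPiece_eq I hI]
  have hne01 : s.symm 0 ≠ s.symm 2 := fun h => absurd (s.symm.injective h) (by decide)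
  have hne12 : s.symm 1 ≠ s.symm 2 := fun h => absurd (s.symm.injective h) (by decide)
  refine Finset.sum_congr rfl fun x _ => ?_
  by_cases h : 0 ≤ x.1 (s.symm 0) ∧ 0 ≤ x.1 (s.symm 1) ∧ x.1 (s.symm 2) < 0
  · rw [if_pos, Finset.sum_eq_single ((x.1 (s.symm 0)).toNat, (x.1 (s.symm 1)).toNat), if_pos]
    · refine ⟨?_, ?_, h.2.2⟩ <;> simp <;> omega
    · intro P _ hP
      rw [if_neg]
      rintro ⟨e0, e1, -⟩
      exact hP (Prod.ext (by simp [e0]) (by simp [e1]))
    · intro hn
      exfalso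
      apply hn
      have := hM x.1 x.2 (s.symm 0); have := hM x.1 x.2 (s.symm 1)
      simp only [Finset.mem_product, Finset.mem_range]
      omega
    · intro l
      rcases perm_cover s l with rfl | rfl | rfl
      · simp [hne01]; omega
      · simp [hne12]; omega
      · simp [h.2.2]
  · rw [if_neg fun hh => h ⟨not_lt.1 fun e => hne01 ((hh _).1 e), not_lt.1 fun e => hne12 ((hh _).1 e), (hh _).2 rfl⟩]
    refine (Finset.sum_eq_zero fun P _ => if_neg ?_).symm
    rintro ⟨e0, e1, e2⟩
    exact h ⟨by omega, by omega, e2⟩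

theorem upper_bound (hI : IsMonomial I) (s : Equiv.Perm (Fin 3)) (hs : s.symm 0 = 0) {N : ℕ}
    (hN : ∀ β : Fin 3 →₀ ℕ, β ∉ exps I → ∀ l, β l < N) (hx : ∀ p q, stair I s (p + 1, q) ≤ stair I s (p, q + 1)) :
    Module.finrank k ↥(sigPiece I {s.symm 2}) ≤ ∑ a ∈ Finset.range N, ∑ p ∈ Finset.Ico a N, sliceLen I p := by
  classical
  obtain ⟨M₀, hM₀⟩ := degSet_bound I hI
  let M := max M₀ N
  have hM : ∀ x ∈ degSet I, ∀ l, (x l).natAbs < M := fun x hx l => lt_of_lt_of_le (hM₀ x hx l) (le_max_left _ _)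
  rw [sig_eq_columns I hI s hM]
  have hb := stair_antitone I s hI
  set f := stair I s with hf
  have hcol : ∀ a b : ℕ, (∑ᶠ p : ℕ × ℕ, (if a ≤ p.1 ∧ b ≤ p.2 then f p - max (f (p.1 + 1, p.2)) (f (p.1, p.2 + 1)) else 0)) =
      ∑ p ∈ Finset.Ico a N, f (p, b) := by
    intro a b
    rw [finsum_eq_sum_of_support_subset _ (s := Finset.range N ×ˢ Finset.range N) fun p hp => ?_]
    · rw [Finset.sum_product, ← Finset.sum_subset (s₁ := Finset.Ico a N) (fun p hp => by simp at hp ⊢; omega) fun p hp1 hp2 => ?_]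
      · refine Finset.sum_congr rfl fun p hp => ?_
        rw [Finset.mem_Ico] at hp
        have hterm : ∀ q, (if a ≤ (p, q).1 ∧ b ≤ (p, q).2 then f (p, q) - max (f ((p, q).1 + 1, (p, q).2)) (f ((p, q).1, (p, q).2 + 1)) else 0) =
            f (p, max b q) - f (p, max b (q + 1)) := by
          intro q
          simp only
          split_ifs with h
          · rw [max_eq_right (hx p q), max_eq_right h.2, max_eq_right (by omega)]
          · rw [max_eq_left (by omega : q ≤ b), max_eq_left (by omega : q + 1 ≤ b), Nat.sub_self]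
        simp only [hterm]
        have hanti : Antitone fun q => f (p, max b q) := fun x y h => hb ⟨le_rfl, max_le_max le_rfl h⟩
        rw [sum_range_tsub_antitone hanti, max_eq_left (Nat.zero_le b)]
        suffices f (p, max b N) = 0 by omega
        by_contra h
        have := (stair_bound I hI hN s _).1 h
        simp at this
      · refine Finset.sum_eq_zero fun q _ => if_neg ?_
        simp only [Finset.mem_range, Finset.mem_Ico] at hp1 hp2 ⊢
        omega
    · simp only [Function.mem_support, ne_eq] at hp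
      have hne : f p ≠ 0 := fun h => hp (by simp [h])
      obtain ⟨h1, h2⟩ := (stair_bound I hI hN s p).1 hne
      simpa using And.intro h1 h2
  refine (Finset.sum_le_sum (g := fun P : ℕ × ℕ => ∑ p ∈ Finset.Ico P.1 N, f (p, P.2)) fun P _ => ?_).trans (le_of_eq ?_)
  · exact (finrank_column_le I s hI P.1 P.2).trans (le_of_eq (hcol P.1 P.2))
  rw [Finset.sum_product]
  simp only [sliceLen_eq I hI s hs hN]
  rw [← Finset.sum_subset (s₁ := Finset.range N) (fun p hp => by simp [M] at hp ⊢; omega) fun a _ ha => ?_]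
  · refine Finset.sum_congr rfl fun a _ => ?_
    rw [Finset.sum_comm]
    refine Finset.sum_congr rfl fun p _ => ?_
    rw [← Finset.sum_subset (s₁ := Finset.range N) (fun q hq => by simp [M] at hq ⊢; omega) fun b _ hb' => ?_]
    by_contra h
    have := (stair_bound I hI hN s _).1 h
    simp at hb' this
    omega
  · refine Finset.sum_eq_zero fun b _ => ?_
    rw [Finset.Ico_eq_empty (by simp at ha; omega), Finset.sum_empty]

end Col

section Power

/-- the power of the maximal ideal -/
noncomputable abbrev mPow (r : ℕ) : Ideal (MvPolynomial (Fin 3) k) :=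
  (Ideal.span (Set.range (MvPolynomial.X : Fin 3 → MvPolynomial (Fin 3) k))) ^ r

theorem mem_mPow (r : ℕ) (p : MvPolynomial (Fin 3) k) : p ∈ mPow (k := k) r ↔ ∀ β ∈ p.support, r ≤ β.degree :=
  mem_pow_idealOfVars_iff' r p |>.trans ⟨fun h β hβ => not_lt.1 fun hlt => mem_support_iff.1 hβ (h β hlt),
    fun h β hlt => not_not.1 fun hne => absurd (h β (mem_support_iff.2 hne)) (not_le.2 hlt)⟩

theorem exps_mPow (r : ℕ) (β : Fin 3 →₀ ℕ) : β ∈ exps (mPow (k := k) r) ↔ r ≤ β.degree := by
  show monomial β (1 : k) ∈ mPow (k := k) r ↔ _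
  rw [mem_mPow]
  constructor
  · exact fun h => h β (by simp)
  · intro h γ hγ
    rw [Finset.mem_singleton.1 (support_monomial_subset hγ)]
    exact h

theorem degree_three (β : Fin 3 →₀ ℕ) : β.degree = β 0 + β 1 + β 2 := by
  rw [Finsupp.degree_eq_sum, Fin.sum_univ_three]

theorem isStable_mPow (r : ℕ) : IsStronglyStable (mPow (k := k) r) := by
  refine ⟨fun p hp β hβ => (exps_mPow r β).2 ((mem_mPow r p).1 hp β hβ), fun β hβ i j _ hj => ?_⟩
  rw [exps_mPow] at hβ ⊢
  have e : (β - Finsupp.single j 1 + Finsupp.single i 1).degree = β.degree := by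
    have h1 : β - Finsupp.single j 1 + Finsupp.single j 1 = β := tsub_add_cancel_of_le (Finsupp.single_le_iff.2 hj)
    conv_rhs => rw [← h1]
    rw [map_add, map_add, Finsupp.degree_single, Finsupp.degree_single]
  omega

theorem finite_mPow (r : ℕ) : Module.Finite k (MvPolynomial (Fin 3) k ⧸ mPow (k := k) r) := by
  classical
  let S : Finset (Fin 3 →₀ ℕ) := (Finset.range r ×ˢ Finset.range r ×ˢ Finset.range r).image fun x => e3' 1 x.1 x.2.1 x.2.2
  refine ⟨S.image fun β => Ideal.Quotient.mk (mPow (k := k) r) (monomial β 1), eq_top_iff.2 fun x _ => ?_⟩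
  obtain ⟨p, rfl⟩ := Ideal.Quotient.mk_surjective x
  rw [p.as_sum, map_sum]
  refine Submodule.sum_mem _ fun β _ => ?_
  rw [show monomial β (coeff β p) = C (coeff β p) * monomial β 1 by rw [C_mul_monomial, mul_one], map_mul, ← ksmul_quot]
  refine Submodule.smul_mem _ _ ?_
  by_cases hβ : β ∈ exps (mPow (k := k) r)
  · rw [Ideal.Quotient.eq_zero_iff_mem.2 hβ]; exact zero_mem _
  · rw [exps_mPow, degree_three, not_le] at hβ
    refine Submodule.subset_span (Finset.mem_image.2 ⟨β, Finset.mem_image.2 ⟨(β 0, β 1, β 2), ?_, e3'_eta 1 β⟩, rfl⟩)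
    simp only [Finset.mem_product, Finset.mem_range]
    omega

theorem stair_mPow (r : ℕ) (s : Equiv.Perm (Fin 3)) (p q : ℕ) :
    haveI := finite_mPow (k := k) r
    stair (mPow (k := k) r) s (p, q) = r - p - q := by
  haveI := finite_mPow (k := k) r
  have key : ∀ c, stair (mPow (k := k) r) s (p, q) ≤ c ↔ r ≤ p + q + c := by
    intro c
    rw [← mem_exps_iff _ s (isStable_mPow r).1, exps_mPow, Finsupp.degree_eq_sum]
    rw [← s.symm.sum_comp (fun l => e3' s p q c l), Fin.sum_univ_three]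
    obtain ⟨v0, v1, v2⟩ := e3'_val s p q c
    rw [v0, v1, v2]
  have h1 := (key (r - p - q)).2 (by omega)
  have h2 := (key (stair (mPow (k := k) r) s (p, q))).1 le_rfl
  omega

theorem lower_bound (r : ℕ) (s : Equiv.Perm (Fin 3)) :
    ∑ j ∈ Finset.range r, T3 (r - j) ≤ Module.finrank k ↥(sigPiece (mPow (k := k) r) {s.symm 2}) := by
  classical
  haveI := finite_mPow (k := k) r
  have hI := (isStable_mPow (k := k) r).1
  haveI := (finite_degSet (mPow (k := k) r) hI).to_subtype
  haveI := Fintype.ofFinite (degSet (mPow (k := k) r))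
  obtain ⟨M₀, hM₀⟩ := degSet_bound (mPow (k := k) r) hI
  let M := max M₀ r
  rw [sig_eq_columns _ hI s (M := M) fun x hx l => lt_of_lt_of_le (hM₀ x hx l) (le_max_left _ _)]
  let g : ℕ → ℕ → ℕ := fun a b => ∑ p ∈ Finset.range r, (r - (a + b) - p)
  have hg : ∑ j ∈ Finset.range r, T3 (r - j) = ∑ a ∈ Finset.range r, ∑ b ∈ Finset.range r, g a b := by
    refine Finset.sum_congr rfl fun a ha => ?_
    have e : ∀ b, g a b = T2 (r - a - b) := fun b => by
      simp only [g, Nat.sub_add_eq]
      exact sum_range_sub _ _ (by omega)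
    simp only [e]
    rw [← sum_T2 (r - a)]
    refine Finset.sum_subset (fun x hx => by simp at hx ⊢; omega) fun b _ hb => ?_
    simp at hb
    rw [show r - a - b = 0 by omega]; rfl
  rw [hg, ← Finset.sum_product']
  refine le_trans (Finset.sum_le_sum_of_subset fun P hP => ?_) (Finset.sum_le_sum fun P _ => ?_)
  · simp only [Finset.mem_product, Finset.mem_range, M] at hP ⊢; omega
  obtain ⟨a, b⟩ := P
  show g a b ≤ _
  set m := a + b + 1 with hm
  have hle : tPiece (mPow (k := k) r) (pt s a b (-(m : ℤ))) ≤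
      ⨆ α : {α : Fin 3 → ℤ // α (s.symm 0) = (a : ℤ) ∧ α (s.symm 1) = (b : ℤ) ∧ α (s.symm 2) < 0}, tPiece (mPow (k := k) r) α.1 :=
    le_iSup (fun α : {α : Fin 3 → ℤ // α (s.symm 0) = (a : ℤ) ∧ α (s.symm 1) = (b : ℤ) ∧ α (s.symm 2) < 0} => tPiece (mPow (k := k) r) α.1)
      ⟨pt s a b (-(m : ℤ)), by simp [pt], by simp [pt], by simp [pt, hm]; omega⟩
  haveI : Module.Finite k (Tgt (mPow (k := k) r)) := by
    haveI := fun x : degSet (mPow (k := k) r) => finite_posComp (mPow (k := k) r) x.1 hI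
    exact Module.Finite.equiv (LinearEquiv.ofBijective _ (compFun_bijective (mPow (k := k) r) hI)).symm
  refine le_trans ?_ (Submodule.finrank_mono hle)
  rw [finrank_piece₁ _ s a b m hI]
  -- functions on the isolated vertices
  let S : Finset Plane.Pt := (Finset.range r ×ˢ Finset.range r).filter fun P => P.1 + P.2 + m ≤ r
  have hstair : ∀ P : Plane.Pt, stair (mPow (k := k) r) s P = r - P.1 - P.2 := fun P => stair_mPow r s P.1 P.2
  have hS : ∀ f : S → k, Plane.extZ S f ∈ Plane.W (k := k) (stair (mPow (k := k) r) s) (a, b) m := by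
    intro f
    have hmem : ∀ P, P ∈ S ↔ P.1 + P.2 + m ≤ r := fun P => by
      simp only [S, Finset.mem_filter, Finset.mem_product, Finset.mem_range]; omega
    refine ⟨fun P hP => ?_, fun P hP => ?_, fun P hP => ?_⟩
    · have : P ∈ S := by by_contra hn; exact hP (Plane.extZ_not f hn)
      rw [hmem] at this
      rw [hstair, hstair]; simp; omega
    · rw [hstair, hstair] at hP
      simp at hP
      rw [Plane.extZ_not f, Plane.extZ_not f] <;> rw [hmem] <;> simp <;> omega
    · rw [hstair, hstair] at hP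
      simp at hP
      rw [Plane.extZ_not f, Plane.extZ_not f] <;> rw [hmem] <;> simp <;> omega
  let L : (S → k) →ₗ[k] ↥(Plane.W (k := k) (stair (mPow (k := k) r) s) (a, b) m) := LinearMap.codRestrict _ (Plane.extZ S) hS
  have hLinj : Function.Injective L := fun f f' h => Plane.extZ_injective S (congrArg Subtype.val h)
  haveI : Module.Finite k ↥(Plane.W (k := k) (stair (mPow (k := k) r) s) (a, b) m) := by
    let B : Finset Plane.Pt := Finset.range (r + 1) ×ˢ Finset.range (r + 1)
    refine Module.Finite.of_injective ((LinearMap.pi fun P : B => LinearMap.proj P.1).comp (Plane.W _ (a, b) m).subtype) ?_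
    intro f f' h
    apply Subtype.ext
    funext P
    by_cases hP : P ∈ B
    · exact congrFun h ⟨P, hP⟩
    · have z : ∀ f : ↥(Plane.W (k := k) (stair (mPow (k := k) r) s) (a, b) m), f.1 P = 0 := fun f => by
        by_contra hne
        have := (f.2.1 P hne).2
        rw [hstair] at this
        simp [B] at hP
        omega
      rw [z f, z f']
  refine le_trans ?_ (LinearMap.finrank_le_finrank_of_injective hLinj)
  rw [Module.finrank_fintype_fun_eq_card, Fintype.card_coe]
  simp only [g, S, Finset.card_filter]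
  rw [Finset.sum_product]
  refine Finset.sum_le_sum fun p _ => ?_
  rw [← Finset.card_filter]
  refine le_trans ?_ (Finset.card_le_card (s := Finset.range (r - (a + b) - p)) fun q hq => ?_)
  · rw [Finset.card_range]
  · simp at hq ⊢; omega

end Power

section Main
variable (I : Ideal (MvPolynomial (Fin 3) k)) [Module.Finite k (MvPolynomial (Fin 3) k ⧸ I)]

/-- Tail sums of slice lengths. -/
theorem slice_tail (hI : IsStronglyStable I) (r : ℕ)
    (hd : Module.finrank k (MvPolynomial (Fin 3) k ⧸ I) ≤ T3 r) :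
    (∀ j ≤ r, ∑ i ∈ Finset.Ico j r, sliceLen I i ≤ T3 (r - j)) ∧ (∀ i, r ≤ i → sliceLen I i = 0) ∧
      ((∀ j < r, ∑ i ∈ Finset.Ico j r, sliceLen I i = T3 (r - j)) → I = mPow r) := by
  obtain ⟨N, hN⟩ := exists_bound I hI.1
  obtain ⟨h1, h2, h3, hq⟩ := slice_facts I hI hN
  have hsum : ∀ M, ∑ i ∈ Finset.range M, sliceLen I i ≤ T3 r := fun M => (sum_sliceLen I hI.1 hN M).1.trans hd
  refine ⟨fun j hj => seq_tail _ _ h1 h2 h3 r hsum hj, fun i hi => seq_zero _ _ h1 h2 h3 r hsum hi, fun he => ?_⟩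
  have hst : ∀ p q, stair I 1 (p, q) = r - p - q := by
    intro p q
    by_cases hp : p < r
    · obtain ⟨ha, hs⟩ := seq_eq _ _ h1 h2 r he hp
      have hbd := (stair_bound I hI.1 hN 1 (p, 0)).2
      rw [hs] at hbd
      rw [sliceLen_eq I hI.1 1 rfl hN, ← sum_range_sub (r - p) N hbd] at ha
      by_cases hqN : q < N
      · exact (Finset.sum_eq_sum_iff_of_le fun x _ => by have := hq p x; rwa [hs] at this).1 ha q (Finset.mem_range.2 hqN)
      · have h0 : stair I 1 (p, q) = 0 := by
          by_contra h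
          exact hqN ((stair_bound I hI.1 hN 1 (p, q)).1 h).2
        omega
    · have h0 : stair I 1 (p, q) = 0 := by
        by_contra h
        obtain ⟨-, h2'⟩ := (stair_bound I hI.1 hN 1 (p, q)).1 h
        have hz := seq_zero _ _ h1 h2 h3 r hsum (not_lt.1 hp)
        rw [sliceLen_eq I hI.1 1 rfl hN, Finset.sum_eq_zero_iff] at hz
        exact h (hz q (Finset.mem_range.2 h2'))
      omega
  have hexps : ∀ β, β ∈ exps I ↔ β ∈ exps (mPow (k := k) r) := by
    intro β
    rw [exps_mPow, degree_three]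
    conv_lhs => rw [← e3'_eta 1 β]
    rw [mem_exps_iff I 1 hI.1, hst]
    show r - β 0 - β 1 ≤ β 2 ↔ _
    omega
  ext p
  have key : ∀ J : Ideal (MvPolynomial (Fin 3) k), IsMonomial J → (p ∈ J ↔ ∀ β ∈ p.support, β ∈ exps J) := by
    intro J hJ
    refine ⟨fun h β hβ => hJ p h β hβ, fun h => ?_⟩
    rw [p.as_sum]
    refine J.sum_mem fun β hβ => ?_
    rw [show monomial β (coeff β p) = C (coeff β p) * monomial β 1 by rw [C_mul_monomial, mul_one]]
    exact J.mul_mem_left _ (h β hβ)
  rw [key I hI.1, key _ (isStable_mPow r).1]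
  simp only [hexps]

theorem finrank_mPow (r : ℕ) :
    haveI := finite_mPow (k := k) r
    Module.finrank k (MvPolynomial (Fin 3) k ⧸ mPow (k := k) r) = T3 r := by
  haveI := finite_mPow (k := k) r
  have hI := isStable_mPow (k := k) r
  rw [← sum_stair (mPow (k := k) r) 1 hI.1 (Finset.range r ×ˢ Finset.range r) fun P h => by
    rw [stair_mPow r 1 P.1 P.2] at h
    simp only [Finset.mem_product, Finset.mem_range]; omega, Finset.sum_product, ← sum_T2 r]
  refine Finset.sum_congr rfl fun p _ => ?_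
  simp only [stair_mPow]
  exact sum_range_sub _ _ (by omega)

theorem sig_bound (hI : IsStronglyStable I) (r : ℕ) (hd : Module.finrank k (MvPolynomial (Fin 3) k ⧸ I) ≤ T3 r)
    (s : Equiv.Perm (Fin 3)) (hs : s = 1 ∨ s = Equiv.swap 1 2) :
    Module.finrank k ↥(sigPiece I {s.symm 2}) ≤ (r + 3).choose 4 ∧
      (Module.finrank k ↥(sigPiece I {s.symm 2}) = (r + 3).choose 4 → I = mPow r) := by
  obtain ⟨N, hN⟩ := exists_bound I hI.1
  obtain ⟨htail, hzero, heq⟩ := slice_tail I hI r hd
  have hs0 : s.symm 0 = 0 := by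
    rcases hs with rfl | rfl
    · rfl
    · rw [Equiv.symm_swap, Equiv.swap_apply_of_ne_of_ne (by decide) (by decide)]
  have hN' : ∀ β : Fin 3 →₀ ℕ, β ∉ exps I → ∀ l, β l < max N r := fun β h l => lt_of_lt_of_le (hN β h l) (le_max_left _ _)
  have hub := upper_bound I hI.1 s hs0 hN' (stair_x I hI s hs)
  have e : ∀ a, ∑ p ∈ Finset.Ico a (max N r), sliceLen I p = ∑ p ∈ Finset.Ico a r, sliceLen I p := fun a => by
    refine (Finset.sum_subset (fun x hx => by simp at hx ⊢; omega) fun x hx hx' => hzero x ?_).symm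
    simp at hx hx'; omega
  simp only [e] at hub
  rw [← Finset.sum_subset (s₁ := Finset.range r) (fun x hx => by simp at hx ⊢; omega) fun a _ ha => by
    rw [Finset.Ico_eq_empty (by simp at ha; omega), Finset.sum_empty]] at hub
  have hle : ∀ a ∈ Finset.range r, ∑ p ∈ Finset.Ico a r, sliceLen I p ≤ T3 (r - a) := fun a ha =>
    htail a (Finset.mem_range.1 ha).le
  refine ⟨hub.trans ((Finset.sum_le_sum hle).trans (le_of_eq (sum_T3 r))), fun he => heq ?_⟩
  have : ∑ a ∈ Finset.range r, ∑ p ∈ Finset.Ico a r, sliceLen I p = ∑ a ∈ Finset.range r, T3 (r - a) := by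
    refine le_antisymm (Finset.sum_le_sum hle) ?_
    rw [sum_T3 r, ← he]; exact hub
  exact fun j hj => (Finset.sum_eq_sum_iff_of_le hle).1 this j (Finset.mem_range.2 hj)

theorem sig_mPow (r : ℕ) (i : Fin 3) :
    Module.finrank k ↥(sigPiece (mPow (k := k) r) {i}) = (r + 3).choose 4 := by
  haveI := finite_mPow (k := k) r
  have hI := isStable_mPow (k := k) r
  have key : ∀ s : Equiv.Perm (Fin 3), Module.finrank k ↥(sigPiece (mPow (k := k) r) {s.symm 2}) ≤ (r + 3).choose 4 →
      Module.finrank k ↥(sigPiece (mPow (k := k) r) {s.symm 2}) = (r + 3).choose 4 := fun s h =>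
    le_antisymm h (by rw [← sum_T3]; exact lower_bound r s)
  fin_cases i
  · have hx : ∀ p q, stair (mPow (k := k) r) (Equiv.swap 0 2) (p + 1, q) ≤ stair (mPow (k := k) r) (Equiv.swap 0 2) (p, q + 1) :=
      fun p q => by rw [stair_mPow, stair_mPow]; omega
    -- the bound for this sign pattern follows from the symmetric staircase
    have h := key (Equiv.swap 0 2) ?_
    · rwa [Equiv.symm_swap, Equiv.swap_apply_right] at h
    · rw [sig_perm r (Equiv.swap 0 2) 1]
      exact (sig_bound _ hI r (finrank_mPow r).le 1 (Or.inl rfl)).1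
  · have h := key (Equiv.swap 1 2) (sig_bound _ hI r (finrank_mPow r).le _ (Or.inr rfl)).1
    rwa [Equiv.symm_swap, Equiv.swap_apply_right] at h
  · exact key 1 (sig_bound _ hI r (finrank_mPow r).le 1 (Or.inl rfl)).1
where
  sig_perm (r : ℕ) (s t : Equiv.Perm (Fin 3)) : Module.finrank k ↥(sigPiece (mPow (k := k) r) {s.symm 2}) =
      Module.finrank k ↥(sigPiece (mPow (k := k) r) {t.symm 2}) := by
    classical
    haveI := finite_mPow (k := k) r
    have hI := (isStable_mPow (k := k) r).1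
    obtain ⟨M, hM⟩ := degSet_bound (mPow (k := k) r) hI
    haveI := (finite_degSet (mPow (k := k) r) hI).to_subtype
    haveI := Fintype.ofFinite (degSet (mPow (k := k) r))
    have hst : stair (mPow (k := k) r) s = stair (mPow (k := k) r) t := funext fun P => by
      rw [stair_mPow r s P.1 P.2, stair_mPow r t P.1 P.2]
    rw [sig_eq_columns _ hI s hM, sig_eq_columns _ hI t hM]
    refine Finset.sum_congr rfl fun P _ => ?_
    have hcol : ∀ u : Equiv.Perm (Fin 3),
        Module.finrank k ↥(⨆ α : {α : Fin 3 → ℤ // α (u.symm 0) = (P.1 : ℤ) ∧ α (u.symm 1) = (P.2 : ℤ) ∧ α (u.symm 2) < 0}, tPiece (mPow (k := k) r) α.1) =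
        ∑ m ∈ Finset.Icc 1 M, Module.finrank k (Plane.W (k := k) (stair (mPow (k := k) r) u) P m) := by
      intro u
      rw [finrank_iSup_tPiece _ hI]
      refine ((Finset.sum_congr rfl fun x _ => ite_irrel _ _).trans (Finset.sum_filter (fun x : degSet (mPow (k := k) r) => x.1 (u.symm 0) = (P.1 : ℤ) ∧ x.1 (u.symm 1) = (P.2 : ℤ) ∧ x.1 (u.symm 2) < 0) fun x => Module.finrank k ↥(tPiece (mPow (k := k) r) x.1)).symm).trans ?_
      refine Finset.sum_bij_ne_zero (fun x _ _ => (-x.1 (u.symm 2)).toNat) ?_ ?_ ?_ ?_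
      · intro x hx _
        have := (Finset.mem_filter.1 hx).2
        have := hM x.1 x.2 (u.symm 2)
        simp; omega
      · intro x hx _ y hy _ h
        obtain ⟨a0, a1, a2⟩ := (Finset.mem_filter.1 hx).2
        obtain ⟨b0, b1, b2⟩ := (Finset.mem_filter.1 hy).2
        apply Subtype.ext
        rw [pt_eta u x.1, pt_eta u y.1, a0, a1, b0, b1]
        congr 1
        omega
      · intro m hm hne
        rw [← finrank_piece₁ _ u P.1 P.2 m hI] at hne
        have hd : pt u (P.1 : ℤ) P.2 (-(m : ℤ)) ∈ degSet (mPow (k := k) r) := by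
          by_contra hd
          rw [tPiece_eq_bot _ _ hI ⟨fun c => hd ⟨c⟩⟩, finrank_bot] at hne
          exact hne rfl
        refine ⟨⟨_, hd⟩, Finset.mem_filter.2 ⟨Finset.mem_univ _, ?_⟩, hne, ?_⟩
        · simp [pt]
          have := (Finset.mem_Icc.1 hm).1
          omega
        · simp [pt]
      · intro x hx _
        obtain ⟨a0, a1, a2⟩ := (Finset.mem_filter.1 hx).2
        rw [← finrank_piece₁ _ u P.1 P.2 _ hI]
        refine congrArg (fun α => Module.finrank k ↥(tPiece (mPow (k := k) r) α)) ?_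
        conv_lhs => rw [pt_eta u x.1, a0, a1]
        congr 1
        omega
    rw [hcol s, hcol t, hst]

end Main

end HilbTgtLib

namespace HilbTgtLib
open MvPolynomial W4c1hilbpn
variable {k : Type*} [Field k]

theorem finrank_Tgt_signs (I : Ideal (MvPolynomial (Fin 3) k)) [Module.Finite k (MvPolynomial (Fin 3) k ⧸ I)]
    (hI : IsMonomial I) : Module.finrank k (Tgt I) = ∑ i : Fin 3,
      (Module.finrank k ↥(sigPiece I {i}) + Module.finrank k ↥(sigPiece I ({i}ᶜ : Set (Fin 3)))) := by
  classical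
  haveI := (finite_degSet I hI).to_subtype
  haveI := Fintype.ofFinite (degSet I)
  have key : ∀ x : degSet I, (1 : ℕ) = ∑ i : Fin 3,
      ((if (∀ l, x.1 l < 0 ↔ l ∈ ({i} : Set (Fin 3))) then 1 else 0) +
       (if (∀ l, x.1 l < 0 ↔ l ∈ ({i}ᶜ : Set (Fin 3))) then 1 else 0)) := by
    intro x
    obtain ⟨c⟩ := x.2
    have h1 : ¬ ∀ l, 0 ≤ x.1 l := fun h => (isEmpty_posComp_nonneg I x.1 h).elim c
    have h2 : ¬ ∀ l, x.1 l < 0 := fun h => (isEmpty_posComp_neg I x.1 hI h).elim c
    simp only [Fin.forall_fin_succ, Fin.succ_zero_eq_one, Fin.succ_one_eq_two, IsEmpty.forall_iff, and_true] at h1 h2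
    by_cases p0 : x.1 0 < 0 <;> by_cases p1 : x.1 1 < 0 <;> by_cases p2 : x.1 2 < 0 <;>
      simp_all [Fin.sum_univ_three, Fin.forall_fin_succ] <;> (try split_ifs) <;> omega
  simp only [finrank_sigPiece_eq I hI]
  simp only [← Finset.sum_add_distrib]
  rw [Finset.sum_comm, finrank_Tgt I hI]
  refine Finset.sum_congr rfl fun x _ => ?_
  calc Module.finrank k ↥(tPiece I x.1) = Module.finrank k ↥(tPiece I x.1) * 1 := (mul_one _).symm
    _ = _ := by rw [key x, Finset.mul_sum]; simp [mul_add]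

theorem choose_four_split (r : ℕ) : (r + 3).choose 4 = (r + 2).choose 4 + T3 r := by
  rw [T3, Nat.choose_succ_succ' (r + 2) 3]; ring

theorem total_identity (r : ℕ) :
    3 * (r + 3).choose 4 + 3 * (r + 2).choose 4 = (r + 2).choose 2 * (r + 1).choose 2 := by
  have h2 : ∀ n, 2 * T2 n = n * (n + 1) := fun n => by
    induction n with
    | zero => rfl
    | succ n ih => rw [T2_succ]; linarith
  have h3 : ∀ n, 6 * T3 n = n * (n + 1) * (n + 2) := fun n => by
    induction n with
    | zero => rfl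
    | succ n ih => rw [T3_succ]; have := h2 (n + 1); nlinarith
  have h4 : ∀ n, 24 * (n + 3).choose 4 = n * (n + 1) * (n + 2) * (n + 3) := fun n => by
    induction n with
    | zero => rfl
    | succ n ih =>
      have e := choose_four_split (n + 1)
      have := h3 (n + 1)
      rw [show n + 1 + 2 = n + 3 by ring] at e
      nlinarith
  have e := choose_four_split r
  have a := h2 r
  have b := h2 (r + 1)
  have c := h4 r
  have d := h3 r
  simp only [T2] at a b
  rw [show r + 1 + 1 = r + 2 by ring] at b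
  nlinarith

theorem sig_pair (I : Ideal (MvPolynomial (Fin 3) k)) [Module.Finite k (MvPolynomial (Fin 3) k ⧸ I)]
    (hI : IsMonomial I) (r : ℕ) (hd : Module.finrank k (MvPolynomial (Fin 3) k ⧸ I) = T3 r) (i : Fin 3) :
    (Module.finrank k ↥(sigPiece I {i}) ≤ (r + 3).choose 4 ↔
      Module.finrank k ↥(sigPiece I ({i}ᶜ : Set (Fin 3))) ≤ (r + 2).choose 4) ∧
    (Module.finrank k ↥(sigPiece I {i}) = (r + 3).choose 4 ↔
      Module.finrank k ↥(sigPiece I ({i}ᶜ : Set (Fin 3))) = (r + 2).choose 4) := by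
  rw [finrank_sigPiece_single I hI i, hd, choose_four_split r]
  omega

theorem borel_max (I : Ideal (MvPolynomial (Fin 3) k)) [Module.Finite k (MvPolynomial (Fin 3) k ⧸ I)]
    (hI : IsStronglyStable I) (r : ℕ) (hd : Module.finrank k (MvPolynomial (Fin 3) k ⧸ I) = T3 r) (i : Fin 3)
    (hi : i = 2 ∨ i = 1) :
    (Module.finrank k ↥(sigPiece I {i}) ≤ (r + 3).choose 4 ∧
      (Module.finrank k ↥(sigPiece I {i}) = (r + 3).choose 4 ↔ I = mPow r)) ∧
    (Module.finrank k ↥(sigPiece I ({i}ᶜ : Set (Fin 3))) ≤ (r + 2).choose 4 ∧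
      (Module.finrank k ↥(sigPiece I ({i}ᶜ : Set (Fin 3))) = (r + 2).choose 4 ↔ I = mPow r)) := by
  have h1 : Module.finrank k ↥(sigPiece I {i}) ≤ (r + 3).choose 4 ∧
      (Module.finrank k ↥(sigPiece I {i}) = (r + 3).choose 4 ↔ I = mPow r) := by
    refine ⟨?_, ⟨fun h => ?_, fun h => by subst h; exact sig_mPow r i⟩⟩
    · rcases hi with rfl | rfl
      · exact (sig_bound I hI r hd.le 1 (Or.inl rfl)).1
      · have := (sig_bound I hI r hd.le _ (Or.inr rfl)).1
        rwa [Equiv.symm_swap, Equiv.swap_apply_right] at this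
    · rcases hi with rfl | rfl
      · exact (sig_bound I hI r hd.le 1 (Or.inl rfl)).2 h
      · have := (sig_bound I hI r hd.le (Equiv.swap 1 2) (Or.inr rfl)).2
        rw [Equiv.symm_swap, Equiv.swap_apply_right] at this
        exact this h
  obtain ⟨e1, e2⟩ := sig_pair I hI.1 r hd i
  exact ⟨h1, e1.1 h1.1, e2.symm.trans h1.2⟩

theorem sig_mPow_all (r : ℕ) (i : Fin 3) :
    Module.finrank k ↥(sigPiece (mPow (k := k) r) {i}) = (r + 3).choose 4 ∧
      Module.finrank k ↥(sigPiece (mPow (k := k) r) ({i}ᶜ : Set (Fin 3))) = (r + 2).choose 4 ∧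
        Module.finrank k (Tgt (mPow (k := k) r)) = (r + 2).choose 2 * (r + 1).choose 2 := by
  haveI := finite_mPow (k := k) r
  have hI := (isStable_mPow (k := k) r).1
  have hc : ∀ i : Fin 3, Module.finrank k ↥(sigPiece (mPow (k := k) r) ({i}ᶜ : Set (Fin 3))) = (r + 2).choose 4 :=
    fun i => (sig_pair _ hI r (finrank_mPow r) i).2.1 (sig_mPow r i)
  refine ⟨sig_mPow r i, hc i, ?_⟩
  rw [finrank_Tgt_signs _ hI, Finset.sum_congr rfl fun j _ => by rw [sig_mPow r j, hc j], ← total_identity r]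
  simp [Finset.sum_const]
  ring

end HilbTgtLib
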