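import Groth.Agent.HilbTgtLib.Initial
import Mathlib.RingTheory.MvPolynomial.MonomialOrder.DegLex
import Mathlib.Algebra.MvPolynomial.Funext
import Mathlib.RingTheory.MvPolynomial.Homogeneous

/-! A change of coordinates putting a power of `x` into the initial ideal, and the resulting bound. -/

set_option linter.unusedSectionVars false
set_option linter.style.haveILetI false

namespace HilbTgtLib.Generic

open MvPolynomial W4c1hilbpn

variable {k : Type*} [Field k]

/-- an ideal of small colength contains a nonzero element of small degree -/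
theorem exists_small (I : Ideal (MvPolynomial (Fin 3) k)) [Module.Finite k (MvPolynomial (Fin 3) k ⧸ I)] (r : ℕ)
    (h : Module.finrank k (MvPolynomial (Fin 3) k ⧸ I) < T3 (r + 1)) : ∃ f ∈ I, f ≠ 0 ∧ f.totalDegree ≤ r := by
  classical
  haveI := finite_mPow (k := k) (r + 1)
  have hI := (isStable_mPow (k := k) (r + 1)).1
  have hfin := finite_std (mPow (k := k) (r + 1)) hI
  haveI := hfin.fintype
  let S : Set (Fin 3 →₀ ℕ) := (exps (mPow (k := k) (r + 1)))ᶜ
  let U : Submodule k (MvPolynomial (Fin 3) k) := restrictSupport k S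
  let m : ↥U →ₗ[k] MvPolynomial (Fin 3) k ⧸ I := ((Ideal.Quotient.mkₐ k I).toLinearMap).comp U.subtype
  haveI : Module.Finite k ↥U := Module.Finite.of_basis (basisRestrictSupport k S)
  have hU : Module.finrank k ↥U = T3 (r + 1) := by
    rw [Module.finrank_eq_card_basis (basisRestrictSupport k S), ← finrank_mPow (k := k) (r + 1),
      finrank_quot _ hI]
  have hker : LinearMap.ker m ≠ ⊥ := fun hb => by
    have := LinearMap.finrank_le_finrank_of_injective (LinearMap.ker_eq_bot.1 hb)
    omega
  obtain ⟨p, hp, hp0⟩ := Submodule.exists_mem_ne_zero_of_ne_bot hker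
  refine ⟨p.1, Ideal.Quotient.eq_zero_iff_mem.1 hp, fun h0 => hp0 (Subtype.ext h0), ?_⟩
  refine Finset.sup_le fun β hβ => ?_
  have hb := (mem_restrictSupport_iff k).1 p.2 hβ
  simp only [S, Set.mem_compl_iff, exps_mPow, not_le] at hb
  simp [Finsupp.degree, Finsupp.sum] at hb ⊢
  omega

/-- `x ↦ v₀ x`, `x_j ↦ x_j + v_j x` -/
noncomputable def shearHom (v : Fin 3 → k) : MvPolynomial (Fin 3) k →ₐ[k] MvPolynomial (Fin 3) k :=
  MvPolynomial.aeval ![C (v 0) * X 0, X 1 + C (v 1) * X 0, X 2 + C (v 2) * X 0]

noncomputable def shearInv (v : Fin 3 → k) : MvPolynomial (Fin 3) k →ₐ[k] MvPolynomial (Fin 3) k :=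
  MvPolynomial.aeval ![C (v 0)⁻¹ * X 0, X 1 - C (v 1 * (v 0)⁻¹) * X 0, X 2 - C (v 2 * (v 0)⁻¹) * X 0]

noncomputable def shear (v : Fin 3 → k) (hv : v 0 ≠ 0) : MvPolynomial (Fin 3) k ≃ₐ[k] MvPolynomial (Fin 3) k :=
  AlgEquiv.ofAlgHom (shearHom v) (shearInv v)
    (MvPolynomial.algHom_ext fun i => by
      have h1 : (C (v 0) : MvPolynomial (Fin 3) k) * C (v 0)⁻¹ = 1 := by rw [← C_mul, mul_inv_cancel₀ hv, C_1]
      have h2 : ∀ a : k, (C (a * (v 0)⁻¹) : MvPolynomial (Fin 3) k) = C a * C (v 0)⁻¹ := fun a => C_mul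
      fin_cases i <;> simp [shearHom, shearInv, h2] <;> grobner)
    (MvPolynomial.algHom_ext fun i => by
      have h1 : (C (v 0) : MvPolynomial (Fin 3) k) * C (v 0)⁻¹ = 1 := by rw [← C_mul, mul_inv_cancel₀ hv, C_1]
      have h2 : ∀ a : k, (C (a * (v 0)⁻¹) : MvPolynomial (Fin 3) k) = C a * C (v 0)⁻¹ := fun a => C_mul
      fin_cases i <;> simp [shearHom, shearInv, h2] <;> grobner)

theorem shear_isHomogeneous (v : Fin 3 → k) {p : MvPolynomial (Fin 3) k} {i : ℕ} (hp : p.IsHomogeneous i) :
    (shearHom v p).IsHomogeneous i := by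
  have h : ∀ j, (![C (v 0) * X 0, X 1 + C (v 1) * X 0, X 2 + C (v 2) * X 0] j :
      MvPolynomial (Fin 3) k).IsHomogeneous 1 := by
    intro j
    fin_cases j
    · exact isHomogeneous_C_mul_X _ _
    · exact (isHomogeneous_X k 1).add (isHomogeneous_C_mul_X _ _)
    · exact (isHomogeneous_X k 2).add (isHomogeneous_C_mul_X _ _)
  have := hp.aeval _ h
  rwa [one_mul] at this

/-- the coefficient of `x^i` in a sheared form is the value at the point -/
theorem coeff_shear (v : Fin 3 → k) {p : MvPolynomial (Fin 3) k} {i : ℕ} (hp : p.IsHomogeneous i) :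
    coeff (Finsupp.single 0 i) (shearHom v p) = eval v p := by
  have h1 : eval (![1, 0, 0] : Fin 3 → k) (shearHom v p) = eval v p := by
    have : ((MvPolynomial.aeval (![1, 0, 0] : Fin 3 → k))).comp (shearHom v) = MvPolynomial.aeval v :=
      MvPolynomial.algHom_ext fun j => by fin_cases j <;> simp [shearHom]
    exact AlgHom.congr_fun this p
  rw [← h1, eval_eq', Finset.sum_eq_single (Finsupp.single (0 : Fin 3) i)]
  · simp [Fin.prod_univ_three]
  · intro β hβ hne
    have hd : β 0 + β 1 + β 2 = i := by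
      have := shear_isHomogeneous v hp (mem_support_iff.1 hβ)
      rw [← this, Finsupp.weight_apply, Finsupp.sum_fintype _ _ (by simp), Fin.sum_univ_three]
      simp
    have : β 1 ≠ 0 ∨ β 2 ≠ 0 := by
      by_contra hc
      push Not at hc
      exact hne (Finsupp.ext fun j => by fin_cases j <;> simp <;> omega)
    rcases this with h | h <;> simp [Fin.prod_univ_three, h]
  · intro h
    simp [notMem_support_iff.1 h]

theorem degree_of_top {p : MvPolynomial (Fin 3) k} {e : ℕ} (hle : ∀ β ∈ p.support, β.degree ≤ e)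
    (hc : coeff (Finsupp.single 0 e) p ≠ 0) :
    (MonomialOrder.degLex (σ := Fin 3)).degree p = Finsupp.single 0 e := by
  refine MonomialOrder.degLex.toSyn.injective (le_antisymm (MonomialOrder.degree_le_iff.2 fun β hβ => ?_)
    ((MonomialOrder.degLex (σ := Fin 3)).le_degree (mem_support_iff.2 hc)))
  rw [MonomialOrder.degLex_le_iff, Finsupp.DegLex.le_iff]
  simp only [ofDegLex_toDegLex, Finsupp.degree_single]
  rcases (hle β hβ).lt_or_eq with h | h
  · exact Or.inl h
  refine Or.inr ⟨h, ?_⟩
  rcases eq_or_ne β (Finsupp.single 0 e) with rfl | hne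
  · exact le_rfl
  refine le_of_lt (Finsupp.Lex.lt_iff.2 ⟨0, fun j hj => absurd hj (Fin.not_lt_zero j), ?_⟩)
  rw [degree_three] at h
  simp only [ofLex_toLex, Finsupp.single_eq_same]
  by_contra hge
  simp only [not_lt] at hge
  exact hne (Finsupp.ext fun j => by fin_cases j <;> simp <;> omega)

variable [Infinite k]

theorem exists_shear (f : MvPolynomial (Fin 3) k) (hf : f ≠ 0) :
    ∃ (v : Fin 3 → k) (hv : v 0 ≠ 0),
      (MonomialOrder.degLex (σ := Fin 3)).degree (shear v hv f) = Finsupp.single 0 f.totalDegree := by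
  classical
  set e := f.totalDegree with he
  have htop : homogeneousComponent e f ≠ 0 := by
    obtain ⟨β, hβ, hmax⟩ := Finset.exists_mem_eq_sup f.support (support_nonempty.2 hf) fun s => s.sum fun _ n => n
    intro h0
    apply mem_support_iff.1 hβ
    have := congrArg (coeff β) h0
    rw [coeff_homogeneousComponent, coeff_zero, if_pos] at this
    · exact this
    · rw [he, show f.totalDegree = _ from hmax]
      rfl
  obtain ⟨v, hv⟩ : ∃ v : Fin 3 → k, eval v (homogeneousComponent e f * X 0) ≠ 0 := by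
    by_contra hc
    push Not at hc
    exact mul_ne_zero htop (X_ne_zero 0) (MvPolynomial.funext fun v => by rw [hc v, map_zero])
  simp only [map_mul, eval_X, mul_ne_zero_iff] at hv
  refine ⟨v, hv.2, degree_of_top (fun β hβ => ?_) ?_⟩
  all_goals
    have hsum : shear v hv.2 f = ∑ i ∈ Finset.range (e + 1), shearHom v (homogeneousComponent i f) := by
      show shearHom v f = _
      rw [← map_sum, he, sum_homogeneousComponent]
  · rw [hsum] at hβ
    obtain ⟨i, hi, hβi⟩ := Finset.mem_biUnion.1 (support_sum hβ)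
    have := shear_isHomogeneous v (homogeneousComponent_isHomogeneous i f) (mem_support_iff.1 hβi)
    rw [Finsupp.weight_apply, Finsupp.sum_fintype _ _ (by simp), Fin.sum_univ_three] at this
    simp at this
    rw [degree_three]
    rw [Finset.mem_range] at hi
    omega
  · rw [hsum, coeff_sum, Finset.sum_eq_single e, coeff_shear v (homogeneousComponent_isHomogeneous e f)]
    · exact hv.1
    · intro i hi hne
      by_contra h
      have := shear_isHomogeneous v (homogeneousComponent_isHomogeneous i f) h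
      rw [Finsupp.weight_apply, Finsupp.sum_fintype _ _ (by simp), Fin.sum_univ_three] at this
      simp at this
      omega
    · intro h
      simp at h

/-- transport of the tangent space along an automorphism -/
theorem finrank_Tgt_map_le (I : Ideal (MvPolynomial (Fin 3) k)) (g : MvPolynomial (Fin 3) k ≃ₐ[k] MvPolynomial (Fin 3) k)
    (J : Ideal (MvPolynomial (Fin 3) k)) (hJ : J = I.map g.toRingEquiv.toRingHom)
    [Module.Finite k (MvPolynomial (Fin 3) k ⧸ J)] :
    Module.finrank k (Tgt I) ≤ Module.finrank k (Tgt J) := by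
  haveI := Initial.finite_Tgt J
  let q : (MvPolynomial (Fin 3) k ⧸ I) ≃ₐ[k] (MvPolynomial (Fin 3) k ⧸ J) := Ideal.quotientEquivAlg I J g hJ
  have hq : ∀ p, q (Ideal.Quotient.mk I p) = Ideal.Quotient.mk J (g p) := fun p => rfl
  have hqs : ∀ (a : MvPolynomial (Fin 3) k) x, q (a • x) = g a • q x := fun a x => by
    rw [smul_quot, map_mul, hq, ← smul_quot]
  have hback : ∀ x : ↥J, g.symm x.1 ∈ I := fun x => by
    have hx := x.2
    obtain ⟨y, hy, hxy⟩ := (Ideal.mem_map_iff_of_surjective _ g.surjective).1 (hJ.le hx)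
    rw [← hxy]
    show g.symm (g y) ∈ I
    rw [AlgEquiv.symm_apply_apply]
    exact hy
  let T : Tgt I →ₗ[k] Tgt J :=
    { toFun := fun φ =>
        { toFun := fun x => q (φ ⟨g.symm x.1, hback x⟩)
          map_add' := fun x y => by
            rw [← map_add, ← map_add φ]
            congr 2
            exact Subtype.ext (map_add g.symm x.1 y.1)
          map_smul' := fun a x => by
            rw [RingHom.id_apply]
            conv_rhs => rw [show a = g (g.symm a) from (g.apply_symm_apply a).symm, ← hqs, ← map_smul]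
            congr 2
            exact Subtype.ext (map_mul g.symm a x.1) }
      map_add' := fun φ ψ => LinearMap.ext fun x => map_add q _ _
      map_smul' := fun c φ => LinearMap.ext fun x => map_smul q c _ }
  refine LinearMap.finrank_le_finrank_of_injective (f := T) ?_
  intro φ ψ h
  refine LinearMap.ext fun y => q.injective ?_
  have hy : g y.1 ∈ J := by rw [hJ]; exact Ideal.mem_map_of_mem _ y.2
  have := LinearMap.congr_fun h ⟨g y.1, hy⟩
  simpa [T] using this

/-- the main bound: `2·dim T(I) ≤ (4r+2)·colength` -/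
theorem finrank_Tgt_le (I : Ideal (MvPolynomial (Fin 3) k)) [Module.Finite k (MvPolynomial (Fin 3) k ⧸ I)] (r : ℕ)
    (h : Module.finrank k (MvPolynomial (Fin 3) k ⧸ I) < T3 (r + 1)) :
    Module.finrank k (Tgt I) ≤ (2 * r + 1) * Module.finrank k (MvPolynomial (Fin 3) k ⧸ I) := by
  obtain ⟨f, hf, hf0, hdeg⟩ := exists_small I r h
  obtain ⟨v, hv, hlead⟩ := exists_shear f hf0
  set g := shear v hv
  set J := I.map g.toRingEquiv.toRingHom with hJ
  let q : (MvPolynomial (Fin 3) k ⧸ I) ≃ₐ[k] (MvPolynomial (Fin 3) k ⧸ J) := Ideal.quotientEquivAlg I J g rfl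
  haveI : Module.Finite k (MvPolynomial (Fin 3) k ⧸ J) := Module.Finite.equiv q.toLinearEquiv
  have hx : e3 r 0 0 ∈ exps (Initial.inI MonomialOrder.degLex J) := by
    have := Initial.degree_mem_exps MonomialOrder.degLex J (f := g f) (Ideal.mem_map_of_mem _ hf)
      fun h0 => hf0 (by simpa using h0)
    refine exps_mono _ this ?_
    rw [hlead]
    intro j
    fin_cases j <;> simp [e3, hdeg]
  haveI := Initial.finite_inI MonomialOrder.degLex J
  calc Module.finrank k (Tgt I) ≤ Module.finrank k (Tgt J) := finrank_Tgt_map_le I g J rfl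
    _ ≤ Module.finrank k (Tgt (Initial.inI MonomialOrder.degLex J)) := Initial.finrank_Tgt_le MonomialOrder.degLex J
    _ ≤ (2 * r + 1) * Module.finrank k (MvPolynomial (Fin 3) k ⧸ Initial.inI MonomialOrder.degLex J) :=
      Layer.finrank_Tgt_le _ (Initial.isMonomial _ _) r hx
    _ = _ := by rw [Initial.finrank_inI, ← q.toLinearEquiv.finrank_eq]

end HilbTgtLib.Generic
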