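import Groth.Agent.HilbTgtLib.LayerBound
import Groth.Agent.Hom0Lib.Basic
import Mathlib.RingTheory.MvPolynomial.Groebner

/-! Semicontinuity `dim Hom(I, S/I) ≤ dim Hom(in I, S/in I)` for a monomial order. -/

set_option linter.unusedSectionVars false
set_option linter.style.haveILetI false

namespace HilbTgtLib.Initial

open MvPolynomial W4c1hilbpn

variable {σ : Type*} [Fintype σ] {k : Type*} [Field k] (mo : MonomialOrder σ) (I : Ideal (MvPolynomial σ k))

/-- nonzero members of the ideal -/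
abbrev Mem := {f : MvPolynomial σ k // f ∈ I ∧ f ≠ 0}

/-- the initial ideal -/
noncomputable def inI : Ideal (MvPolynomial σ k) :=
  Ideal.span (Set.range fun f : Mem I => monomial (mo.degree f.1) (1 : k))

theorem inI_eq : inI mo I = Ideal.span (Set.range fun f : Mem I => monomial (mo.degree f.1) (1 : k)) := rfl

theorem isMonomial : IsMonomial (inI mo I) := Hom0Lib.isMonomial _ _ (inI_eq mo I)

theorem exists_monic {β : σ →₀ ℕ} (hβ : β ∈ exps (inI mo I)) :
    ∃ f ∈ I, f ≠ 0 ∧ mo.degree f = β ∧ coeff β f = 1 := by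
  classical
  obtain ⟨⟨g, hg, hg0⟩, hle⟩ := (Hom0Lib.exps_iff _ _ (inI_eq mo I) β).1 hβ
  set c := coeff (mo.degree g) g with hc
  have hc0 : c ≠ 0 := MonomialOrder.coeff_degree_ne_zero_iff.2 hg0
  have hm0 : monomial (β - mo.degree g) c⁻¹ ≠ 0 := by simp [monomial_eq_zero, hc0]
  refine ⟨monomial (β - mo.degree g) c⁻¹ * g, I.mul_mem_left _ hg, mul_ne_zero hm0 hg0, ?_, ?_⟩
  · rw [mo.degree_mul hm0 hg0, mo.degree_monomial, if_neg (inv_ne_zero hc0), tsub_add_cancel_of_le hle]
  · rw [coeff_monomial_mul', if_pos tsub_le_self, tsub_tsub_cancel_of_le hle, ← hc, inv_mul_cancel₀ hc0]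

/-- standard monomials -/
abbrev Std : Set (σ →₀ ℕ) := (exps (inI mo I))ᶜ

theorem degree_mem_exps {f : MvPolynomial σ k} (hf : f ∈ I) (hf0 : f ≠ 0) : mo.degree f ∈ exps (inI mo I) :=
  (Hom0Lib.exps_iff _ _ (inI_eq mo I) _).2 ⟨⟨f, hf, hf0⟩, le_rfl⟩

theorem eq_zero_of_std {p : MvPolynomial σ k} (hp : p ∈ I) (h : ∀ v ∈ p.support, v ∈ Std mo I) : p = 0 := by
  by_contra h0
  exact h _ (mo.degree_mem_support h0) (degree_mem_exps mo I hp h0)

/-- every monomial reduces to standard monomials that are not larger -/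
theorem reduce_monomial : ∀ (s : mo.syn) (e : σ →₀ ℕ), mo.toSyn e = s →
    ∃ q : MvPolynomial σ k, (∀ v ∈ q.support, v ∈ Std mo I ∧ mo.toSyn v ≤ s) ∧ monomial e 1 - q ∈ I := by
  classical
  intro s
  induction s using WellFoundedLT.induction with
  | ind s ih =>
    intro e he
    by_cases hs : e ∈ Std mo I
    · refine ⟨monomial e 1, fun v hv => ?_, by simp⟩
      obtain rfl := Finset.mem_singleton.1 (support_monomial_subset hv)
      exact ⟨hs, he.le⟩
    obtain ⟨f, hf, hf0, hdeg, hc⟩ := exists_monic mo I (not_not.1 hs)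
    have key : ∀ v, v ∈ (monomial e 1 - f).support → ∃ q : MvPolynomial σ k,
        (∀ u ∈ q.support, u ∈ Std mo I ∧ mo.toSyn u ≤ s) ∧ monomial v (coeff v (monomial e 1 - f)) - q ∈ I := by
      intro v hv
      have hve : v ≠ e := fun h => by subst h; simp [coeff_monomial, hc] at hv
      have hvf : v ∈ f.support := by
        rw [mem_support_iff, coeff_sub, coeff_monomial, if_neg hve.symm, zero_sub, neg_ne_zero] at hv
        exact mem_support_iff.2 hv
      have hlt : mo.toSyn v < s := by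
        refine lt_of_le_of_ne ?_ ?_
        · rw [← he, ← hdeg]; exact mo.le_degree hvf
        · rw [← he]; exact fun h => hve (mo.toSyn.injective h)
      obtain ⟨q, hq1, hq2⟩ := ih _ hlt v rfl
      refine ⟨C (coeff v (monomial e 1 - f)) * q, fun u hu => ?_, ?_⟩
      · have := hq1 u (by rw [← MvPolynomial.smul_eq_C_mul] at hu; exact support_smul hu)
        exact ⟨this.1, this.2.trans hlt.le⟩
      · rw [show monomial v (coeff v (monomial e 1 - f)) = C (coeff v (monomial e 1 - f)) * monomial v 1 by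
          rw [C_mul_monomial, mul_one], ← mul_sub]
        exact I.mul_mem_left _ hq2
    choose q hq1 hq2 using key
    refine ⟨∑ v ∈ (monomial e 1 - f).support.attach, q v.1 v.2, fun u hu => ?_, ?_⟩
    · obtain ⟨v, -, hv⟩ := Finset.mem_biUnion.1 (support_sum hu)
      exact hq1 v.1 v.2 u hv
    · have e1 : monomial e 1 - f = ∑ v ∈ (monomial e 1 - f).support.attach,
          monomial v.1 (coeff v.1 (monomial e 1 - f)) := by
        rw [Finset.sum_attach _ fun v => monomial v (coeff v (monomial e 1 - f))]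
        exact (monomial e 1 - f).as_sum
      have : monomial e 1 - f - ∑ v ∈ (monomial e 1 - f).support.attach, q v.1 v.2 ∈ I := by
        nth_rw 1 [e1]
        rw [← Finset.sum_sub_distrib]
        exact I.sum_mem fun v _ => hq2 v.1 v.2
      have := I.add_mem this hf
      rwa [sub_add_eq_add_sub, sub_add_cancel] at this

/-- the standard part of the polynomial ring -/
noncomputable abbrev U : Submodule k (MvPolynomial σ k) := restrictSupport k (Std mo I)

noncomputable def mkU : ↥(U mo I) →ₗ[k] MvPolynomial σ k ⧸ I :=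
  ((Ideal.Quotient.mkₐ k I).toLinearMap).comp (U mo I).subtype

theorem mkU_apply (p : ↥(U mo I)) : mkU mo I p = Ideal.Quotient.mk I p.1 := rfl

theorem mkU_bijective : Function.Bijective (mkU mo I) := by
  classical
  constructor
  · rw [injective_iff_map_eq_zero]
    intro p hp
    rw [mkU_apply, Ideal.Quotient.eq_zero_iff_mem] at hp
    exact Subtype.ext (eq_zero_of_std mo I hp fun v hv => (mem_restrictSupport_iff k).1 p.2 hv)
  · rw [← LinearMap.range_eq_top, eq_top_iff]
    intro x _
    obtain ⟨p, rfl⟩ := Ideal.Quotient.mk_surjective x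
    rw [p.as_sum, map_sum]
    refine Submodule.sum_mem _ fun e _ => ?_
    rw [show monomial e (coeff e p) = C (coeff e p) * monomial e 1 by rw [C_mul_monomial, mul_one], map_mul, ← ksmul_quot]
    refine Submodule.smul_mem _ _ ?_
    obtain ⟨q, h1, h2⟩ := reduce_monomial mo I _ e rfl
    exact ⟨⟨q, (mem_restrictSupport_iff k).2 fun v hv => (h1 v hv).1⟩, (Ideal.Quotient.eq.2 h2).symm⟩

noncomputable def nfEquiv : ↥(U mo I) ≃ₗ[k] MvPolynomial σ k ⧸ I := LinearEquiv.ofBijective _ (mkU_bijective mo I)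

/-- the normal form -/
noncomputable def nf : (MvPolynomial σ k ⧸ I) →ₗ[k] MvPolynomial σ k :=
  (U mo I).subtype.comp (nfEquiv mo I).symm.toLinearMap

theorem mk_nf (x : MvPolynomial σ k ⧸ I) : Ideal.Quotient.mk I (nf mo I x) = x :=
  (nfEquiv mo I).apply_symm_apply x

theorem nf_std (x : MvPolynomial σ k ⧸ I) {v : σ →₀ ℕ} (hv : v ∈ (nf mo I x).support) : v ∈ Std mo I :=
  (mem_restrictSupport_iff k).1 ((nfEquiv mo I).symm x).2 hv

theorem nf_unique {x : MvPolynomial σ k ⧸ I} {q : MvPolynomial σ k} (h : ∀ v ∈ q.support, v ∈ Std mo I)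
    (hq : Ideal.Quotient.mk I q = x) : nf mo I x = q := by
  have : (nfEquiv mo I).symm x = ⟨q, (mem_restrictSupport_iff k).2 h⟩ := by
    rw [LinearEquiv.symm_apply_eq]
    exact hq.symm
  exact congrArg Subtype.val this

theorem nf_low (p : MvPolynomial σ k) {s : mo.syn} (h : ∀ v ∈ p.support, mo.toSyn v ≤ s) :
    ∀ v ∈ (nf mo I (Ideal.Quotient.mk I p)).support, mo.toSyn v ≤ s := by
  classical
  choose q hq1 hq2 using fun e : σ →₀ ℕ => reduce_monomial mo I (mo.toSyn e) e rfl
  have : nf mo I (Ideal.Quotient.mk I p) = ∑ e ∈ p.support, coeff e p • q e := by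
    refine nf_unique mo I (fun v hv => ?_) ?_
    · obtain ⟨e, -, he⟩ := Finset.mem_biUnion.1 (support_sum hv)
      exact (hq1 e v (support_smul he)).1
    · rw [map_sum]
      conv_rhs => rw [p.as_sum, map_sum]
      refine Finset.sum_congr rfl fun e _ => ?_
      rw [MvPolynomial.smul_eq_C_mul, show monomial e (coeff e p) = C (coeff e p) * monomial e 1 by
        rw [C_mul_monomial, mul_one], map_mul, map_mul]
      exact congrArg _ (Ideal.Quotient.eq.2 (hq2 e)).symm
  intro v hv
  rw [this] at hv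
  obtain ⟨e, he, hv⟩ := Finset.mem_biUnion.1 (support_sum hv)
  exact (hq1 e v (support_smul hv)).2.trans (h e he)

theorem coeff_nf_top (p : MvPolynomial σ k) {w : σ →₀ ℕ} (hw : w ∈ Std mo I)
    (h : ∀ v ∈ p.support, mo.toSyn v ≤ mo.toSyn w) : coeff w (nf mo I (Ideal.Quotient.mk I p)) = coeff w p := by
  classical
  by_contra hne
  set g := nf mo I (Ideal.Quotient.mk I p) - p with hg
  have hgI : g ∈ I := Ideal.Quotient.eq.1 (mk_nf mo I _)
  have hwg : w ∈ g.support := by
    rw [mem_support_iff, hg, coeff_sub, sub_ne_zero]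
    exact hne
  have hg0 : g ≠ 0 := fun h0 => by rw [h0] at hwg; simp at hwg
  have hdeg : mo.degree g = w := by
    refine mo.toSyn.injective (le_antisymm (MonomialOrder.degree_le_iff.2 fun v hv => ?_) (mo.le_degree hwg))
    rcases Finset.mem_union.1 (support_sub σ _ _ hv) with h1 | h1
    · exact nf_low mo I p h v h1
    · exact h v h1
  exact hw (hdeg ▸ degree_mem_exps mo I hgI hg0)

variable [Module.Finite k (MvPolynomial σ k ⧸ I)]

theorem finite_Std : (Std mo I).Finite := by
  haveI : Module.Finite k ↥(U mo I) := Module.Finite.equiv (nfEquiv mo I).symm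
  exact Set.finite_coe_iff.1 (Module.Finite.finite_basis (basisRestrictSupport k (Std mo I)))

theorem finite_inI : Module.Finite k (MvPolynomial σ k ⧸ inI mo I) := by
  classical
  refine ⟨(finite_Std mo I).toFinset.image fun β => Ideal.Quotient.mk (inI mo I) (monomial β 1), eq_top_iff.2 fun x _ => ?_⟩
  obtain ⟨p, rfl⟩ := Ideal.Quotient.mk_surjective x
  rw [p.as_sum, map_sum]
  refine Submodule.sum_mem _ fun β _ => ?_
  rw [show monomial β (coeff β p) = C (coeff β p) * monomial β 1 by rw [C_mul_monomial, mul_one], map_mul, ← ksmul_quot]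
  refine Submodule.smul_mem _ _ ?_
  by_cases hβ : β ∈ exps (inI mo I)
  · rw [Ideal.Quotient.eq_zero_iff_mem.2 hβ]; exact zero_mem _
  · exact Submodule.subset_span (Finset.mem_image.2 ⟨β, (finite_Std mo I).mem_toFinset.2 hβ, rfl⟩)

theorem finrank_inI :
    Module.finrank k (MvPolynomial σ k ⧸ inI mo I) = Module.finrank k (MvPolynomial σ k ⧸ I) := by
  haveI := finite_inI mo I
  haveI := (finite_Std mo I).fintype
  rw [finrank_quot _ (isMonomial mo I), ← (nfEquiv mo I).finrank_eq,
    Module.finrank_eq_card_basis (basisRestrictSupport k (Std mo I))]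

theorem finite_Tgt (J : Ideal (MvPolynomial σ k)) [Module.Finite k (MvPolynomial σ k ⧸ J)] :
    Module.Finite k (Tgt J) := by
  classical
  obtain ⟨s, hs⟩ := Ideal.fg_of_isNoetherianRing J
  have hmem : ∀ g : s, (g : MvPolynomial σ k) ∈ J := fun g => hs ▸ Submodule.subset_span g.2
  let ev : Tgt J →ₗ[k] (s → MvPolynomial σ k ⧸ J) :=
    { toFun := fun φ g => φ ⟨g, hmem g⟩
      map_add' := fun _ _ => rfl
      map_smul' := fun _ _ => funext fun _ => LinearMap.smul_apply _ _ _ }
  refine Module.Finite.of_injective ev ?_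
  rw [injective_iff_map_eq_zero]
  intro φ hφ
  have hspan : Submodule.span (MvPolynomial σ k) (Set.range fun g : s => (⟨g, hmem g⟩ : ↥J)) = ⊤ := by
    apply Submodule.map_injective_of_injective J.injective_subtype
    rw [Submodule.map_span, Submodule.map_top, Submodule.range_subtype, ← Set.range_comp]
    refine (congrArg (Submodule.span _) ?_).trans hs
    ext x
    simp
  exact LinearMap.ext_on_range hspan fun g => congrFun hφ g

/-- shifts of `φ` are at most `α` -/
def Below (φ : Tgt I) (α : σ → ℤ) : Prop :=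
  ∀ f (hf : f ∈ I), f ≠ 0 → ∀ v, coeff v (nf mo I (φ ⟨f, hf⟩)) ≠ 0 →
    mo.toSyn (v + HilbTgtLib.ofZ (-α)) ≤ mo.toSyn (HilbTgtLib.ofZ α + mo.degree f)

theorem below_iff_int {α : σ → ℤ} {v w β : σ →₀ ℕ} (h : ∀ i, (w i : ℤ) = β i + α i) :
    (mo.toSyn (v + HilbTgtLib.ofZ (-α)) ≤ mo.toSyn (HilbTgtLib.ofZ α + β) ↔ mo.toSyn v ≤ mo.toSyn w) := by
  have e : HilbTgtLib.ofZ α + β = w + HilbTgtLib.ofZ (-α) := Finsupp.ext fun i => by
    have := h i
    simp only [Finsupp.add_apply, HilbTgtLib.ofZ_apply, Pi.neg_apply]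
    omega
  rw [e, map_add, map_add, add_le_add_iff_right]

variable {mo I}

/-- the value of the leading part at a monomial -/
noncomputable def leadVal (φ : Tgt I) (α : σ → ℤ) (β : σ →₀ ℕ) : MvPolynomial σ k ⧸ inI mo I :=
  open Classical in
  if h : β ∈ exps (inI mo I) ∧ ∀ i, 0 ≤ (β i : ℤ) + α i then
    coeff (shift β α) (nf mo I (φ ⟨(exists_monic mo I h.1).choose, (exists_monic mo I h.1).choose_spec.1⟩)) •
      Ideal.Quotient.mk (inI mo I) (monomial (shift β α) 1)
  else 0

theorem shift_int {α : σ → ℤ} {β : σ →₀ ℕ} (h : ∀ i, 0 ≤ (β i : ℤ) + α i) (i : σ) :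
    ((shift β α) i : ℤ) = β i + α i := by
  simp only [shift, Finsupp.coe_equivFunOnFinite_symm]
  exact Int.toNat_of_nonneg (h i)

/-- any element with leading monomial `x^β` computes the leading value -/
theorem coeff_lead {φ : Tgt I} {α : σ → ℤ} (hb : Below mo I φ α) {f g : MvPolynomial σ k} (hf : f ∈ I) (hg : g ∈ I)
    (hf0 : f ≠ 0) (hdeg : mo.degree f = mo.degree g) (hg1 : coeff (mo.degree g) g = 1) {w : σ →₀ ℕ}
    (hw : ∀ i, (w i : ℤ) = mo.degree f i + α i) :
    coeff w (nf mo I (φ ⟨f, hf⟩)) = coeff (mo.degree f) f * coeff w (nf mo I (φ ⟨g, hg⟩)) := by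
  classical
  set c := coeff (mo.degree f) f with hc
  have hd : f - C c * g ∈ I := I.sub_mem hf (I.mul_mem_left _ hg)
  have e : (⟨f, hf⟩ : ↥I) = ⟨f - C c * g, hd⟩ + c • ⟨g, hg⟩ := by
    apply Subtype.ext
    simp [MvPolynomial.smul_eq_C_mul]
  have hz : coeff w (nf mo I (φ ⟨f - C c * g, hd⟩)) = 0 := by
    rcases eq_or_ne (f - C c * g) 0 with h0 | h0
    · have : (⟨f - C c * g, hd⟩ : ↥I) = 0 := Subtype.ext h0
      rw [this, map_zero, map_zero, coeff_zero]
    by_contra hne
    have hle := hb _ hd h0 w hne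
    have hlt : mo.toSyn (mo.degree (f - C c * g)) < mo.toSyn (mo.degree f) := by
      refine lt_of_le_of_ne (MonomialOrder.degree_le_iff.2 fun v hv => ?_) fun heq => ?_
      · rcases Finset.mem_union.1 (support_sub σ _ _ hv) with h1 | h1
        · exact mo.le_degree h1
        · rw [← MvPolynomial.smul_eq_C_mul] at h1
          rw [hdeg]
          exact mo.le_degree (support_smul h1)
      · have := mo.degree_mem_support h0
        rw [mo.toSyn.injective heq, mem_support_iff, coeff_sub, coeff_C_mul] at this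
        rw [hdeg] at this hc
        rw [hg1, mul_one, ← hc] at this
        exact this (sub_self c)
    have e2 : HilbTgtLib.ofZ α + mo.degree f = w + HilbTgtLib.ofZ (-α) := Finsupp.ext fun i => by
      have := hw i
      simp only [Finsupp.add_apply, HilbTgtLib.ofZ_apply, Pi.neg_apply]
      omega
    rw [← e2, map_add, map_add, add_le_add_iff_left] at hle
    exact absurd hle (not_le.2 hlt)
  rw [e, map_add, LinearMap.map_smul_of_tower, map_add, map_smul, coeff_add, coeff_smul, hz, zero_add, smul_eq_mul]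

theorem leadVal_eq {φ : Tgt I} {α : σ → ℤ} (hb : Below mo I φ α) {f : MvPolynomial σ k} (hf : f ∈ I) (hf0 : f ≠ 0)
    (hne : ∀ i, 0 ≤ (mo.degree f i : ℤ) + α i) :
    coeff (mo.degree f) f • leadVal (mo := mo) φ α (mo.degree f) =
      coeff (shift (mo.degree f) α) (nf mo I (φ ⟨f, hf⟩)) •
        Ideal.Quotient.mk (inI mo I) (monomial (shift (mo.degree f) α) 1) := by
  have h := And.intro (degree_mem_exps mo I hf hf0) hne
  obtain ⟨hmem, h0, hdeg, h1⟩ := (exists_monic mo I h.1).choose_spec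
  rw [leadVal, dif_pos h, smul_smul, coeff_lead hb hf hmem hf0 hdeg.symm (by rw [hdeg]; exact h1) (shift_int hne)]

theorem leadVal_step {φ : Tgt I} {α : σ → ℤ} (hb : Below mo I φ α) (β : σ →₀ ℕ) (hβ : β ∈ exps (inI mo I)) (i : σ) :
    leadVal (mo := mo) φ α (β + Finsupp.single i 1) = Ideal.Quotient.mk _ (X i) * leadVal (mo := mo) φ α β := by
  classical
  obtain ⟨f, hf, hf0, hdeg, hf1⟩ := exists_monic mo I hβ
  have hX : (X i : MvPolynomial σ k) ≠ 0 := X_ne_zero i
  have hXf : X i * f ∈ I := I.mul_mem_left _ hf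
  have hdeg' : mo.degree (X i * f) = β + Finsupp.single i 1 := by
    rw [mo.degree_mul hX hf0, MonomialOrder.degree_X, hdeg, add_comm]
  have hc' : coeff (β + Finsupp.single i 1) (X i * f) = 1 := by rw [add_comm, coeff_X_mul]; exact hf1
  by_cases hne : ∀ j, 0 ≤ ((β + Finsupp.single i 1 : σ →₀ ℕ) j : ℤ) + α j
  swap
  · rw [leadVal, dif_neg fun h => hne h.2, leadVal, dif_neg, mul_zero]
    exact fun h => hne fun j => by have := h.2 j; simp only [Finsupp.add_apply, Nat.cast_add]; omega
  set w := shift (β + Finsupp.single i 1) α with hw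
  have hL := leadVal_eq hb hXf (mul_ne_zero hX hf0) (by rw [hdeg']; exact hne)
  rw [hdeg', hc', one_smul] at hL
  rw [hL, ← hw]
  by_cases hwe : w ∈ exps (inI mo I)
  · rw [Ideal.Quotient.eq_zero_iff_mem.2 hwe, smul_zero]
    by_cases h : ∀ j, 0 ≤ (β j : ℤ) + α j
    · have hr := leadVal_eq hb hf hf0 (by rw [hdeg]; exact h)
      rw [hdeg, hf1, one_smul] at hr
      rw [hr, ksmul_mul, ← map_mul, X, monomial_mul, one_mul,
        show Finsupp.single i 1 + shift β α = w from Finsupp.ext fun j => by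
          have := shift_int h j; have := shift_int hne j; rw [← hw] at this
          simp only [Finsupp.add_apply, Nat.cast_add] at this ⊢; omega,
        Ideal.Quotient.eq_zero_iff_mem.2 hwe, smul_zero]
    · rw [leadVal, dif_neg fun h' => h h'.2, mul_zero]
  have hkey : coeff w (nf mo I (φ ⟨X i * f, hXf⟩)) = coeff w (X i * nf mo I (φ ⟨f, hf⟩)) := by
    have : φ ⟨X i * f, hXf⟩ = Ideal.Quotient.mk I (X i * nf mo I (φ ⟨f, hf⟩)) := by
      rw [map_mul, mk_nf, ← smul_quot, ← map_smul]
      rfl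
    rw [this]
    refine coeff_nf_top mo I _ hwe fun v hv => ?_
    rw [support_X_mul, Finset.mem_map] at hv
    obtain ⟨u, hu, rfl⟩ := hv
    have hle := hb f hf hf0 u (mem_support_iff.1 hu)
    rw [hdeg] at hle
    refine (below_iff_int mo (α := α) (β := β + Finsupp.single i 1) (shift_int hne)).1 ?_
    rw [show (addLeftEmbedding (Finsupp.single i 1)) u + ofZ (-α) = Finsupp.single i 1 + (u + ofZ (-α)) by
        simp [add_assoc],
      show ofZ α + (β + Finsupp.single i 1) = Finsupp.single i 1 + (ofZ α + β) by abel,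
      map_add mo.toSyn (Finsupp.single i 1), map_add mo.toSyn (Finsupp.single i 1)]
    exact add_le_add_right hle _
  rw [hkey, coeff_X_mul']
  by_cases hi : i ∈ w.support
  · rw [if_pos hi]
    have h : ∀ j, 0 ≤ (β j : ℤ) + α j := fun j => by
      have := shift_int hne j
      rw [← hw] at this
      simp only [Finsupp.add_apply, Nat.cast_add] at this
      rcases eq_or_ne j i with rfl | hj
      · simp only [Finsupp.single_eq_same] at this
        have := Finsupp.mem_support_iff.1 hi
        omega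
      · simp only [Finsupp.single_eq_of_ne hj] at this
        omega
    have hr := leadVal_eq hb hf hf0 (by rw [hdeg]; exact h)
    rw [hdeg, hf1, one_smul] at hr
    have e : Finsupp.single i 1 + shift β α = w := Finsupp.ext fun j => by
      have := shift_int h j; have := shift_int hne j; rw [← hw] at this
      simp only [Finsupp.add_apply, Nat.cast_add] at this ⊢; omega
    rw [hr, ksmul_mul, ← map_mul, X, monomial_mul, one_mul, e, ← e, add_tsub_cancel_left]
  · rw [if_neg hi, zero_smul, leadVal, dif_neg, mul_zero]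
    rintro ⟨-, h⟩
    have := shift_int hne i
    rw [← hw, Finsupp.notMem_support_iff.1 hi] at this
    have := h i
    simp at *
    omega

/-- the leading part as a tangent vector of the initial ideal -/
noncomputable def lead (φ : Tgt I) (α : σ → ℤ) (hb : Below mo I φ α) : Tgt (inI mo I) :=
  Hom0Lib.mkTgt (isMonomial mo I) (leadVal_step hb)

theorem lead_mem (φ : Tgt I) (α : σ → ℤ) (hb : Below mo I φ α) : lead φ α hb ∈ tPiece (inI mo I) α := by
  intro β hβ
  rw [lead, Hom0Lib.mkTgt_monomial, leadVal]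
  refine ⟨fun hn => ?_, fun ⟨i, hi⟩ => ?_⟩
  · rw [dif_pos ⟨hβ, hn⟩]
    exact Submodule.smul_mem _ _ (Submodule.subset_span rfl)
  · rw [dif_neg fun h => not_le.2 hi (h.2 i)]

/-- the coefficient at a leading pair vanishes when the leading part does -/
theorem coeff_eq_zero_of_lead {φ : Tgt I} {α : σ → ℤ} (hb : Below mo I φ α) (hlead : lead φ α hb = 0)
    {f : MvPolynomial σ k} (hf : f ∈ I) (hf0 : f ≠ 0) {v : σ →₀ ℕ} (hv : ∀ i, (v i : ℤ) = mo.degree f i + α i) :
    coeff v (nf mo I (φ ⟨f, hf⟩)) = 0 := by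
  classical
  by_contra hne
  have hvs : v ∈ Std mo I := nf_std mo I _ (mem_support_iff.2 hne)
  have hn : ∀ i, 0 ≤ (mo.degree f i : ℤ) + α i := fun i => by have := hv i; omega
  have hs : shift (mo.degree f) α = v := Finsupp.ext fun i => by
    have := hv i; have := shift_int hn i; omega
  have h := leadVal_eq hb hf hf0 hn
  have hz : leadVal (mo := mo) φ α (mo.degree f) = 0 := by
    have := LinearMap.congr_fun hlead ⟨monomial (mo.degree f) 1, degree_mem_exps mo I hf hf0⟩
    rwa [lead, Hom0Lib.mkTgt_monomial, LinearMap.zero_apply] at this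
  rw [hz, smul_zero, hs] at h
  have := congrArg (qcoeff (inI mo I) (isMonomial mo I) v hvs) h
  rw [map_zero, map_smul, qcoeff_mk, coeff_monomial, if_pos rfl, smul_eq_mul, mul_one] at this
  exact hne this.symm

/-- a nonzero homomorphism has a largest shift, and it is a degree of the initial tangent module -/
theorem exists_top {φ : Tgt I} (hφ : φ ≠ 0) :
    ∃ α ∈ degSet (inI mo I), Below mo I φ α ∧
      ∃ f, ∃ hf : f ∈ I, f ≠ 0 ∧ ∃ v : σ →₀ ℕ, (∀ i, (v i : ℤ) = mo.degree f i + α i) ∧
        coeff v (nf mo I (φ ⟨f, hf⟩)) ≠ 0 := by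
  classical
  have hex : ∃ f, ∃ hf : f ∈ I, f ≠ 0 ∧ ∃ v, coeff v (nf mo I (φ ⟨f, hf⟩)) ≠ 0 := by
    by_contra hcon
    push Not at hcon
    refine hφ (LinearMap.ext fun x => ?_)
    rcases eq_or_ne x.1 0 with h0 | h0
    · rw [show x = 0 from Subtype.ext h0, map_zero, map_zero]
    · rw [← mk_nf mo I (φ x), show nf mo I (φ x) = 0 from MvPolynomial.ext _ _ fun v => by
        rw [coeff_zero]; exact hcon x.1 x.2 h0 v, map_zero, LinearMap.zero_apply]
  let P : (σ →₀ ℕ) → Set mo.syn := fun v =>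
    {s | ∃ f, ∃ hf : f ∈ I, f ≠ 0 ∧ mo.toSyn (mo.degree f) = s ∧ coeff v (nf mo I (φ ⟨f, hf⟩)) ≠ 0}
  let T : Finset (σ →₀ ℕ) := (finite_Std mo I).toFinset.filter fun v => (P v).Nonempty
  let b : (σ →₀ ℕ) → (σ →₀ ℕ) := fun v =>
    if h : (P v).Nonempty then mo.toSyn.symm (wellFounded_lt.min (P v) h) else 0
  have hb_mem : ∀ v, (P v).Nonempty → mo.toSyn (b v) ∈ P v := fun v h => by
    simp only [b, dif_pos h, AddEquiv.apply_symm_apply]
    exact wellFounded_lt.min_mem _ h
  have hb_le : ∀ v, ∀ s ∈ P v, mo.toSyn (b v) ≤ s := fun v s hs => by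
    simp only [b, dif_pos (show (P v).Nonempty from ⟨s, hs⟩), AddEquiv.apply_symm_apply]
    exact not_lt.1 (wellFounded_lt.not_lt_min _ hs)
  have hT : T.Nonempty := by
    obtain ⟨f, hf, hf0, v, hv⟩ := hex
    exact ⟨v, Finset.mem_filter.2 ⟨(finite_Std mo I).mem_toFinset.2 (nf_std mo I _ (mem_support_iff.2 hv)),
      _, f, hf, hf0, rfl, hv⟩⟩
  obtain ⟨v₀, hv₀, hmax⟩ := T.exists_max_image (fun v => mo.toSyn (v + ∑ w ∈ T.erase v, b w)) hT
  obtain ⟨f₀, hf₀, hf00, hfdeg, hfc⟩ := hb_mem v₀ (Finset.mem_filter.1 hv₀).2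
  have hd0 : mo.degree f₀ = b v₀ := mo.toSyn.injective hfdeg
  let α : σ → ℤ := fun i => (v₀ i : ℤ) - b v₀ i
  have hBelow : Below mo I φ α := by
    intro f hf hf0 v hv
    have hvT : v ∈ T := Finset.mem_filter.2
      ⟨(finite_Std mo I).mem_toFinset.2 (nf_std mo I _ (mem_support_iff.2 hv)), _, f, hf, hf0, rfl, hv⟩
    have hle : mo.toSyn (b v) ≤ mo.toSyn (mo.degree f) := hb_le v _ ⟨f, hf, hf0, rfl, hv⟩
    have hm := hmax v hvT
    have e1 : v + ∑ w ∈ T.erase v, b w + (b v + b v₀) = v + b v₀ + ∑ w ∈ T, b w := by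
      rw [← Finset.add_sum_erase _ _ hvT]; abel
    have e2 : v₀ + ∑ w ∈ T.erase v₀, b w + (b v₀ + b v) = v₀ + b v + ∑ w ∈ T, b w := by
      rw [← Finset.add_sum_erase _ _ hv₀]; abel
    have hm2 : mo.toSyn (v + b v₀ + ∑ w ∈ T, b w) ≤ mo.toSyn (v₀ + b v + ∑ w ∈ T, b w) := by
      rw [← e1, ← e2, add_comm (b v₀) (b v), map_add, map_add _ (v₀ + _)]
      exact add_le_add_left hm _
    rw [map_add _ (v + b v₀), map_add _ (v₀ + b v), add_le_add_iff_right, map_add, map_add] at hm2
    have h3 : mo.toSyn v + mo.toSyn (b v₀) ≤ mo.toSyn v₀ + mo.toSyn (mo.degree f) :=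
      hm2.trans (add_le_add_right hle _)
    rw [← map_add, ← map_add] at h3
    have e3 : HilbTgtLib.ofZ α + b v₀ = v₀ + HilbTgtLib.ofZ (-α) := Finsupp.ext fun i => by
      simp only [Finsupp.add_apply, HilbTgtLib.ofZ_apply, Pi.neg_apply, α]
      omega
    have e4 : mo.toSyn (v + HilbTgtLib.ofZ (-α) + b v₀) ≤ mo.toSyn (HilbTgtLib.ofZ α + mo.degree f + b v₀) := by
      rw [show v + HilbTgtLib.ofZ (-α) + b v₀ = HilbTgtLib.ofZ (-α) + (v + b v₀) by abel,
        show HilbTgtLib.ofZ α + mo.degree f + b v₀ = HilbTgtLib.ofZ α + b v₀ + mo.degree f by abel, e3,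
        show v₀ + HilbTgtLib.ofZ (-α) + mo.degree f = HilbTgtLib.ofZ (-α) + (v₀ + mo.degree f) by abel,
        map_add, map_add mo.toSyn (ofZ (-α))]
      exact add_le_add_right h3 _
    rwa [map_add, map_add mo.toSyn (ofZ α + mo.degree f), add_le_add_iff_right] at e4
  have hv₀int : ∀ i, (v₀ i : ℤ) = mo.degree f₀ i + α i := fun i => by
    simp only [α, hd0]; ring
  refine ⟨α, ?_, hBelow, f₀, hf₀, hf00, v₀, hv₀int, hfc⟩
  haveI := finite_inI mo I
  by_contra hα
  have hbot := tPiece_eq_bot (inI mo I) α (isMonomial mo I) (not_nonempty_iff.1 hα)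
  have hz : lead φ α hBelow = 0 := by
    have := lead_mem φ α hBelow
    rwa [hbot, Submodule.mem_bot] at this
  exact hfc (coeff_eq_zero_of_lead hBelow hz hf₀ hf00 hv₀int)

variable (mo) in
/-- homomorphisms with every shift at most some member of `A` -/
noncomputable def shiftLE (A : Finset (σ → ℤ)) : Submodule k (Tgt I) where
  carrier := {φ | ∀ f (hf : f ∈ I), f ≠ 0 → ∀ v,
    (∀ a ∈ A, ¬ mo.toSyn (v + HilbTgtLib.ofZ (-a)) ≤ mo.toSyn (HilbTgtLib.ofZ a + mo.degree f)) →
      coeff v (nf mo I (φ ⟨f, hf⟩)) = 0}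
  zero_mem' := by intro f hf _ v _; simp
  add_mem' := by
    intro φ ψ hφ hψ f hf hf0 v hv
    simp [hφ f hf hf0 v hv, hψ f hf hf0 v hv]
  smul_mem' := by
    intro c φ hφ f hf hf0 v hv
    simp [hφ f hf hf0 v hv]

theorem ofZ_cross_le {a b : σ → ℤ} {v β : σ →₀ ℕ} (h : ∀ i, (v i : ℤ) = β i + a i) :
    mo.toSyn (v + ofZ (-b)) ≤ mo.toSyn (ofZ b + β) ↔ mo.toSyn (ofZ a + ofZ (-b)) ≤ mo.toSyn (ofZ b + ofZ (-a)) := by
  have e1 : v + ofZ (-b) + ofZ (-a) = ofZ a + ofZ (-b) + β := Finsupp.ext fun i => by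
    have := h i
    simp only [Finsupp.add_apply, HilbTgtLib.ofZ_apply, Pi.neg_apply]; omega
  rw [← add_le_add_iff_right (mo.toSyn (ofZ (-a))), ← map_add, ← map_add, e1,
    show ofZ b + β + ofZ (-a) = ofZ b + ofZ (-a) + β by abel, map_add, map_add mo.toSyn (ofZ b + ofZ (-a)),
    add_le_add_iff_right]

theorem below_trans {a b : σ → ℤ} (h : mo.toSyn (ofZ a + ofZ (-b)) ≤ mo.toSyn (ofZ b + ofZ (-a))) {v β : σ →₀ ℕ}
    (hv : mo.toSyn (v + ofZ (-a)) ≤ mo.toSyn (ofZ a + β)) : mo.toSyn (v + ofZ (-b)) ≤ mo.toSyn (ofZ b + β) := by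
  rw [← add_le_add_iff_right (mo.toSyn (ofZ a + ofZ (-a)))]
  calc mo.toSyn (v + ofZ (-b)) + mo.toSyn (ofZ a + ofZ (-a))
      = mo.toSyn (v + ofZ (-a)) + mo.toSyn (ofZ a + ofZ (-b)) := by rw [← map_add, ← map_add]; congr 1; abel
    _ ≤ mo.toSyn (ofZ a + β) + mo.toSyn (ofZ b + ofZ (-a)) := add_le_add hv h
    _ = _ := by rw [← map_add, ← map_add]; congr 1; abel

variable (mo I) in
theorem finrank_shiftLE_le : ∀ (c : ℕ) (A : Finset (σ → ℤ)), A.card = c → (∀ a ∈ A, a ∈ degSet (inI mo I)) →
    (∀ a ∈ A, ∀ b ∈ degSet (inI mo I), mo.toSyn (ofZ b + ofZ (-a)) ≤ mo.toSyn (ofZ a + ofZ (-b)) → b ∈ A) →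
    Module.finrank k ↥(shiftLE mo (I := I) A) ≤ ∑ a ∈ A, Module.finrank k ↥(tPiece (inI mo I) a) := by
  classical
  haveI := finite_inI mo I
  haveI := finite_Tgt I
  haveI := finite_Tgt (inI mo I)
  intro c
  induction c with
  | zero =>
    intro A hA _ _
    obtain rfl := Finset.card_eq_zero.1 hA
    have : shiftLE mo (I := I) ∅ = ⊥ := by
      rw [Submodule.eq_bot_iff]
      intro φ hφ
      by_contra h0
      obtain ⟨_, -, -, f, hf, hf0, v, -, hv⟩ := exists_top (mo := mo) h0
      exact hv (hφ f hf hf0 v (by simp))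
    rw [this, finrank_bot]
    exact Nat.zero_le _
  | succ c ih =>
    intro A hA hsub hdown
    obtain ⟨top, htop, hmax⟩ := A.exists_max_image (fun a => mo.toSyn (ofZ a + ∑ b ∈ A.erase a, ofZ (-b)))
      (Finset.card_pos.1 (by omega))
    have hle : ∀ a ∈ A, mo.toSyn (ofZ a + ofZ (-top)) ≤ mo.toSyn (ofZ top + ofZ (-a)) := by
      intro a ha
      have h := add_le_add_left (hmax a ha) (mo.toSyn (ofZ (-a) + ofZ (-top)))
      rw [← map_add, ← map_add,
        show ofZ a + ∑ b ∈ A.erase a, ofZ (-b) + (ofZ (-a) + ofZ (-top)) =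
          ofZ a + ofZ (-top) + ∑ b ∈ A, ofZ (-b) by rw [← Finset.add_sum_erase _ _ ha]; abel,
        show ofZ top + ∑ b ∈ A.erase top, ofZ (-b) + (ofZ (-a) + ofZ (-top)) =
          ofZ top + ofZ (-a) + ∑ b ∈ A, ofZ (-b) by rw [← Finset.add_sum_erase _ _ htop]; abel,
        map_add, map_add mo.toSyn (ofZ top + ofZ (-a)), add_le_add_iff_right] at h
      exact h
    have hbel : ∀ φ ∈ shiftLE mo (I := I) A, Below mo I φ top := by
      intro φ hφ f hf hf0 v hv
      by_contra hcon
      exact hv (hφ f hf hf0 v fun a ha h => hcon (below_trans (hle a ha) h))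
    let L : ↥(shiftLE mo (I := I) A) →ₗ[k] ↥(tPiece (inI mo I) top) :=
      { toFun := fun φ => ⟨lead φ.1 top (hbel _ φ.2), lead_mem _ _ _⟩
        map_add' := fun φ ψ => by
          apply Subtype.ext
          refine LinearMap.ext fun x => ?_
          show Hom0Lib.ext _ (leadVal _ _) x.1 = Hom0Lib.ext _ (leadVal _ _) x.1 + Hom0Lib.ext _ (leadVal _ _) x.1
          rw [← LinearMap.add_apply]
          congr 1
          refine (MvPolynomial.basisMonomials σ k).ext fun β => ?_
          rw [MvPolynomial.coe_basisMonomials, LinearMap.add_apply, Hom0Lib.ext_monomial, Hom0Lib.ext_monomial,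
            Hom0Lib.ext_monomial, leadVal, leadVal, leadVal]
          split_ifs
          · simp [add_smul]
          · simp
        map_smul' := fun r φ => by
          apply Subtype.ext
          refine LinearMap.ext fun x => ?_
          show Hom0Lib.ext _ (leadVal _ _) x.1 = r • Hom0Lib.ext _ (leadVal _ _) x.1
          rw [← LinearMap.smul_apply]
          congr 1
          refine (MvPolynomial.basisMonomials σ k).ext fun β => ?_
          rw [MvPolynomial.coe_basisMonomials, LinearMap.smul_apply, Hom0Lib.ext_monomial, Hom0Lib.ext_monomial,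
            leadVal, leadVal]
          split_ifs
          · simp [smul_smul]
          · simp }
    have hker : (LinearMap.ker L).map (shiftLE mo (I := I) A).subtype ≤ shiftLE mo (I := I) (A.erase top) := by
      rintro _ ⟨φ, hφ, rfl⟩
      have hz : lead φ.1 top (hbel _ φ.2) = 0 := congrArg Subtype.val (LinearMap.mem_ker.1 hφ)
      intro f hf hf0 v hv
      by_contra hne
      obtain ⟨a, ha, hab, g, hg, hg0, w, hw, hwne⟩ := exists_top (mo := mo) (φ := φ.1) fun h => by
        rw [Submodule.subtype_apply, h] at hne; simp at hne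
      have hat : mo.toSyn (ofZ a + ofZ (-top)) ≤ mo.toSyn (ofZ top + ofZ (-a)) :=
        (ofZ_cross_le hw).1 (hbel _ φ.2 g hg hg0 w hwne)
      have hane : a ≠ top := by
        rintro rfl
        exact hwne (coeff_eq_zero_of_lead (hbel _ φ.2) hz hg hg0 hw)
      exact hv a (Finset.mem_erase.2 ⟨hane, hdown top htop a ha hat⟩) (hab f hf hf0 v hne)
    have hdown' : ∀ a ∈ A.erase top, ∀ b ∈ degSet (inI mo I),
        mo.toSyn (ofZ b + ofZ (-a)) ≤ mo.toSyn (ofZ a + ofZ (-b)) → b ∈ A.erase top := by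
      intro a ha b hb hba
      obtain ⟨hane, haA⟩ := Finset.mem_erase.1 ha
      refine Finset.mem_erase.2 ⟨fun hbt => hane ?_, hdown a haA b hb hba⟩
      subst hbt
      have heq := mo.toSyn.injective (le_antisymm (hle a haA) hba)
      funext i
      have := DFunLike.congr_fun heq i
      simp only [Finsupp.add_apply, ofZ_apply, Pi.neg_apply] at this
      omega
    have h1 := LinearMap.finrank_range_add_finrank_ker (K := k) (V := ↥(shiftLE mo (I := I) A))
      (V₂ := ↥(tPiece (inI mo I) top)) L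
    have h2 : Module.finrank k ↥(LinearMap.ker L) ≤ ∑ a ∈ A.erase top, Module.finrank k ↥(tPiece (inI mo I) a) :=
      calc Module.finrank k ↥(LinearMap.ker L)
          = Module.finrank k ↥((LinearMap.ker L).map (shiftLE mo (I := I) A).subtype) :=
            (Submodule.equivMapOfInjective _ (Submodule.injective_subtype _) _).finrank_eq
        _ ≤ Module.finrank k ↥(shiftLE mo (I := I) (A.erase top)) := Submodule.finrank_mono hker
        _ ≤ _ := ih _ (by rw [Finset.card_erase_of_mem htop]; omega) (fun a ha => hsub a (Finset.mem_of_mem_erase ha)) hdown'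
    have h3 : Module.finrank k ↥(LinearMap.range L) ≤ Module.finrank k ↥(tPiece (inI mo I) top) := Submodule.finrank_le _
    rw [← Finset.add_sum_erase _ _ htop]
    omega

variable (mo I) in
/-- semicontinuity of the tangent space -/
theorem finrank_Tgt_le : Module.finrank k (Tgt I) ≤ Module.finrank k (Tgt (inI mo I)) := by
  classical
  haveI := finite_inI mo I
  haveI := finite_Tgt I
  haveI := finite_Tgt (inI mo I)
  have hfin := finite_degSet (inI mo I) (isMonomial mo I)
  haveI := hfin.fintype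
  have htop : shiftLE mo (I := I) hfin.toFinset = ⊤ := by
    rw [eq_top_iff]
    intro φ _ f hf hf0 v hv
    by_contra hne
    obtain ⟨a, ha, hab, -⟩ := exists_top (mo := mo) (φ := φ) fun h => by rw [h] at hne; simp at hne
    exact hv a (hfin.mem_toFinset.2 ha) (hab f hf hf0 v hne)
  have h := finrank_shiftLE_le mo I _ hfin.toFinset rfl (fun a ha => hfin.mem_toFinset.1 ha)
    (fun a _ b hb _ => hfin.mem_toFinset.2 hb)
  rw [htop, finrank_top] at h
  rw [finrank_Tgt (inI mo I) (isMonomial mo I)]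
  refine h.trans (le_of_eq ?_)
  rw [Finset.sum_subtype hfin.toFinset (fun a => hfin.mem_toFinset)]

end HilbTgtLib.Initial
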