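import Groth.Agent.HilbTgtLib.Extremal

/-! `dim T(I) ≤ (2p+1)·colength` for a monomial ideal of `k[x,y,z]` containing `x^p`: layerwise, the
generators `x^i y^{f_i(t)} z^t` have consecutive syzygies whose cokernel is small. -/

set_option linter.unusedSectionVars false
set_option linter.style.haveILetI false

namespace HilbTgtLib.Layer

open MvPolynomial W4c1hilbpn

variable {k : Type*} [Field k]

theorem e3_eta (β : Fin 3 →₀ ℕ) : e3 (β 0) (β 1) (β 2) = β := by
  ext l
  fin_cases l <;> simp [e3]

theorem e3_add (a b c a' b' c' : ℕ) : e3 a b c + e3 a' b' c' = e3 (a + a') (b + b') (c + c') := by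
  ext l
  fin_cases l <;> simp [e3]

theorem e3_le {a b c a' b' c' : ℕ} (ha : a ≤ a') (hb : b ≤ b') (hc : c ≤ c') : e3 a b c ≤ e3 a' b' c' := by
  intro l
  fin_cases l <;> simp [e3, ha, hb, hc]

section Chain

variable {M : Type*} [CommRing M] [Algebra k M] {B : ℕ} (Y Z : M) (f : ℕ → ℕ)

/-- the syzygy map of a staircase of generators -/
noncomputable def chain : (Fin (B + 1) → M) →ₗ[k] (Fin B → M) :=
  LinearMap.pi fun t => (LinearMap.mulLeft k Z).comp (LinearMap.proj t.castSucc) -
    (LinearMap.mulLeft k (Y ^ (f t.val - f (t.val + 1)))).comp (LinearMap.proj t.succ)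

theorem chain_apply (m : Fin (B + 1) → M) (t : Fin B) :
    chain (k := k) Y Z f m t = Z * m t.castSucc - Y ^ (f t.val - f (t.val + 1)) * m t.succ := rfl

abbrev Coker : Type _ := (Fin B → M) ⧸ LinearMap.range (chain (k := k) (B := B) Y Z f)

/-- the class of `w` placed at `t` (zero off the range) -/
noncomputable def cls (t : ℕ) (w : M) : Coker (k := k) (B := B) Y Z f :=
  Submodule.Quotient.mk fun s => if s.val = t then w else 0

theorem cls_of_le {t : ℕ} (ht : B ≤ t) (w : M) : cls (k := k) (B := B) Y Z f t w = 0 := by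
  rw [cls]
  refine (congrArg _ (funext fun s => if_neg ?_)).trans (Submodule.Quotient.mk_zero _)
  omega

theorem cls_rel (t : ℕ) (ht : t < B) (w : M) :
    cls (k := k) (B := B) Y Z f t (Y ^ (f t - f (t + 1)) * w) = cls (k := k) (B := B) Y Z f (t + 1) (Z * w) := by
  rw [cls, cls, eq_comm, Submodule.Quotient.eq]
  refine ⟨fun s => if s.val = t + 1 then w else 0, funext fun s => ?_⟩
  rw [chain_apply, Pi.sub_apply]
  simp only [Fin.val_castSucc, Fin.val_succ, Nat.add_right_cancel_iff]
  split_ifs with h1 h2 <;> simp_all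

theorem cls_zero (w : M) : cls (k := k) (B := B) Y Z f 0 (Z * w) = 0 := by
  rw [cls, Submodule.Quotient.mk_eq_zero]
  refine ⟨fun s => if s.val = 0 then w else 0, funext fun s => ?_⟩
  rw [chain_apply]
  simp only [Fin.val_castSucc, Fin.val_succ, Nat.succ_ne_zero, if_false, mul_zero, sub_zero, mul_ite]

theorem cls_top (hf : Antitone f) (hB : f B = 0) :
    ∀ m t, t + m = B → ∀ w, cls (k := k) (B := B) Y Z f t (Y ^ f t * w) = 0
  | 0, t, h, w => cls_of_le Y Z f (by omega) _
  | m + 1, t, h, w => by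
    have e : f t = (f t - f (t + 1)) + f (t + 1) := (Nat.sub_add_cancel (hf (Nat.le_succ t))).symm
    rw [e, pow_add, mul_assoc, cls_rel Y Z f t (by omega), ← mul_assoc, mul_comm Z, mul_assoc,
      cls_top hf hB m (t + 1) (by omega)]

variable {J : Type*} [Fintype J] (u : J → M)

theorem cls_mem (hf : Antitone f) (hB : f B = 0) (hgen : Submodule.span k (Set.range fun x : J × ℕ × ℕ => u x.1 * Y ^ x.2.1 * Z ^ x.2.2) = ⊤)
    (t : ℕ) : ∀ w : M, cls (k := k) (B := B) Y Z f t w ∈ (Submodule.span k
      (Set.range fun x : J × (Σ t : Fin B, Fin (f t.val)) => cls (k := k) (B := B) Y Z f x.2.1.val (u x.1 * Y ^ x.2.2.val)) :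
        Submodule k (Coker (k := k) (B := B) Y Z f)) := by
  induction t using Nat.strong_induction_on with
  | _ t ih =>
    by_cases ht : t < B
    swap
    · intro w
      rw [cls_of_le Y Z f (not_lt.1 ht)]
      exact zero_mem _
    let L : M →ₗ[k] Coker (k := k) (B := B) Y Z f :=
      (Submodule.mkQ _).comp (LinearMap.pi fun s : Fin B => if s.val = t then LinearMap.id else 0)
    have hL : ∀ w, L w = cls (k := k) (B := B) Y Z f t w := fun w => by
      show Submodule.Quotient.mk _ = Submodule.Quotient.mk _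
      refine congrArg _ (funext fun s => ?_)
      simp only [LinearMap.pi_apply]
      split_ifs <;> rfl
    intro w
    rw [← hL]
    suffices h : Submodule.span k (Set.range fun x : J × ℕ × ℕ => u x.1 * Y ^ x.2.1 * Z ^ x.2.2) ≤
        (Submodule.span k (Set.range fun x : J × (Σ t : Fin B, Fin (f t.val)) =>
          cls (k := k) (B := B) Y Z f x.2.1.val (u x.1 * Y ^ x.2.2.val))).comap L from h (hgen ▸ Submodule.mem_top)
    rw [Submodule.span_le]
    rintro _ ⟨⟨j, a, c⟩, rfl⟩
    simp only [SetLike.mem_coe, Submodule.mem_comap, hL]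
    cases c with
    | zero =>
      simp only [pow_zero, mul_one]
      by_cases ha : a < f t
      · exact Submodule.subset_span ⟨(j, ⟨⟨t, ht⟩, ⟨a, ha⟩⟩), rfl⟩
      · rw [show a = f t + (a - f t) by omega, pow_add, mul_left_comm, cls_top Y Z f hf hB (B - t) t (by omega)]
        exact zero_mem _
    | succ c =>
      simp only [pow_succ', mul_left_comm _ Z]
      cases t with
      | zero => rw [cls_zero]; exact zero_mem _
      | succ s =>
        rw [← cls_rel Y Z f s (by omega)]
        exact ih s (Nat.lt_succ_self s) _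

variable [Module.Finite k M]

theorem finrank_coker_le (hf : Antitone f) (hB : f B = 0) (hgen : Submodule.span k (Set.range fun x : J × ℕ × ℕ => u x.1 * Y ^ x.2.1 * Z ^ x.2.2) = ⊤) :
    Module.finrank k (Coker (k := k) (B := B) Y Z f) ≤ Fintype.card J * ∑ t : Fin B, f t.val := by
  classical
  have h : Submodule.span k (Set.range fun x : J × (Σ t : Fin B, Fin (f t.val)) =>
      cls (k := k) (B := B) Y Z f x.2.1.val (u x.1 * Y ^ x.2.2.val)) = ⊤ := by
    rw [eq_top_iff]
    intro q _
    obtain ⟨v, rfl⟩ := Submodule.Quotient.mk_surjective _ q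
    have hv : v = ∑ t : Fin B, fun s : Fin B => if s.val = t.val then v t else 0 := by
      funext s
      simp [Finset.sum_apply, Fin.val_inj]
    rw [hv, ← Submodule.mkQ_apply, map_sum]
    exact Submodule.sum_mem _ fun t _ => cls_mem Y Z f u hf hB hgen t.val (v t)
  have := finrank_range_le_card (R := k) fun x : J × (Σ t : Fin B, Fin (f t.val)) =>
    cls (k := k) (B := B) Y Z f x.2.1.val (u x.1 * Y ^ x.2.2.val)
  rw [Set.finrank, h, finrank_top] at this
  simpa using this

theorem finrank_ker_le (hf : Antitone f) (hB : f B = 0) (hgen : Submodule.span k (Set.range fun x : J × ℕ × ℕ => u x.1 * Y ^ x.2.1 * Z ^ x.2.2) = ⊤) :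
    Module.finrank k (LinearMap.ker (chain (k := k) (B := B) Y Z f)) ≤
      Module.finrank k M + Fintype.card J * ∑ t : Fin B, f t.val := by
  have h1 := LinearMap.finrank_range_add_finrank_ker (chain (k := k) (B := B) Y Z f)
  have h2 := Submodule.finrank_quotient_add_finrank (LinearMap.range (chain (k := k) (B := B) Y Z f))
  have h3 := finrank_coker_le (k := k) Y Z f u hf hB hgen
  rw [Module.finrank_pi_fintype, Finset.sum_const, Finset.card_univ, Fintype.card_fin, smul_eq_mul] at h1 h2
  rw [add_mul, one_mul] at h1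
  simp only [Coker] at h3
  omega

end Chain

variable (I : Ideal (MvPolynomial (Fin 3) k)) [Module.Finite k (MvPolynomial (Fin 3) k ⧸ I)]

/-- the least exponent of `y` in the column `(i, ·, t)` -/
noncomputable def height (i t : ℕ) : ℕ := sInf {a | e3 i a t ∈ exps I}

theorem height_spec (hI : IsMonomial I) {N : ℕ} (hN : ∀ β : Fin 3 →₀ ℕ, β ∉ exps I → ∀ l, β l < N) (i t a : ℕ) :
    e3 i a t ∈ exps I ↔ height I i t ≤ a := by
  have hne : {a | e3 i a t ∈ exps I}.Nonempty := ⟨N, by
    by_contra h
    have := hN _ h 1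
    simp [e3] at this⟩
  exact ⟨fun h => Nat.sInf_le h, fun h => exps_mono I (Nat.sInf_mem hne) (e3_le le_rfl h le_rfl)⟩

theorem finrank_Tgt_le (hI : IsMonomial I) (p : ℕ) (hx : e3 p 0 0 ∈ exps I) :
    Module.finrank k (Tgt I) ≤ (2 * p + 1) * Module.finrank k (MvPolynomial (Fin 3) k ⧸ I) := by
  classical
  obtain ⟨N, hN⟩ := exists_bound I hI
  let g : ℕ → ℕ → ℕ := height I
  have hg := height_spec I hI hN
  have hanti : ∀ i, Antitone (g i) := fun i s t hst => (hg i t (g i s)).1
    (exps_mono I ((hg i s (g i s)).2 le_rfl) (e3_le le_rfl le_rfl hst))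
  have hB : ∀ i, g i N = 0 := fun i => Nat.le_zero.1 ((hg i N 0).1 (by
    by_contra h
    have := hN _ h 2
    simp [e3] at this))
  set M := MvPolynomial (Fin 3) k ⧸ I
  let mon : ℕ → ℕ → ℕ → M := fun a b c => Ideal.Quotient.mk I (monomial (e3 a b c) 1)
  let Y : M := mon 0 1 0
  let Z : M := mon 0 0 1
  have hmul : ∀ a b c a' b' c', mon a b c * mon a' b' c' = mon (a + a') (b + b') (c + c') := fun a b c a' b' c' => by
    simp only [mon, ← map_mul, monomial_mul, one_mul, e3_add]
  have hY : ∀ a, Y ^ a = mon 0 a 0 := fun a => by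
    induction a with
    | zero =>
      rw [pow_zero]
      show (1 : M) = Ideal.Quotient.mk I (monomial (e3 0 0 0) 1)
      rw [show e3 0 0 0 = 0 from Finsupp.ext fun l => by fin_cases l <;> simp [e3]]
      simp
    | succ a ih => rw [pow_succ, ih, hmul]
  have hZ : ∀ a, Z ^ a = mon 0 0 a := fun a => by
    induction a with
    | zero => rw [pow_zero, ← hY 0, pow_zero]
    | succ a ih => rw [pow_succ, ih, hmul]
  let u : Fin p → M := fun j => mon j.val 0 0
  have hgen : Submodule.span k (Set.range fun x : Fin p × ℕ × ℕ => u x.1 * Y ^ x.2.1 * Z ^ x.2.2) = ⊤ := by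
    rw [eq_top_iff]
    intro x _
    obtain ⟨q, rfl⟩ := Ideal.Quotient.mk_surjective x
    rw [q.as_sum, map_sum]
    refine Submodule.sum_mem _ fun β _ => ?_
    rw [show monomial β (coeff β q) = C (coeff β q) * monomial β 1 by rw [C_mul_monomial, mul_one], map_mul, ← ksmul_quot]
    refine Submodule.smul_mem _ _ ?_
    by_cases hβ : β 0 < p
    · refine Submodule.subset_span ⟨(⟨β 0, hβ⟩, β 1, β 2), ?_⟩
      simp only [u, hY, hZ, hmul, zero_add, add_zero, mon, e3_eta]
    · rw [Ideal.Quotient.eq_zero_iff_mem.2]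
      · exact zero_mem _
      · exact exps_mono I hx (by rw [← e3_eta β]; exact e3_le (not_lt.1 hβ) (Nat.zero_le _) (Nat.zero_le _))
  have mem : ∀ i t, monomial (e3 i (g i t) t) (1 : k) ∈ I := fun i t => (hg i t _).2 le_rfl
  let ev : Fin p → Tgt I →ₗ[k] (Fin (N + 1) → M) := fun i =>
    LinearMap.pi fun t =>
      { toFun := fun φ => φ ⟨monomial (e3 i.val (g i.val t.val) t.val) 1, mem _ _⟩
        map_add' := fun _ _ => rfl
        map_smul' := fun _ _ => LinearMap.smul_apply _ _ _ }
  have hker : ∀ i φ, ev i φ ∈ LinearMap.ker (chain (k := k) Y Z (g i.val)) := by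
    intro i φ
    rw [LinearMap.mem_ker]
    funext t
    rw [chain_apply, Pi.zero_apply, sub_eq_zero, hY]
    show Ideal.Quotient.mk I _ * φ _ = Ideal.Quotient.mk I _ * φ _
    rw [← smul_quot, ← smul_quot, ← map_smul, ← map_smul]
    congr 1
    apply Subtype.ext
    simp only [SetLike.val_smul, smul_eq_mul, monomial_mul, one_mul, e3_add, Fin.val_castSucc, Fin.val_succ,
      zero_add]
    rw [Nat.sub_add_cancel (hanti i.val (Nat.le_succ t.val)), Nat.add_comm 1]
  let evx : Tgt I →ₗ[k] M :=
      { toFun := fun φ => φ ⟨monomial (e3 p 0 0) 1, hx⟩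
        map_add' := fun _ _ => rfl
        map_smul' := fun _ _ => LinearMap.smul_apply _ _ _ }
  let Φ : Tgt I →ₗ[k] M × ((i : Fin p) → LinearMap.ker (chain (k := k) (B := N) Y Z (g i.val))) :=
    evx.prod (LinearMap.pi fun i => (ev i).codRestrict _ (hker i))
  have hinj : Function.Injective Φ := by
    rw [injective_iff_map_eq_zero]
    intro φ hφ
    have h1 : φ ⟨monomial (e3 p 0 0) 1, hx⟩ = 0 := congrArg Prod.fst hφ
    have h2 : ∀ (i : Fin p) (t : Fin (N + 1)), φ ⟨monomial (e3 i.val (g i.val t.val) t.val) 1, mem _ _⟩ = 0 :=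
      fun i t => congrFun (congrArg Subtype.val (congrFun (congrArg Prod.snd hφ) i)) t
    have hdvd : ∀ (γ β : Fin 3 →₀ ℕ) (hγ : monomial γ (1 : k) ∈ I) (hβ : monomial β (1 : k) ∈ I),
        γ ≤ β → φ ⟨monomial γ 1, hγ⟩ = 0 → φ ⟨monomial β 1, hβ⟩ = 0 := by
      intro γ β hγ hβ hle h
      have e : (⟨monomial β 1, hβ⟩ : ↥I) = monomial (β - γ) (1 : k) • ⟨monomial γ 1, hγ⟩ := by
        apply Subtype.ext
        simp [monomial_mul, tsub_add_cancel_of_le hle]
      rw [e, map_smul, h, smul_zero]
    have hmon : ∀ (β : Fin 3 →₀ ℕ) (hβ : monomial β (1 : k) ∈ I), φ ⟨monomial β 1, hβ⟩ = 0 := by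
      intro β hβ
      by_cases hp : β 0 < p
      swap
      · refine hdvd _ β hx hβ ?_ h1
        rw [← e3_eta β]
        exact e3_le (not_lt.1 hp) (Nat.zero_le _) (Nat.zero_le _)
      have hh : g (β 0) (β 2) ≤ β 1 := (hg _ _ _).1 (by rw [e3_eta]; exact hβ)
      refine hdvd _ β (mem (β 0) (min (β 2) N)) hβ ?_ (h2 ⟨β 0, hp⟩ ⟨min (β 2) N, by omega⟩)
      conv_rhs => rw [← e3_eta β]
      refine e3_le le_rfl ?_ (min_le_left _ _)
      rcases le_total (β 2) N with h | h
      · rwa [min_eq_left h]
      · rw [min_eq_right h, hB]; exact Nat.zero_le _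
    refine LinearMap.ext fun x => ?_
    have e : x = ∑ β ∈ x.1.support.attach, (coeff β.1 x.1) • (⟨monomial β.1 (1 : k), hI x.1 x.2 β.1 β.2⟩ : ↥I) := by
      apply Subtype.ext
      simp only [AddSubmonoidClass.coe_finsetSum, SetLike.val_smul_of_tower, smul_monomial, smul_eq_mul, mul_one]
      rw [Finset.sum_attach x.1.support fun β => monomial β (coeff β x.1)]
      exact x.1.as_sum
    rw [e, map_sum, LinearMap.zero_apply]
    refine Finset.sum_eq_zero fun β _ => ?_
    rw [LinearMap.map_smul_of_tower, hmon, smul_zero]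
  refine (LinearMap.finrank_le_finrank_of_injective hinj).trans ?_
  rw [Module.finrank_prod, Module.finrank_pi_fintype]
  have hk : ∀ i : Fin p, Module.finrank k (LinearMap.ker (chain (k := k) (B := N) Y Z (g i.val))) ≤
      Module.finrank k M + p * ∑ t : Fin N, g i.val t.val := fun i => by
    have := finrank_ker_le (k := k) (B := N) Y Z (g i.val) u (hanti i.val) (hB i.val) hgen
    rwa [Fintype.card_fin] at this
  have hcount : ∑ i : Fin p, ∑ t : Fin N, g i.val t.val ≤ Module.finrank k M := by
    haveI := (finite_std I hI).fintype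
    rw [finrank_quot I hI]
    calc _ = Fintype.card (Σ i : Fin p, Σ t : Fin N, Fin (g i.val t.val)) := by simp
      _ ≤ _ := by
        let F : (Σ i : Fin p, Σ t : Fin N, Fin (g i.val t.val)) → ↥((exps I)ᶜ) := fun x =>
          ⟨e3 x.1.val x.2.2.val x.2.1.val, fun h => by have := (hg _ _ _).1 h; have := x.2.2.isLt; simp only [g] at this; omega⟩
        refine Fintype.card_le_of_injective F ?_
        rintro ⟨i, t, a⟩ ⟨i', t', a'⟩ h
        have h' : e3 i.val a.val t.val = e3 i'.val a'.val t'.val := congrArg Subtype.val h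
        have h0 := DFunLike.congr_fun h' 0
        have h1 := DFunLike.congr_fun h' 1
        have h2 := DFunLike.congr_fun h' 2
        simp [e3, Fin.val_inj] at h0 h1 h2
        subst h0 h2
        obtain rfl := Fin.ext h1
        rfl
  have hsum := Finset.sum_le_sum fun i (_ : i ∈ Finset.univ) => hk i
  rw [Finset.sum_add_distrib, ← Finset.mul_sum, Finset.sum_const, Finset.card_univ, Fintype.card_fin, smul_eq_mul] at hsum
  have := Nat.mul_le_mul_left p hcount
  show _ ≤ (2 * p + 1) * Module.finrank k M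
  rw [add_mul, one_mul, mul_assoc, two_mul]
  omega

theorem finrank_Tgt_mPow_ge (r : ℕ) (d : ℕ) (hd : d ≤ T3 r) :
    2 * Module.finrank k (Tgt (mPow (k := k) r)) ≥ 3 * (r + 1) * d := by
  rw [(sig_mPow_all (k := k) r 0).2.2]
  have h2 : ∀ n, 2 * T2 n = n * (n + 1) := fun n => by
    induction n with
    | zero => rfl
    | succ n ih => rw [T2_succ]; linarith
  have h3 : 6 * T3 r = r * (r + 1) * (r + 2) := by
    induction r generalizing d with
    | zero => rfl
    | succ n ih => rw [T3_succ]; have := h2 (n + 1); have := ih 0 (Nat.zero_le _); nlinarith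
  have a := h2 r
  have b := h2 (r + 1)
  simp only [T2] at a b
  rw [show r + 1 + 1 = r + 2 by ring] at b
  have : 3 * (r + 1) * d ≤ 3 * (r + 1) * T3 r := Nat.mul_le_mul_left _ hd
  nlinarith

end HilbTgtLib.Layer
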