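import Groth.Prelude.Def_W4c1hilbpnTgt
import Mathlib.LinearAlgebra.Dimension.Finite
import Mathlib.LinearAlgebra.FiniteDimensional.Basic
import Mathlib.LinearAlgebra.Dimension.Constructions

/-! Graded pieces of the tangent module of a monomial ideal via components of the region. -/

namespace HilbTgtLib
open MvPolynomial W4c1hilbpn

variable {σ : Type*} [Fintype σ] {k : Type*} [Field k] (I : Ideal (MvPolynomial σ k)) (α : σ → ℤ)

noncomputable def ofZ (γ : σ → ℤ) : σ →₀ ℕ := Finsupp.equivFunOnFinite.symm fun i => (γ i).toNat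

def toZ (β : σ →₀ ℕ) : σ → ℤ := fun i => (β i : ℤ)

@[simp] theorem ofZ_apply (γ : σ → ℤ) (i : σ) : ofZ γ i = (γ i).toNat := by simp [ofZ]

theorem ofZ_add_single [DecidableEq σ] {γ : σ → ℤ} (h : ∀ i, 0 ≤ γ i) (i : σ) :
    ofZ (γ + Pi.single i 1) = ofZ γ + Finsupp.single i 1 := by
  ext j
  rcases eq_or_ne j i with rfl | hne
  · simp [Int.toNat_add (h j) zero_le_one]
  · simp [hne, hne.symm]

theorem shift_eq (β : σ →₀ ℕ) : shift β α = ofZ (toZ β + α) := rfl

theorem exps_add_single {β : σ →₀ ℕ} (hβ : β ∈ exps I) (i : σ) : β + Finsupp.single i 1 ∈ exps I := by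
  show monomial (β + Finsupp.single i 1) (1 : k) ∈ I
  rw [add_comm, ← one_mul (1 : k), ← monomial_mul]
  exact I.mul_mem_left _ hβ

theorem exps_mono {β γ : σ →₀ ℕ} (hβ : β ∈ exps I) (h : β ≤ γ) : γ ∈ exps I := by
  show monomial γ (1 : k) ∈ I
  rw [← add_tsub_cancel_of_le h, add_comm, ← one_mul (1 : k), ← monomial_mul]
  exact I.mul_mem_left _ hβ

/-- the coefficient of a standard monomial on the quotient -/
noncomputable def qcoeff (hI : IsMonomial I) (γ : σ →₀ ℕ) (hγ : γ ∉ exps I) : (MvPolynomial σ k ⧸ I) →ₗ[k] k :=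
  (Submodule.liftQ (I.restrictScalars k) (lcoeff k γ) fun p hp => by
    by_contra h
    exact hγ (hI p hp γ (mem_support_iff.2 h))).comp (Submodule.Quotient.restrictScalarsEquiv k I).symm.toLinearMap

theorem qcoeff_mk (hI : IsMonomial I) (γ : σ →₀ ℕ) (hγ : γ ∉ exps I) (p : MvPolynomial σ k) :
    qcoeff I hI γ hγ (Ideal.Quotient.mk I p) = coeff γ p := rfl

theorem ksmul_mul (a : k) (x y : MvPolynomial σ k ⧸ I) : x * a • y = a • (x * y) := by
  obtain ⟨x, rfl⟩ := Ideal.Quotient.mk_surjective x
  obtain ⟨y, rfl⟩ := Ideal.Quotient.mk_surjective y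
  show Ideal.Quotient.mk I x * Ideal.Quotient.mk I (a • y) = Ideal.Quotient.mk I (a • (x * y))
  rw [← map_mul, mul_smul_comm]

theorem smul_quot (s : MvPolynomial σ k) (x : MvPolynomial σ k ⧸ I) : s • x = Ideal.Quotient.mk I s * x := by
  obtain ⟨x, rfl⟩ := Ideal.Quotient.mk_surjective x
  rfl

theorem ksmul_quot (a : k) (x : MvPolynomial σ k ⧸ I) : a • x = Ideal.Quotient.mk I (C a) * x := by
  obtain ⟨x, rfl⟩ := Ideal.Quotient.mk_surjective x
  show Ideal.Quotient.mk I (a • x) = Ideal.Quotient.mk I (C a * x)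
  rw [MvPolynomial.smul_eq_C_mul]

theorem adj_iff [DecidableEq σ] {a b : σ → ℤ} (h : (stepGraph σ).Adj a b) :
    ∃ i, b = a + Pi.single i 1 ∨ a = b + Pi.single i 1 := by
  have hs : ∑ i, |a i - b i| = 1 := by
    rcases h.2 with h | h
    · exact h
    · rw [← h]; exact Finset.sum_congr rfl fun i _ => abs_sub_comm _ _
  obtain ⟨i, -, hi⟩ := Finset.exists_ne_zero_of_sum_ne_zero (by rw [hs]; exact one_ne_zero : ∑ i, |a i - b i| ≠ 0)
  have hle : ∀ j, j ≠ i → a j = b j := by
    intro j hj
    have : |a i - b i| + |a j - b j| ≤ 1 := by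
      rw [← hs, ← Finset.sum_pair (f := fun t => |a t - b t|) hj.symm]
      exact Finset.sum_le_sum_of_subset_of_nonneg (Finset.subset_univ _) fun _ _ _ => abs_nonneg _
    have h1 : 0 < |a i - b i| := abs_pos.2 (abs_ne_zero.1 hi)
    have h2 : |a j - b j| = 0 := by have := abs_nonneg (a j - b j); omega
    exact sub_eq_zero.1 (abs_eq_zero.1 h2)
  have h1 : |a i - b i| = 1 := by
    rw [← hs, Finset.sum_eq_single i (fun j _ hj => by simp [hle j hj]) (by simp)]
  rcases (abs_eq zero_le_one).1 h1 with h1 | h1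
  · refine ⟨i, Or.inr (funext fun j => ?_)⟩
    rcases eq_or_ne j i with rfl | hne
    · simp; omega
    · simp [hne, hle j hne]
  · refine ⟨i, Or.inl (funext fun j => ?_)⟩
    rcases eq_or_ne j i with rfl | hne
    · simp; omega
    · simp [hne, hle j hne]

theorem adj_single [DecidableEq σ] (a : σ → ℤ) (i : σ) : (stepGraph σ).Adj a (a + Pi.single i 1) := by
  refine ⟨fun e => by simpa using congrFun e i, Or.inl ?_⟩
  dsimp only
  rw [Finset.sum_eq_single i (fun j _ hj => by simp [hj]) (by simp)]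
  simp

theorem region_iff {γ : σ → ℤ} : γ ∈ region I α ↔
    ((∀ i, α i ≤ γ i) ∧ ofZ (γ - α) ∈ exps I) ∧ ¬ ((∀ i, 0 ≤ γ i) ∧ ofZ γ ∈ exps I) := by
  constructor
  · rintro ⟨⟨β, hβ, rfl⟩, h⟩
    refine ⟨⟨fun i => by simp, ?_⟩, h⟩
    convert hβ
    ext i; simp
  · rintro ⟨⟨h1, h2⟩, h⟩
    refine ⟨⟨_, h2, funext fun i => ?_⟩, h⟩
    simp [Int.toNat_of_nonneg (sub_nonneg.2 (h1 i))]

theorem toZ_ofZ_sub {γ : σ → ℤ} (h : ∀ i, α i ≤ γ i) : toZ (ofZ (γ - α)) + α = γ := by
  funext i
  simp [toZ, Int.toNat_of_nonneg (sub_nonneg.2 (h i))]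

/-- components all of whose points are nonnegative -/
abbrev PosComp : Type _ :=
  {c : ((stepGraph σ).induce (region I α)).ConnectedComponent // ∀ γ ∈ c.supp, ∀ i, 0 ≤ γ.1 i}

open Classical in
noncomputable def extFun (f : PosComp I α → k) (γ : σ → ℤ) : k :=
  if h : γ ∈ region I α then
    if h' : ∀ δ ∈ (((stepGraph σ).induce (region I α)).connectedComponentMk ⟨γ, h⟩).supp, ∀ i, 0 ≤ δ.1 i then
      f ⟨_, h'⟩ else 0
  else 0

theorem extFun_eq_zero_of_neg (f : PosComp I α → k) {γ : σ → ℤ} {i : σ} (h : γ i < 0) : extFun I α f γ = 0 := by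
  unfold extFun
  split_ifs with h1 h2
  · exact absurd (h2 ⟨γ, h1⟩ rfl i) (not_le.2 h)
  · rfl
  · rfl

theorem extFun_eq_of_comp (f : PosComp I α → k) {γ δ : σ → ℤ} (hγ : γ ∈ region I α) (hδ : δ ∈ region I α)
    (he : ((stepGraph σ).induce (region I α)).connectedComponentMk ⟨γ, hγ⟩ =
      ((stepGraph σ).induce (region I α)).connectedComponentMk ⟨δ, hδ⟩) : extFun I α f γ = extFun I α f δ := by
  classical
  unfold extFun
  rw [dif_pos hγ, dif_pos hδ]
  simp only [he]

open Classical in
/-- the k-linear map on all of S attached to a function on positive components -/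
noncomputable def psi (f : PosComp I α → k) : MvPolynomial σ k →ₗ[k] MvPolynomial σ k ⧸ I :=
  (basisMonomials σ k).constr k fun β =>
    if (∀ i, 0 ≤ toZ β i + α i) then extFun I α f (toZ β + α) • Ideal.Quotient.mk I (monomial (shift β α) 1) else 0

open Classical in
theorem psi_monomial (f : PosComp I α → k) (β : σ →₀ ℕ) : psi I α f (monomial β 1) =
    if (∀ i, 0 ≤ toZ β i + α i) then extFun I α f (toZ β + α) • Ideal.Quotient.mk I (monomial (shift β α) 1) else 0 := by
  have : (monomial β (1 : k)) = basisMonomials σ k β := by simp [coe_basisMonomials]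
  rw [psi, this, Module.Basis.constr_basis]

theorem psi_X_mul_monomial [DecidableEq σ] (f : PosComp I α → k) {β : σ →₀ ℕ} (hβ : β ∈ exps I) (i : σ) :
    psi I α f (X i * monomial β 1) = Ideal.Quotient.mk I (X i) * psi I α f (monomial β 1) := by
  classical
  have e : X i * monomial β (1 : k) = monomial (β + Finsupp.single i 1) 1 := by
    rw [X, monomial_mul, one_mul, add_comm]
  rw [e, psi_monomial, psi_monomial]
  have etz : toZ (β + Finsupp.single i 1) + α = toZ β + α + Pi.single i 1 := by
    funext j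
    rcases eq_or_ne j i with rfl | hne
    · simp [toZ]; ring
    · simp [toZ, hne, hne.symm]
  by_cases h0 : ∀ j, 0 ≤ toZ β j + α j
  · have h1 : ∀ j, 0 ≤ toZ (β + Finsupp.single i 1) j + α j := fun j => by
      have := h0 j; simp only [toZ, Finsupp.add_apply, Nat.cast_add] at this ⊢; omega
    rw [if_pos h0, if_pos h1, ksmul_mul, ← map_mul]
    have es : X i * monomial (shift β α) (1 : k) = monomial (shift (β + Finsupp.single i 1) α) 1 := by
      rw [shift_eq, shift_eq, etz, ofZ_add_single (γ := toZ β + α) h0, X, monomial_mul, one_mul, add_comm]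
    rw [es]
    by_cases hm : shift (β + Finsupp.single i 1) α ∈ exps I
    · rw [Ideal.Quotient.eq_zero_iff_mem.2 hm, smul_zero, smul_zero]
    · have hr1 : toZ β + α + Pi.single i 1 ∈ region I α := by
        rw [← etz]
        exact ⟨⟨_, exps_add_single I hβ i, rfl⟩, fun h => hm h.2⟩
      have hr0 : toZ β + α ∈ region I α := ⟨⟨_, hβ, rfl⟩, fun h => hm (by
        rw [shift_eq, etz, ofZ_add_single (γ := toZ β + α) h0]
        exact exps_add_single I h.2 i)⟩
      rw [etz, extFun_eq_of_comp I α f hr0 hr1 (SimpleGraph.ConnectedComponent.connectedComponentMk_eq_of_adj (by exact adj_single _ i))]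
  · rw [if_neg h0, mul_zero]
    split_ifs with h1
    · obtain ⟨j, hj⟩ := not_forall.1 h0
      by_cases hm : shift (β + Finsupp.single i 1) α ∈ exps I
      · rw [Ideal.Quotient.eq_zero_iff_mem.2 hm, smul_zero]
      · have hr1 : toZ β + α + Pi.single i 1 ∈ region I α := by
          rw [← etz]
          exact ⟨⟨_, exps_add_single I hβ i, rfl⟩, fun h => hm h.2⟩
        have hr0 : toZ β + α ∈ region I α := ⟨⟨_, hβ, rfl⟩, fun h => hj (h.1 j)⟩
        rw [etz, ← extFun_eq_of_comp I α f hr0 hr1 (SimpleGraph.ConnectedComponent.connectedComponentMk_eq_of_adj (by exact adj_single _ i)),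
          extFun_eq_zero_of_neg I α f (i := j) (by simpa using not_le.1 hj), zero_smul]
    · rfl

theorem psi_X_mul [DecidableEq σ] (hI : IsMonomial I) (f : PosComp I α → k) {p : MvPolynomial σ k} (hp : p ∈ I) (i : σ) :
    psi I α f (X i * p) = Ideal.Quotient.mk I (X i) * psi I α f p := by
  conv_lhs => rw [p.as_sum, Finset.mul_sum, map_sum]
  conv_rhs => rw [p.as_sum, map_sum, Finset.mul_sum]
  refine Finset.sum_congr rfl fun β hβ => ?_
  rw [show monomial β (coeff β p) = coeff β p • monomial β (1 : k) by rw [smul_monomial, smul_eq_mul, mul_one],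
    Algebra.mul_smul_comm, map_smul, map_smul, psi_X_mul_monomial I α f (hI p hp β hβ), ksmul_mul]

theorem psi_mul [DecidableEq σ] (hI : IsMonomial I) (f : PosComp I α → k) (s : MvPolynomial σ k) :
    ∀ {p : MvPolynomial σ k}, p ∈ I → psi I α f (s * p) = Ideal.Quotient.mk I s * psi I α f p := by
  induction s using MvPolynomial.induction_on with
  | C a => intro p _; rw [← ksmul_quot, ← MvPolynomial.smul_eq_C_mul, map_smul]
  | add s t hs ht => intro p hp; rw [add_mul, map_add, map_add, add_mul, hs hp, ht hp]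
  | mul_X s i hs =>
    intro p hp
    rw [mul_assoc, hs (I.mul_mem_left _ hp), psi_X_mul I α hI f hp, map_mul, mul_assoc]

noncomputable def toTgt (hI : IsMonomial I) (f : PosComp I α → k) : Tgt I where
  toFun p := psi I α f p.1
  map_add' p q := by simp
  map_smul' s p := by
    classical
    simp only [SetLike.val_smul, smul_eq_mul, RingHom.id_apply]
    rw [psi_mul I α hI f s p.2, smul_quot]

theorem toTgt_monomial (hI : IsMonomial I) (f : PosComp I α → k) (β : σ →₀ ℕ) (hβ : monomial β (1 : k) ∈ I) :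
    toTgt I α hI f ⟨monomial β 1, hβ⟩ = psi I α f (monomial β 1) := rfl

theorem toTgt_mem (hI : IsMonomial I) (f : PosComp I α → k) : toTgt I α hI f ∈ tPiece I α := by
  classical
  intro β hβ
  rw [toTgt_monomial, psi_monomial]
  refine ⟨fun h => ?_, fun h => ?_⟩
  · rw [if_pos (show ∀ i, 0 ≤ toZ β i + α i from h)]
    exact Submodule.smul_mem _ _ (Submodule.subset_span rfl)
  · rw [if_neg fun h' => let ⟨i, hi⟩ := h; absurd (h' i) (not_le.2 hi)]

open Classical in
/-- the coefficient function of an element of the piece -/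
noncomputable def coeffFun (hI : IsMonomial I) (φ : Tgt I) (γ : σ → ℤ) : k :=
  if h : γ ∈ region I α ∧ ∀ i, 0 ≤ γ i then
    qcoeff I hI (ofZ γ) (fun hm => ((region_iff I α).1 h.1).2 ⟨h.2, hm⟩)
      (φ ⟨monomial (ofZ (γ - α)) 1, ((region_iff I α).1 h.1).1.2⟩)
  else 0

theorem coeffFun_spec (hI : IsMonomial I) {φ : Tgt I} (hφ : φ ∈ tPiece I α) {γ : σ → ℤ} (hr : γ ∈ region I α)
    (h0 : ∀ i, 0 ≤ γ i) :
    φ ⟨monomial (ofZ (γ - α)) 1, ((region_iff I α).1 hr).1.2⟩ =
      coeffFun I α hI φ γ • Ideal.Quotient.mk I (monomial (ofZ γ) 1) := by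
  classical
  obtain ⟨⟨hle, -⟩, hout⟩ := (region_iff I α).1 hr
  have e := toZ_ofZ_sub α hle
  obtain ⟨a, ha⟩ := Submodule.mem_span_singleton.1 ((hφ (ofZ (γ - α)) ((region_iff I α).1 hr).1.2).1
    (fun i => by have := congrFun e i; simp only [Pi.add_apply, toZ] at this; rw [this]; exact h0 i))
  rw [shift_eq, e] at ha
  rw [coeffFun, dif_pos ⟨hr, h0⟩, ← ha]
  congr 1
  rw [map_smul, qcoeff_mk]
  simp

theorem coeffFun_step [DecidableEq σ] (hI : IsMonomial I) {φ : Tgt I} (hφ : φ ∈ tPiece I α) {γ : σ → ℤ} {i : σ}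
    (h0 : γ ∈ region I α) (h1 : γ + Pi.single i 1 ∈ region I α) :
    coeffFun I α hI φ (γ + Pi.single i 1) = coeffFun I α hI φ γ := by
  classical
  by_cases hp1 : ∀ j, 0 ≤ (γ + Pi.single i 1 : σ → ℤ) j
  swap
  · rw [coeffFun, dif_neg fun h => hp1 h.2, coeffFun, dif_neg fun h => hp1 fun j => ?_]
    have := h.2 j
    rcases eq_or_ne j i with rfl | hne
    · simp; omega
    · simpa [hne] using this
  obtain ⟨⟨hle, hβ⟩, -⟩ := (region_iff I α).1 h0
  have hout : ofZ (γ + Pi.single i 1) ∉ exps I := fun h => ((region_iff I α).1 h1).2 ⟨hp1, h⟩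
  have eβ : ofZ (γ + Pi.single i 1 - α) = ofZ (γ - α) + Finsupp.single i 1 := by
    rw [add_sub_right_comm, ofZ_add_single (γ := γ - α) fun j => sub_nonneg.2 (hle j)]
  have hmul : φ ⟨monomial (ofZ (γ + Pi.single i 1 - α)) 1, ((region_iff I α).1 h1).1.2⟩ =
      (X i : MvPolynomial σ k) • φ ⟨monomial (ofZ (γ - α)) 1, hβ⟩ := by
    rw [← map_smul]
    congr 1
    apply Subtype.ext
    simp only [SetLike.val_smul, smul_eq_mul]
    rw [eβ, X, monomial_mul, one_mul, add_comm]
  rw [coeffFun_spec I α hI hφ h1 hp1] at hmul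
  by_cases hp0 : ∀ j, 0 ≤ γ j
  · rw [coeffFun_spec I α hI hφ h0 hp0, smul_quot, ksmul_mul, ← map_mul] at hmul
    have := congrArg (qcoeff I hI _ hout) hmul
    rw [map_smul, map_smul, qcoeff_mk, qcoeff_mk, X, monomial_mul, one_mul,
      show Finsupp.single i 1 + ofZ γ = ofZ (γ + Pi.single i 1) by rw [ofZ_add_single hp0, add_comm]] at this
    simpa using this
  · have hz : φ ⟨monomial (ofZ (γ - α)) 1, hβ⟩ = 0 := by
      refine (hφ _ hβ).2 ?_
      obtain ⟨j, hj⟩ := not_forall.1 hp0
      exact ⟨j, by have := congrFun (toZ_ofZ_sub α hle) j; simp only [Pi.add_apply, toZ] at this; omega⟩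
    rw [hz, smul_zero] at hmul
    have := congrArg (qcoeff I hI _ hout) hmul
    rw [map_smul, qcoeff_mk, map_zero] at this
    rw [show coeffFun I α hI φ γ = 0 by rw [coeffFun, dif_neg fun h => hp0 h.2]]
    simpa using this

theorem coeffFun_const (hI : IsMonomial I) {φ : Tgt I} (hφ : φ ∈ tPiece I α) {γ δ : region I α}
    (h : ((stepGraph σ).induce (region I α)).Reachable γ δ) :
    coeffFun I α hI φ γ.1 = coeffFun I α hI φ δ.1 := by
  classical
  obtain ⟨p⟩ := h
  induction p with
  | nil => rfl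
  | @cons a b c hab p ih =>
    refine Eq.trans ?_ ih
    obtain ⟨i, hi | hi⟩ := adj_iff (σ := σ) (a := a.1) (b := b.1) hab
    · rw [hi, coeffFun_step I α hI hφ a.2 (by rw [← hi]; exact b.2)]
    · rw [hi, coeffFun_step I α hI hφ b.2 (by rw [← hi]; exact a.2)]

/-- The graded piece is the space of functions on the nonnegative components. -/
noncomputable def pieceEquiv (hI : IsMonomial I) : ↥(tPiece I α) ≃ₗ[k] (PosComp I α → k) where
  toFun φ c := coeffFun I α hI φ.1 c.1.exists_rep.choose.1
  map_add' φ ψ := by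
    funext c
    simp only [Pi.add_apply, coeffFun]
    split_ifs with h
    · simp
    · simp
  map_smul' a φ := by
    funext c
    simp only [Pi.smul_apply, coeffFun, RingHom.id_apply]
    split_ifs with h
    · simp
    · simp
  invFun f := ⟨toTgt I α hI f, toTgt_mem I α hI f⟩
  left_inv φ := by
    classical
    apply Subtype.ext
    apply LinearMap.ext
    rintro ⟨p, hp⟩
    show psi I α _ p = φ.1 ⟨p, hp⟩
    have hsum : (⟨p, hp⟩ : I) = ∑ β ∈ p.support.attach, (C (coeff β.1 p) : MvPolynomial σ k) • (⟨monomial β.1 1, hI p hp β.1 β.2⟩ : I) := by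
      apply Subtype.ext
      simp only [AddSubmonoidClass.coe_finsetSum, SetLike.val_smul, smul_eq_mul, C_mul_monomial, mul_one]
      rw [Finset.sum_attach p.support fun β => monomial β (coeff β p)]
      exact p.as_sum
    rw [hsum, map_sum]
    conv_lhs => rw [p.as_sum, map_sum, ← Finset.sum_attach]
    refine Finset.sum_congr rfl fun β _ => ?_
    obtain ⟨β, hβs⟩ := β
    have hβ : monomial β (1 : k) ∈ I := hI p hp β hβs
    rw [map_smul, show monomial β (coeff β p) = coeff β p • monomial β (1 : k) by rw [smul_monomial, smul_eq_mul, mul_one],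
      map_smul, ← algebraMap_eq, algebraMap_smul, psi_monomial]
    congr 1
    by_cases h0 : ∀ i, 0 ≤ toZ β i + α i
    · rw [if_pos h0]
      by_cases hm : shift β α ∈ exps I
      · obtain ⟨a, ha⟩ := Submodule.mem_span_singleton.1 ((φ.2 β hβ).1 h0)
        rw [← ha, Ideal.Quotient.eq_zero_iff_mem.2 hm, smul_zero, smul_zero]
      · have hr : toZ β + α ∈ region I α := ⟨⟨β, hβ, rfl⟩, fun h => hm h.2⟩
        have eb : ofZ (toZ β + α - α) = β := by ext i; simp [toZ]
        have hs := coeffFun_spec I α hI φ.2 hr h0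
        simp only [eb] at hs
        rw [hs, shift_eq]
        congr 1
        unfold extFun
        rw [dif_pos hr]
        set c := ((stepGraph σ).induce (region I α)).connectedComponentMk ⟨toZ β + α, hr⟩ with hc
        split_ifs with hpos
        · exact coeffFun_const I α hI φ.2 (δ := ⟨toZ β + α, hr⟩) (SimpleGraph.ConnectedComponent.exact c.exists_rep.choose_spec)
        · push_neg at hpos
          obtain ⟨δ, hδ, i, hi⟩ := hpos
          rw [coeffFun_const I α hI φ.2 (SimpleGraph.ConnectedComponent.exact ((SimpleGraph.ConnectedComponent.mem_supp_iff _ _).1 hδ)).symm, coeffFun, dif_neg fun h => absurd (h.2 i) (not_le.2 hi)]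
    · rw [if_neg h0]
      obtain ⟨i, hi⟩ := not_forall.1 h0
      exact ((φ.2 β hβ).2 ⟨i, not_le.1 hi⟩).symm
  right_inv f := by
    classical
    funext c
    set γ := c.1.exists_rep.choose with hγ
    have hc : ((stepGraph σ).induce (region I α)).connectedComponentMk γ = c.1 := c.1.exists_rep.choose_spec
    have h0 : ∀ i, 0 ≤ γ.1 i := c.2 γ ((SimpleGraph.ConnectedComponent.mem_supp_iff _ _).2 hc)
    obtain ⟨⟨hle, hβ⟩, hout⟩ := (region_iff I α).1 γ.2
    have e := toZ_ofZ_sub α hle
    show coeffFun I α hI (toTgt I α hI f) γ.1 = f c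
    rw [coeffFun, dif_pos ⟨γ.2, h0⟩, toTgt_monomial, psi_monomial,
      if_pos (fun i => by have := congrFun e i; simp only [Pi.add_apply] at this; rw [this]; exact h0 i),
      shift_eq, e, map_smul, qcoeff_mk]
    have : ((stepGraph σ).induce (region I α)).connectedComponentMk ⟨γ.1, γ.2⟩ = c.1 := hc
    rw [extFun, dif_pos γ.2, dif_pos (by rw [this]; exact c.2)]
    simp [this]

theorem finrank_piece [Finite (PosComp I α)] (hI : IsMonomial I) :
    Module.finrank k ↥(tPiece I α) = Nat.card (PosComp I α) := by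
  haveI := Fintype.ofFinite (PosComp I α)
  rw [(pieceEquiv I α hI).finrank_eq, Module.finrank_fintype_fun_eq_card, Nat.card_eq_fintype_card]

theorem finite_std [Module.Finite k (MvPolynomial σ k ⧸ I)] (hI : IsMonomial I) : (exps I)ᶜ.Finite := by
  classical
  have hli : LinearIndependent k fun β : ↥((exps I)ᶜ) => Ideal.Quotient.mk I (monomial β.1 (1 : k)) := by
    rw [linearIndependent_iff']
    intro s g hg β hβ
    have := congrArg (qcoeff I hI β.1 β.2) hg
    simpa [map_sum, qcoeff_mk, Finset.sum_ite_eq', hβ, Subtype.val_inj] using this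
  exact Set.finite_coe_iff.1 hli.finite

theorem posComp_iff_finite [Module.Finite k (MvPolynomial σ k ⧸ I)] [Nontrivial σ] (hI : IsMonomial I)
    (c : ((stepGraph σ).induce (region I α)).ConnectedComponent) :
    (∀ γ ∈ c.supp, ∀ i, 0 ≤ γ.1 i) ↔ c.supp.Finite := by
  classical
  constructor
  · intro h
    refine Set.Finite.of_injOn (f := fun γ : region I α => ofZ γ.1) (t := (exps I)ᶜ) (fun γ hγ hm => ((region_iff I α).1 γ.2).2 ⟨h γ hγ, hm⟩) ?_ (finite_std I hI)
    intro γ hγ δ hδ e
    apply Subtype.ext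
    funext i
    have := congrArg (· i) e
    simp only [ofZ_apply] at this
    have := h γ hγ i; have := h δ hδ i
    omega
  · intro hfin γ hγ i
    by_contra hi
    obtain ⟨j, hj⟩ := exists_ne i
    have hmem : ∀ t : ℕ, γ.1 + Pi.single j (t : ℤ) ∈ region I α := by
      intro t
      induction t with
      | zero => simpa using γ.2
      | succ t ih =>
        obtain ⟨⟨β, hβ, he⟩, -⟩ := ih
        refine ⟨⟨β + Finsupp.single j 1, exps_add_single I hβ j, ?_⟩, fun h => hi ?_⟩
        · rw [Nat.cast_add, Nat.cast_one, Pi.single_add, ← add_assoc, he]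
          funext l
          rcases eq_or_ne l j with rfl | hne
          · simp; ring
          · simp [hne, hne.symm]
        · simpa [hj.symm] using h.1 i
    have hconn : ∀ t : ℕ, (⟨_, hmem t⟩ : region I α) ∈ c.supp := by
      intro t
      induction t with
      | zero => convert hγ using 1; exact Subtype.ext (by simp)
      | succ t ih =>
        rw [SimpleGraph.ConnectedComponent.mem_supp_iff] at ih ⊢
        rw [← ih]
        refine (SimpleGraph.ConnectedComponent.connectedComponentMk_eq_of_adj ?_).symm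
        show (stepGraph σ).Adj (γ.1 + Pi.single j (t : ℤ)) (γ.1 + Pi.single j ((t + 1 : ℕ) : ℤ))
        rw [Nat.cast_add, Nat.cast_one, Pi.single_add, ← add_assoc]
        exact adj_single _ j
    exact Set.infinite_range_of_injective (f := fun t : ℕ => (⟨_, hmem t⟩ : region I α)) (fun a b e => by
      have := congrFun (congrArg Subtype.val e) j
      simpa using this) (hfin.subset (Set.range_subset_iff.2 hconn))

theorem finite_posComp [Module.Finite k (MvPolynomial σ k ⧸ I)] (hI : IsMonomial I) : Finite (PosComp I α) := by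
  classical
  haveI := (finite_std I hI).to_subtype
  refine Finite.of_injective (β := ↥((exps I)ᶜ))
    (fun c => ⟨ofZ c.1.exists_rep.choose.1, fun hm => ((region_iff I α).1 c.1.exists_rep.choose.2).2
      ⟨c.2 _ ((SimpleGraph.ConnectedComponent.mem_supp_iff _ _).2 c.1.exists_rep.choose_spec), hm⟩⟩) fun c d e => ?_
  apply Subtype.ext
  rw [← c.1.exists_rep.choose_spec, ← d.1.exists_rep.choose_spec]
  congr 1
  apply Subtype.ext
  funext i
  have := congrArg (· i) (congrArg Subtype.val e)
  simp only [ofZ_apply] at this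
  have := c.2 _ ((SimpleGraph.ConnectedComponent.mem_supp_iff _ _).2 c.1.exists_rep.choose_spec) i
  have := d.2 _ ((SimpleGraph.ConnectedComponent.mem_supp_iff _ _).2 d.1.exists_rep.choose_spec) i
  omega

theorem finrank_piece_eq_nBddComp [Module.Finite k (MvPolynomial σ k ⧸ I)] [Nontrivial σ] (hI : IsMonomial I) :
    Module.finrank k ↥(tPiece I α) = nBddComp I α := by
  haveI := finite_posComp I α hI
  rw [finrank_piece I α hI, nBddComp]
  exact Nat.card_congr (Equiv.subtypeEquivRight (posComp_iff_finite I α hI))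

end HilbTgtLib
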