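import Groth.Agent.HilbTgtLib.Duality

/-! Sign pattern pieces in three variables. -/

namespace HilbTgtLib
open MvPolynomial W4c1hilbpn

section Quot
variable {σ : Type*} [Fintype σ] {k : Type*} [Field k] (I : Ideal (MvPolynomial σ k))

theorem finrank_quot [Module.Finite k (MvPolynomial σ k ⧸ I)] (hI : IsMonomial I) [Fintype ↥((exps I)ᶜ)] :
    Module.finrank k (MvPolynomial σ k ⧸ I) = Fintype.card ↥((exps I)ᶜ) := by
  classical
  have hli : LinearIndependent k fun β : ↥((exps I)ᶜ) => Ideal.Quotient.mk I (monomial β.1 (1 : k)) := by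
    rw [linearIndependent_iff']
    intro t g hg β hβ
    have := congrArg (qcoeff I hI β.1 β.2) hg
    simpa [map_sum, qcoeff_mk, Finset.sum_ite_eq', hβ, Subtype.val_inj] using this
  refine Module.finrank_eq_card_basis (Module.Basis.mk hli fun x _ => ?_)
  obtain ⟨p, rfl⟩ := Ideal.Quotient.mk_surjective x
  rw [p.as_sum, map_sum]
  refine Submodule.sum_mem _ fun β _ => ?_
  by_cases hβ : β ∈ exps I
  · rw [Ideal.Quotient.eq_zero_iff_mem.2]
    · exact zero_mem _
    · rw [show monomial β (coeff β p) = C (coeff β p) * monomial β 1 by rw [C_mul_monomial, mul_one]]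
      exact I.mul_mem_left _ hβ
  · rw [show monomial β (coeff β p) = C (coeff β p) * monomial β 1 by rw [C_mul_monomial, mul_one], map_mul,
      ← ksmul_quot]
    exact Submodule.smul_mem _ _ (Submodule.subset_span ⟨⟨β, hβ⟩, rfl⟩)

end Quot

variable {k : Type*} [Field k] (I : Ideal (MvPolynomial (Fin 3) k)) (s : Equiv.Perm (Fin 3))
  [Module.Finite k (MvPolynomial (Fin 3) k ⧸ I)] (hI : IsMonomial I)

include hI in
theorem sum_stair (B : Finset Plane.Pt) (hB : ∀ P, stair I s P ≠ 0 → P ∈ B) :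
    ∑ P ∈ B, stair I s P = Module.finrank k (MvPolynomial (Fin 3) k ⧸ I) := by
  classical
  haveI := (finite_std I hI).to_subtype
  haveI := Fintype.ofFinite ↥((exps I)ᶜ)
  rw [finrank_quot I hI, ← Set.toFinset_card]
  let S : Finset (Σ _ : Plane.Pt, ℕ) := B.sigma fun P => Finset.range (stair I s P)
  have hS : S.card = ∑ P ∈ B, stair I s P := by simp [S]
  rw [← hS]
  refine Finset.card_bij (fun x _ => e3' s x.1.1 x.1.2 x.2) ?_ ?_ ?_
  · intro x hx
    simp only [S, Finset.mem_sigma, Finset.mem_range] at hx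
    rw [Set.mem_toFinset]
    exact fun h => absurd hx.2 (not_lt.2 ((mem_exps_iff I s hI _ _ _).1 h))
  · intro x _ y _ h
    have h0 := congrArg (· (s.symm 0)) h
    have h1 := congrArg (· (s.symm 1)) h
    have h2 := congrArg (· (s.symm 2)) h
    simp [e3'] at h0 h1 h2
    obtain ⟨⟨a, b⟩, c⟩ := x
    obtain ⟨⟨a', b'⟩, c'⟩ := y
    simp_all
  · intro β hβ
    rw [Set.mem_toFinset] at hβ
    have e : e3' s (β (s.symm 0)) (β (s.symm 1)) (β (s.symm 2)) = β := by
      ext l
      obtain ⟨l, rfl⟩ := s.symm.surjective l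
      fin_cases l <;> simp [e3']
    have hlt : β (s.symm 2) < stair I s (β (s.symm 0), β (s.symm 1)) := by
      by_contra hh
      exact hβ (e ▸ (mem_exps_iff I s hI _ _ _).2 (not_lt.1 hh))
    exact ⟨⟨(β (s.symm 0), β (s.symm 1)), β (s.symm 2)⟩,
      Finset.mem_sigma.2 ⟨hB _ (Nat.pos_iff_ne_zero.1 (lt_of_le_of_lt (Nat.zero_le _) hlt)), Finset.mem_range.2 hlt⟩, e⟩

theorem ite_irrel {α : Type*} {c : Prop} {i j : Decidable c} (a b : α) : @ite α c i a b = @ite α c j a b := by
  congr

theorem perm_cover (l : Fin 3) : l = s.symm 0 ∨ l = s.symm 1 ∨ l = s.symm 2 := by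
  obtain ⟨l, rfl⟩ := s.symm.surjective l
  fin_cases l <;> simp

include hI in
open Classical in
theorem finrank_sigPiece_eq (N : Set (Fin 3)) [Fintype (degSet I)] :
    Module.finrank k ↥(sigPiece I N) = ∑ a : degSet I,
      if (∀ l, a.1 l < 0 ↔ l ∈ N) then Module.finrank k ↥(tPiece I a.1) else 0 := by
  classical
  refine (finrank_iSup_tPiece I hI fun α => ∀ l, α l < 0 ↔ l ∈ N).trans ?_
  congr! 2

include hI in
theorem finrank_sigPiece_dual :
    Module.finrank k ↥(sigPiece I {s.symm 2}) =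
      Module.finrank k ↥(sigPiece I ({s.symm 2}ᶜ : Set (Fin 3))) + Module.finrank k (MvPolynomial (Fin 3) k ⧸ I) := by
  classical
  haveI := (finite_degSet I hI).to_subtype
  haveI := Fintype.ofFinite (degSet I)
  let N : ℕ := (Finset.univ : Finset (degSet I)).sup (fun a => Finset.univ.sup fun l => (a.1 l).natAbs) +
    (stair_support I s hI).toFinset.sup (fun P => max P.1 P.2) + 1
  let B : Finset Plane.Pt := Finset.range N ×ˢ Finset.range N
  have hNa : ∀ (x : degSet I) l, (x.1 l).natAbs < N := fun x l => by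
    have h1 := Finset.le_sup (f := fun l => (x.1 l).natAbs) (Finset.mem_univ l)
    have h2 := Finset.le_sup (f := fun a : degSet I => Finset.univ.sup fun l => (a.1 l).natAbs) (Finset.mem_univ x)
    simp only [N] at *
    omega
  have hB : ∀ P, stair I s P ≠ 0 → P ∈ B := fun P hP => by
    have := Finset.le_sup (f := fun P : Plane.Pt => max P.1 P.2) ((stair_support I s hI).mem_toFinset.2 hP)
    simp only [B, N, Finset.mem_product, Finset.mem_range] at *
    omega
  have hsum : ∑ P ∈ B, Module.finrank k ↥(⨆ α : {α : Fin 3 → ℤ // α (s.symm 0) = (P.1 : ℤ) ∧ α (s.symm 1) = (P.2 : ℤ)}, tPiece I α.1) =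
      ∑ P ∈ B, (stair I s P + Module.finrank k ↥(⨆ α : {α : Fin 3 → ℤ // α (s.symm 0) = -(P.1 : ℤ) - 1 ∧ α (s.symm 1) = -(P.2 : ℤ) - 1}, tPiece I α.1)) :=
    Finset.sum_congr rfl fun P _ => finrank_axis_sum I s hI P.1 P.2
  simp only [finrank_iSup_tPiece I hI] at hsum
  rw [Finset.sum_add_distrib, sum_stair I s hI B hB, Finset.sum_comm] at hsum
  rw [Finset.sum_comm] at hsum
  rw [finrank_sigPiece_eq I hI, finrank_sigPiece_eq I hI]
  rw [Finset.sum_comm (s := B)] at hsum
  conv at hsum => rhs; arg 2; rw [Finset.sum_comm]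
  have hne01 : s.symm 0 ≠ s.symm 2 := fun h => absurd (s.symm.injective h) (by decide)
  have hne12 : s.symm 1 ≠ s.symm 2 := fun h => absurd (s.symm.injective h) (by decide)
  have hleft : ∀ x : degSet I,
      (if (∀ l, x.1 l < 0 ↔ l ∈ ({s.symm 2} : Set (Fin 3))) then Module.finrank k ↥(tPiece I x.1) else 0) =
      ∑ P ∈ B, (if x.1 (s.symm 0) = (P.1 : ℤ) ∧ x.1 (s.symm 1) = (P.2 : ℤ) then Module.finrank k ↥(tPiece I x.1) else 0) := by
    intro x
    have h2 : (0 ≤ x.1 (s.symm 0) ∧ 0 ≤ x.1 (s.symm 1)) → x.1 (s.symm 2) < 0 := fun h => by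
      by_contra h'
      obtain ⟨c⟩ := x.2
      exact (isEmpty_posComp_nonneg I x.1 fun l => by rcases perm_cover s l with rfl | rfl | rfl <;> omega).elim c
    by_cases h : 0 ≤ x.1 (s.symm 0) ∧ 0 ≤ x.1 (s.symm 1)
    · rw [if_pos, Finset.sum_eq_single ((x.1 (s.symm 0)).toNat, (x.1 (s.symm 1)).toNat), if_pos]
      · constructor <;> simp <;> omega
      · intro P _ hP
        rw [if_neg]
        rintro ⟨e0, e1⟩
        exact hP (Prod.ext (by simp [e0]) (by simp [e1]))
      · intro hn
        exfalso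
        apply hn
        have := hNa x (s.symm 0); have := hNa x (s.symm 1)
        simp only [B, Finset.mem_product, Finset.mem_range]
        omega
      · intro l
        rcases perm_cover s l with rfl | rfl | rfl
        · simp [hne01]; omega
        · simp [hne12]; omega
        · simp [h2 h]
    · rw [if_neg fun hh => h ⟨not_lt.1 fun e => hne01 ((hh _).1 e), not_lt.1 fun e => hne12 ((hh _).1 e)⟩]
      refine (Finset.sum_eq_zero fun P _ => if_neg ?_).symm
      rintro ⟨e0, e1⟩
      exact h ⟨by omega, by omega⟩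
  have hright : ∀ x : degSet I,
      (if (∀ l, x.1 l < 0 ↔ l ∈ ({s.symm 2}ᶜ : Set (Fin 3))) then Module.finrank k ↥(tPiece I x.1) else 0) =
      ∑ P ∈ B, (if x.1 (s.symm 0) = -(P.1 : ℤ) - 1 ∧ x.1 (s.symm 1) = -(P.2 : ℤ) - 1 then Module.finrank k ↥(tPiece I x.1) else 0) := by
    intro x
    have h2 : (x.1 (s.symm 0) < 0 ∧ x.1 (s.symm 1) < 0) → 0 ≤ x.1 (s.symm 2) := fun h => by
      by_contra h'
      obtain ⟨c⟩ := x.2
      exact (isEmpty_posComp_neg I x.1 hI fun l => by rcases perm_cover s l with rfl | rfl | rfl <;> omega).elim c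
    by_cases h : x.1 (s.symm 0) < 0 ∧ x.1 (s.symm 1) < 0
    · rw [if_pos, Finset.sum_eq_single ((-x.1 (s.symm 0) - 1).toNat, (-x.1 (s.symm 1) - 1).toNat), if_pos]
      · constructor <;> simp <;> omega
      · intro P _ hP
        rw [if_neg]
        rintro ⟨e0, e1⟩
        exact hP (Prod.ext (by simp [e0]) (by simp [e1]))
      · intro hn
        exfalso
        apply hn
        have := hNa x (s.symm 0); have := hNa x (s.symm 1)
        simp only [B, Finset.mem_product, Finset.mem_range]
        omega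
      · intro l
        rcases perm_cover s l with rfl | rfl | rfl
        · simp [hne01]; omega
        · simp [hne12]; omega
        · simp; exact h2 h
    · rw [if_neg fun hh => h ⟨(hh _).2 hne01, (hh _).2 hne12⟩]
      refine (Finset.sum_eq_zero fun P _ => if_neg ?_).symm
      rintro ⟨e0, e1⟩
      exact h ⟨by omega, by omega⟩
  refine (Finset.sum_congr rfl fun x _ => ?_).trans (hsum.trans ?_)
  · exact (ite_irrel _ _).trans ((hleft x).trans (Finset.sum_congr rfl fun P _ => ite_irrel _ _))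
  · rw [add_comm]
    congr 1
    refine Finset.sum_congr rfl fun x _ => ?_
    exact (((ite_irrel _ _).trans (hright x)).trans (Finset.sum_congr rfl fun P _ => ite_irrel _ _)).symm

include hI in
theorem finrank_sigPiece_single (i : Fin 3) :
    Module.finrank k ↥(sigPiece I {i}) =
      Module.finrank k ↥(sigPiece I ({i}ᶜ : Set (Fin 3))) + Module.finrank k (MvPolynomial (Fin 3) k ⧸ I) := by
  have h := finrank_sigPiece_dual I (Equiv.swap i 2) hI
  rwa [Equiv.symm_swap, Equiv.swap_apply_right] at h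

include hI in
theorem finrank_Tgt_parity :
    Module.finrank k (Tgt I) % 2 = Module.finrank k (MvPolynomial (Fin 3) k ⧸ I) % 2 := by
  classical
  haveI := (finite_degSet I hI).to_subtype
  haveI := Fintype.ofFinite (degSet I)
  have key : ∀ x : degSet I, (1 : ℕ) = ∑ i : Fin 3,
      ((if (∀ l, x.1 l < 0 ↔ l ∈ ({i} : Set (Fin 3))) then 1 else 0) +
       (if (∀ l, x.1 l < 0 ↔ l ∈ ({i}ᶜ : Set (Fin 3))) then 1 else 0)) := by
    intro x
    obtain ⟨c⟩ := x.2
    have h1 : ¬ ∀ l, 0 ≤ x.1 l := fun h => (isEmpty_posComp_nonneg I x.1 h).elim c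
    have h2 : ¬ ∀ l, x.1 l < 0 := fun h => (isEmpty_posComp_neg I x.1 hI h).elim c
    simp only [Fin.forall_fin_succ, Fin.succ_zero_eq_one, Fin.succ_one_eq_two, IsEmpty.forall_iff, and_true] at h1 h2
    by_cases p0 : x.1 0 < 0 <;> by_cases p1 : x.1 1 < 0 <;> by_cases p2 : x.1 2 < 0 <;>
      simp_all [Fin.sum_univ_three, Fin.forall_fin_succ] <;> (try split_ifs) <;> omega
  have htot : Module.finrank k (Tgt I) = ∑ i : Fin 3,
      (Module.finrank k ↥(sigPiece I {i}) + Module.finrank k ↥(sigPiece I ({i}ᶜ : Set (Fin 3)))) := by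
    simp only [finrank_sigPiece_eq I hI]
    simp only [← Finset.sum_add_distrib]
    rw [Finset.sum_comm, finrank_Tgt I hI]
    refine Finset.sum_congr rfl fun x _ => ?_
    calc Module.finrank k ↥(tPiece I x.1) = Module.finrank k ↥(tPiece I x.1) * 1 := (mul_one _).symm
      _ = _ := by rw [key x, Finset.mul_sum]; simp [mul_add]
  rw [htot, Finset.sum_congr rfl fun i _ => by rw [finrank_sigPiece_single I hI i]]
  simp only [Fin.sum_univ_three]
  omega

end HilbTgtLib

namespace HilbTgtLib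
open MvPolynomial W4c1hilbpn

theorem e3_eq (a b c : ℕ) : e3 a b c = e3' (1 : Equiv.Perm (Fin 3)) a b c := rfl

theorem stairZ_eq {k : Type*} [Field k] (I : Ideal (MvPolynomial (Fin 3) k))
    [Module.Finite k (MvPolynomial (Fin 3) k ⧸ I)] (hI : IsMonomial I) (a b : ℕ) :
    stairZ I a b = stair I 1 (a, b) := by
  have : ∀ c, e3 a b c ∉ exps I ↔ c < stair I 1 (a, b) := fun c => by
    rw [e3_eq, mem_exps_iff I 1 hI, not_le]
  rw [stairZ, Nat.card_congr ((Equiv.subtypeEquivRight this).trans ((Equiv.refl ℕ).subtypeEquiv (q := fun c => c < stair I 1 (a, b)) fun _ => Iff.rfl)),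
    Nat.card_congr (Fin.equivSubtype (n := stair I 1 (a, b))).symm, Nat.card_fin]

end HilbTgtLib
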